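import Mathlib
import Cfsg.Agent.Lib.D4S.Cub

/-! # The unipotent group of type `³D₄` in coordinates, in every characteristic

`u : Wd K` stands for `x_β(b) x_{α+β}(c) x_{2α+β}(d) x_{3α+β}(e) x_{3α+2β}(f) x_α(a)`. -/

set_option autoImplicit false
set_option linter.unusedSectionVars false
set_option linter.unusedVariables false
set_option linter.unusedSimpArgs false
set_option linter.unnecessarySeqFocus false

namespace H69.T3

open H89.D4S Subgroup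
open scoped commutatorElement

/-- `K` is a cubic field extension of `k` with Galois group generated by `θ` -/
class Fc {k : Type*} (K : Type*) [Field k] [Field K] [Cub k K] : Prop where
  fix : ∀ x : K, θ x = x → ∃ t : k, ι t = x
  card : Nat.card K = Nat.card k ^ 3

/-- closes polynomial identities in `K` between `ι, T, N, sh, cr` -/
macro "cb" : tactic =>
  `(tactic| ((try simp only [map_add, map_sub, map_neg, map_mul, map_pow, map_one, map_zero, map_ofNat, ιT, ιN, θι,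
    θ3, sh, cr]) <;> ring1))
/-- `cbk K` closes polynomial identities in the small field -/
macro "cbk " J:term : tactic => `(tactic| (apply ι_inj (J := $J); cb))

@[ext] structure Wd {k : Type*} (K : Type*) [Field k] [Field K] [Cub k K] where
  a : K
  b : k
  c : K
  d : K
  e : k
  f : k

variable {k K : Type*} [Field k] [Field K] [Cub k K]

@[simp] theorem sh_neg (x : K) : sh (-x) = sh x := by cb
@[simp] theorem cr_neg (x y : K) : cr x (-y) = -cr x y := by cb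
@[simp] theorem neg_cr (x y : K) : cr (-x) y = -cr x y := by cb
@[simp] theorem N_neg (x : K) : N (-x) = -N x := by cbk K
theorem cr_sub (x y z : K) : cr x (y - z) = cr x y - cr x z := by cb
theorem sub_cr (x y z : K) : cr (x - y) z = cr x z - cr y z := by cb
theorem cr_self' (x : K) : cr x x = 2 * sh x := by cb
theorem T_cr_self' (x y : K) : T (x * cr x y) = 2 * T (sh x * y) := by cbk K
theorem T_mul_sh' (x : K) : T (x * sh x) = 3 * N x := by cbk K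
theorem T_ι' (t : k) : T (ι t : K) = 3 * t := by cbk K

namespace Wd

theorem ext' {u v : Wd K} (h0 : u.a = v.a) (h5 : (ι u.b : K) = ι v.b) (h4 : u.c = v.c)
    (h2 : u.d = v.d) (h1 : (ι u.e : K) = ι v.e) (h3 : (ι u.f : K) = ι v.f) : u = v :=
  Wd.ext h0 (ι_inj h5) h4 h2 (ι_inj h1) (ι_inj h3)

instance : Mul (Wd K) := ⟨fun g h =>
  ⟨g.a + h.a, g.b + h.b, g.c + h.c + ι h.b * g.a, g.d + h.d + cr g.a h.c + ι h.b * sh g.a,
    g.e + h.e + T (g.a * h.d) + T (sh g.a * h.c) + h.b * N g.a,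
    g.f + h.f + h.b ^ 2 * N g.a + T (g.a * sh h.c) + h.b * T (sh g.a * h.c) - g.e * h.b +
      T (g.d * (h.c + ι h.b * g.a))⟩⟩
instance : One (Wd K) := ⟨⟨0, 0, 0, 0, 0, 0⟩⟩
instance : Inv (Wd K) := ⟨fun g =>
  ⟨-g.a, -g.b, -g.c + ι g.b * g.a, -g.d + cr g.a g.c - ι g.b * sh g.a,
    -g.e + T (g.a * g.d) - T (sh g.a * g.c) + g.b * N g.a,
    -g.f - g.e * g.b + T (g.d * g.c) + g.b * T (sh g.a * g.c) - T (g.a * sh g.c) - g.b ^ 2 * N g.a⟩⟩

@[simp] theorem mul_a (g h : Wd K) : (g * h).a = g.a + h.a := rfl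
@[simp] theorem mul_b (g h : Wd K) : (g * h).b = g.b + h.b := rfl
@[simp] theorem mul_c (g h : Wd K) : (g * h).c = g.c + h.c + ι h.b * g.a := rfl
@[simp] theorem mul_d (g h : Wd K) : (g * h).d = g.d + h.d + cr g.a h.c + ι h.b * sh g.a := rfl
@[simp] theorem mul_e (g h : Wd K) :
    (g * h).e = g.e + h.e + T (g.a * h.d) + T (sh g.a * h.c) + h.b * N g.a := rfl
@[simp] theorem mul_f (g h : Wd K) : (g * h).f =
    g.f + h.f + h.b ^ 2 * N g.a + T (g.a * sh h.c) + h.b * T (sh g.a * h.c) - g.e * h.b +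
      T (g.d * (h.c + ι h.b * g.a)) := rfl
@[simp] theorem one_a : (1 : Wd K).a = 0 := rfl
@[simp] theorem one_b : (1 : Wd K).b = 0 := rfl
@[simp] theorem one_c : (1 : Wd K).c = 0 := rfl
@[simp] theorem one_d : (1 : Wd K).d = 0 := rfl
@[simp] theorem one_e : (1 : Wd K).e = 0 := rfl
@[simp] theorem one_f : (1 : Wd K).f = 0 := rfl
@[simp] theorem inv_a (g : Wd K) : g⁻¹.a = -g.a := rfl
@[simp] theorem inv_b (g : Wd K) : g⁻¹.b = -g.b := rfl
@[simp] theorem inv_c (g : Wd K) : g⁻¹.c = -g.c + ι g.b * g.a := rfl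
@[simp] theorem inv_d (g : Wd K) : g⁻¹.d = -g.d + cr g.a g.c - ι g.b * sh g.a := rfl
@[simp] theorem inv_e (g : Wd K) :
    g⁻¹.e = -g.e + T (g.a * g.d) - T (sh g.a * g.c) + g.b * N g.a := rfl
@[simp] theorem inv_f (g : Wd K) : g⁻¹.f =
    -g.f - g.e * g.b + T (g.d * g.c) + g.b * T (sh g.a * g.c) - T (g.a * sh g.c) - g.b ^ 2 * N g.a := rfl

/-- expands the coordinates -/
macro "wds" : tactic =>
  `(tactic| simp only [commutatorElement_def, Wd.mul_a, Wd.mul_b, Wd.mul_c, Wd.mul_d, Wd.mul_e, Wd.mul_f, Wd.inv_a,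
    Wd.inv_b, Wd.inv_c, Wd.inv_d, Wd.inv_e, Wd.inv_f, Wd.one_a, Wd.one_b, Wd.one_c, Wd.one_d, Wd.one_e, Wd.one_f])

instance : Group (Wd K) := Group.ofLeftAxioms
  (fun a b c => by apply ext' <;> wds <;> cb)
  (fun a => by ext <;> simp)
  (fun a => by apply ext' <;> wds <;> cb)

/-- closes coordinate identities -/
macro "wd" : tactic => `(tactic| (apply Wd.ext' <;> (try wds) <;> cb))
/-- `wdw [h₁, …]` rewrites the coordinates with the `hᵢ` first -/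
macro "wdw " "[" ts:term,* "]" : tactic =>
  `(tactic| (apply Wd.ext' <;> (try wds) <;> (try simp only [$[$ts:term],*]) <;> cb))

def equiv6 : Wd K ≃ K × k × K × K × k × k where
  toFun u := (u.a, u.b, u.c, u.d, u.e, u.f)
  invFun v := ⟨v.1, v.2.1, v.2.2.1, v.2.2.2.1, v.2.2.2.2.1, v.2.2.2.2.2⟩
  left_inv _ := rfl
  right_inv _ := rfl

instance [Finite k] [Finite K] : Finite (Wd K) := Finite.of_equiv _ equiv6.symm

theorem card : Nat.card (Wd K) = Nat.card K ^ 3 * Nat.card k ^ 3 := by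
  rw [Nat.card_congr equiv6]; simp only [Nat.card_prod]; ring

theorem eq_one {u : Wd K} : u = 1 ↔ u.a = 0 ∧ u.b = 0 ∧ u.c = 0 ∧ u.d = 0 ∧ u.e = 0 ∧ u.f = 0 :=
  Wd.ext_iff

end Wd

open Wd

/-- root elements -/
def ga (t : K) : Wd K := ⟨t, 0, 0, 0, 0, 0⟩
def gb (t : k) : Wd K := ⟨0, t, 0, 0, 0, 0⟩
def gc (t : K) : Wd K := ⟨0, 0, t, 0, 0, 0⟩
def gd (t : K) : Wd K := ⟨0, 0, 0, t, 0, 0⟩
def ge (t : k) : Wd K := ⟨0, 0, 0, 0, t, 0⟩
def gf (t : k) : Wd K := ⟨0, 0, 0, 0, 0, t⟩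

theorem eq_prod (u : Wd K) : u = gb u.b * gc u.c * gd u.d * ge u.e * gf u.f * ga u.a := by
  ext <;> simp [ga, gb, gc, gd, ge, gf]

section comm
variable (x y : Wd K)
@[simp] theorem comm_a : (⁅x, y⁆).a = 0 := by wds; ring
@[simp] theorem comm_b : (⁅x, y⁆).b = 0 := by wds; ring
theorem comm_c : (⁅x, y⁆).c = ι y.b * x.a - ι x.b * y.a := by wds; cb
variable {x y}
theorem comm_d (hx : x.b = 0) (hy : y.b = 0) : (⁅x, y⁆).d = cr x.a y.c - cr y.a x.c := by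
  wds; simp only [hx, hy]; cb
theorem comm_Q2 (hx : x.a = 0) (hy : y.a = 0) :
    ⁅x, y⁆ = gf (x.b * y.e - x.e * y.b - T (x.c * y.d) + T (x.d * y.c)) := by wdw [gf, hx, hy]
/-- commutators with `Z4` -/
theorem comm_Z4 (ha : y.a = 0) (hb : y.b = 0) : (⁅x, y⁆).c = 0 ∧ (⁅x, y⁆).d = cr x.a y.c ∧
    (⁅x, y⁆).e = T (x.a * y.d) + T (sh x.a * y.c) := by
  refine ⟨?_, ?_, ι_inj (J := K) ?_⟩ <;> wds <;> simp only [ha, hb] <;> cb
/-- commutators with `Z3` -/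
theorem comm_Z3 (ha : y.a = 0) (hb : y.b = 0) (hc : y.c = 0) : ⁅x, y⁆ =
    ⟨0, 0, 0, 0, T (x.a * y.d), x.b * y.e + x.b * T (x.a * y.d) - T (x.c * y.d)⟩ := by wdw [ha, hb, hc]
end comm

section subgroups
variable (K)
/-- the centre -/
def Z1 : Subgroup (Wd K) where
  carrier := {u | u.a = 0 ∧ u.b = 0 ∧ u.c = 0 ∧ u.d = 0 ∧ u.e = 0}
  mul_mem' ha hb := by simp_all
  one_mem' := ⟨rfl, rfl, rfl, rfl, rfl⟩
  inv_mem' ha := by simp_all
def Z2 : Subgroup (Wd K) where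
  carrier := {u | u.a = 0 ∧ u.b = 0 ∧ u.c = 0 ∧ u.d = 0}
  mul_mem' ha hb := by simp_all
  one_mem' := ⟨rfl, rfl, rfl, rfl⟩
  inv_mem' ha := by simp_all
def Z3 : Subgroup (Wd K) where
  carrier := {u | u.a = 0 ∧ u.b = 0 ∧ u.c = 0}
  mul_mem' ha hb := by simp_all
  one_mem' := ⟨rfl, rfl, rfl⟩
  inv_mem' ha := by simp_all
def Z4 : Subgroup (Wd K) where
  carrier := {u | u.a = 0 ∧ u.b = 0}
  mul_mem' ha hb := by simp_all
  one_mem' := ⟨rfl, rfl⟩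
  inv_mem' ha := by simp_all
/-- the radical `q^{2+3+6}` -/
def Q1 : Subgroup (Wd K) where
  carrier := {u | u.b = 0}
  mul_mem' ha hb := by simp_all
  one_mem' := rfl
  inv_mem' ha := by simp_all
/-- the radical `q^{1+8}` -/
def Q2 : Subgroup (Wd K) where
  carrier := {u | u.a = 0}
  mul_mem' ha hb := by simp_all
  one_mem' := rfl
  inv_mem' ha := by simp_all
/-- the root group of `3α+β` -/
def Xe : Subgroup (Wd K) where
  carrier := {u | u.a = 0 ∧ u.b = 0 ∧ u.c = 0 ∧ u.d = 0 ∧ u.f = 0}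
  mul_mem' ha hb := by simp_all
  one_mem' := ⟨rfl, rfl, rfl, rfl, rfl⟩
  inv_mem' ha := by simp_all
/-- the conjugates of `Z4` in `Q1` -/
def Rm (μ : k) : Subgroup (Wd K) where
  carrier := {u | u.b = 0 ∧ u.c = ι μ * u.a}
  mul_mem' ha hb := by simp_all [mul_add]
  one_mem' := ⟨rfl, by simp⟩
  inv_mem' ha := by simp_all
variable {K} {u : Wd K}
@[simp] theorem mem_Z1 : u ∈ Z1 K ↔ u.a = 0 ∧ u.b = 0 ∧ u.c = 0 ∧ u.d = 0 ∧ u.e = 0 := Iff.rfl
@[simp] theorem mem_Z2 : u ∈ Z2 K ↔ u.a = 0 ∧ u.b = 0 ∧ u.c = 0 ∧ u.d = 0 := Iff.rfl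
@[simp] theorem mem_Z3 : u ∈ Z3 K ↔ u.a = 0 ∧ u.b = 0 ∧ u.c = 0 := Iff.rfl
@[simp] theorem mem_Z4 : u ∈ Z4 K ↔ u.a = 0 ∧ u.b = 0 := Iff.rfl
@[simp] theorem mem_Q1 : u ∈ Q1 K ↔ u.b = 0 := Iff.rfl
@[simp] theorem mem_Q2 : u ∈ Q2 K ↔ u.a = 0 := Iff.rfl
@[simp] theorem mem_Xe : u ∈ Xe K ↔ u.a = 0 ∧ u.b = 0 ∧ u.c = 0 ∧ u.d = 0 ∧ u.f = 0 := Iff.rfl
@[simp] theorem mem_Rm {μ : k} : u ∈ Rm K μ ↔ u.b = 0 ∧ u.c = ι μ * u.a := Iff.rfl

theorem Z1_le : Z1 K ≤ Z2 K := fun _ h => ⟨h.1, h.2.1, h.2.2.1, h.2.2.2.1⟩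
theorem Z2_le : Z2 K ≤ Z3 K := fun _ h => ⟨h.1, h.2.1, h.2.2.1⟩
theorem Z3_le : Z3 K ≤ Z4 K := fun _ h => ⟨h.1, h.2.1⟩
theorem Z4_le1 : Z4 K ≤ Q1 K := fun _ h => h.2
theorem Z4_le2 : Z4 K ≤ Q2 K := fun _ h => h.1
theorem Xe_le : Xe K ≤ Z2 K := fun _ h => ⟨h.1, h.2.1, h.2.2.1, h.2.2.2.1⟩

theorem comm_mem4 (x y : Wd K) : ⁅x, y⁆ ∈ Z4 K := ⟨comm_a x y, comm_b x y⟩
theorem comm_mem3 (x : Wd K) {y : Wd K} (h : y ∈ Z4 K) : ⁅x, y⁆ ∈ Z3 K :=
  ⟨comm_a x y, comm_b x y, (comm_Z4 h.1 h.2).1⟩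
theorem comm_mem2 (x : Wd K) {y : Wd K} (h : y ∈ Z3 K) : ⁅x, y⁆ ∈ Z2 K := by
  rw [comm_Z3 h.1 h.2.1 h.2.2]; exact ⟨rfl, rfl, rfl, rfl⟩
theorem comm_mem1 (x : Wd K) {y : Wd K} (h : y ∈ Z2 K) : ⁅x, y⁆ ∈ Z1 K := by
  rw [comm_Z3 h.1 h.2.1 h.2.2.1]; simp [h.2.2.2]
theorem comm_mem0 (x : Wd K) {y : Wd K} (h : y ∈ Z1 K) : ⁅x, y⁆ = 1 := by
  rw [comm_Z3 h.1 h.2.1 h.2.2.1]; simp [eq_one, h.2.2.2.1, h.2.2.2.2]
theorem comm_memQ1 {x y : Wd K} (hx : x ∈ Q1 K) (hy : y ∈ Q1 K) : ⁅x, y⁆ ∈ Z3 K :=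
  ⟨comm_a x y, comm_b x y, by rw [comm_c, mem_Q1.1 hx, mem_Q1.1 hy]; simp⟩
theorem comm_memQ2 {x y : Wd K} (hx : x ∈ Q2 K) (hy : y ∈ Q2 K) : ⁅x, y⁆ ∈ Z1 K := by
  rw [comm_Q2 hx hy]; exact ⟨rfl, rfl, rfl, rfl, rfl⟩

theorem normal_of {A : Subgroup (Wd K)} (h : ∀ x : Wd K, ∀ y ∈ A, ⁅x, y⁆ ∈ A) : A.Normal :=
  ⟨fun y hy x => by simpa [commutatorElement_def] using mul_mem (h x y hy) hy⟩
instance : (Z1 K).Normal := normal_of fun x _ h => comm_mem0 x h ▸ one_mem _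
instance : (Z2 K).Normal := normal_of fun x _ h => Z1_le (comm_mem1 x h)
instance : (Z3 K).Normal := normal_of fun x _ h => Z2_le (comm_mem2 x h)
instance : (Z4 K).Normal := normal_of fun x y _ => comm_mem4 x y
instance : (Q1 K).Normal := normal_of fun x y _ => Z4_le1 (comm_mem4 x y)
instance : (Q2 K).Normal := normal_of fun x y _ => Z4_le2 (comm_mem4 x y)
end subgroups

/-- the Weyl element of the Levi factor `SL₂(q³)`, acting on `Q2` -/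
def na (u : Wd K) : Wd K := ⟨0, u.e, -u.d, u.c, -u.b, u.f + u.b * u.e - T (u.c * u.d)⟩
/-- the Weyl element of the Levi factor `SL₂(q)`, acting on `Q1` -/
def nb (u : Wd K) : Wd K := ⟨u.c, 0, -u.a, u.d - cr u.c u.a, -u.f + T (u.c * u.d) - T (sh u.c * u.a),
  u.e + T (u.c * sh u.a) - T (u.d * u.a)⟩

theorem na_mul {x y : Wd K} (hx : x ∈ Q2 K) (hy : y ∈ Q2 K) : na (x * y) = na x * na y := by
  apply ext' <;> simp only [na] <;> (try wds) <;> (try simp only [mem_Q2.1 hx, mem_Q2.1 hy]) <;> cb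
theorem nb_mul {x y : Wd K} (hx : x ∈ Q1 K) (hy : y ∈ Q1 K) : nb (x * y) = nb x * nb y := by
  apply ext' <;> simp only [nb] <;> (try wds) <;> (try simp only [mem_Q1.1 hx, mem_Q1.1 hy]) <;> cb
theorem na_mem (x : Wd K) : na x ∈ Q2 K := rfl
theorem nb_mem (x : Wd K) : nb x ∈ Q1 K := rfl
theorem na_four {x : Wd K} (hx : x ∈ Q2 K) : na (na (na (na x))) = x := by
  apply ext' <;> simp only [na, mem_Q2.1 hx] <;> cb
theorem nb_four {x : Wd K} (hx : x ∈ Q1 K) : nb (nb (nb (nb x))) = x := by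
  apply ext' <;> simp only [nb, mem_Q1.1 hx] <;> cb

/-- the restriction of a field automorphism to the small field -/
noncomputable def rk (ρ : K ≃+* K) (t : k) : k := Function.invFun (ι : k → K) (ρ (ι t))

section fin
variable [Finite K]
theorem aut_θ (ρ : K ≃+* K) (x : K) : ρ (θ x) = θ (ρ x) := by
  have := Fintype.ofFinite K
  obtain ⟨p, hp⟩ := CharP.exists K
  have := Fact.mk (CharP.char_is_prime K p)
  letI := ZMod.algebra K p
  let g : K ≃ₐ[ZMod p] K := AlgEquiv.ofRingEquiv (f := RingEquiv.ofBijective (θ : K →+* K)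
    (Finite.injective_iff_bijective.1 (θ : K →+* K).injective)) (fun x => by
      obtain ⟨n, rfl⟩ := ZMod.natCast_zmod_surjective x
      simp)
  obtain ⟨n, hn⟩ := FiniteField.exists_forall_apply_eq_pow (ZMod p) p K g
  have h1 : ∀ y : K, θ y = y ^ (p ^ n) := fun y => by simpa [g] using hn y
  rw [h1, h1, map_pow]
variable [Fc K]
@[simp] theorem ι_rk (ρ : K ≃+* K) (t : k) : (ι (rk ρ t) : K) = ρ (ι t) :=
  Function.invFun_eq (Fc.fix _ (by rw [← aut_θ, θι]))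
@[simp] theorem rk_add (ρ : K ≃+* K) (s t : k) : rk ρ (s + t) = rk ρ s + rk ρ t := ι_inj (J := K) (by simp [-ι_eq_iff])
@[simp] theorem rk_sub (ρ : K ≃+* K) (s t : k) : rk ρ (s - t) = rk ρ s - rk ρ t := ι_inj (J := K) (by simp [-ι_eq_iff])
@[simp] theorem rk_neg (ρ : K ≃+* K) (s : k) : rk ρ (-s) = -rk ρ s := ι_inj (J := K) (by simp [-ι_eq_iff])
@[simp] theorem rk_mul (ρ : K ≃+* K) (s t : k) : rk ρ (s * t) = rk ρ s * rk ρ t := ι_inj (J := K) (by simp [-ι_eq_iff])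
@[simp] theorem rk_pow (ρ : K ≃+* K) (s : k) (n : ℕ) : rk ρ (s ^ n) = rk ρ s ^ n := ι_inj (J := K) (by simp [-ι_eq_iff])
@[simp] theorem rk_zero (ρ : K ≃+* K) : rk ρ (0 : k) = 0 := ι_inj (J := K) (by simp [-ι_eq_iff])
@[simp] theorem rk_one (ρ : K ≃+* K) : rk ρ (1 : k) = 1 := ι_inj (J := K) (by simp [-ι_eq_iff])
@[simp] theorem rk_id (t : k) : rk (1 : K ≃+* K) t = t := ι_inj (J := K) (by simp [-ι_eq_iff])
theorem rk_rk (ρ σ : K ≃+* K) (t : k) : rk (ρ * σ) t = rk ρ (rk σ t) := ι_inj (J := K) (by simp [-ι_eq_iff])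
@[simp] theorem rk_T (ρ : K ≃+* K) (x : K) : rk ρ (T x) = T (ρ x) := ι_inj (J := K) (by simp [-ι_eq_iff, ιT, aut_θ])
@[simp] theorem rk_N (ρ : K ≃+* K) (x : K) : rk ρ (N x) = N (ρ x) := ι_inj (J := K) (by simp [-ι_eq_iff, ιN, aut_θ])
theorem aut_sh (ρ : K ≃+* K) (x : K) : ρ (sh x) = sh (ρ x) := by simp [sh, aut_θ]
theorem aut_cr (ρ : K ≃+* K) (x y : K) : ρ (cr x y) = cr (ρ x) (ρ y) := by simp [cr, aut_θ]

/-- the diagonal and field automorphism with weight `l` on `α`, `m` on `β` -/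
noncomputable def dg (l : K) (m : k) (ρ : K ≃+* K) : Wd K →* Wd K := MonoidHom.mk'
  (fun u => ⟨l * ρ u.a, m * rk ρ u.b, l * ι m * ρ u.c, sh l * ι m * ρ u.d, N l * m * rk ρ u.e,
    N l * m ^ 2 * rk ρ u.f⟩) (fun x y => by
      apply ext' <;> wds <;> simp only [rk_add, rk_sub, rk_mul, rk_pow, rk_T, rk_N, map_add, map_mul, aut_sh,
        aut_cr, ← ι_rk] <;> cb)

variable (l : K) (m : k) (ρ : K ≃+* K) (u : Wd K)
@[simp] theorem dg_a : (dg l m ρ u).a = l * ρ u.a := rfl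
@[simp] theorem dg_b : (dg l m ρ u).b = m * rk ρ u.b := rfl
@[simp] theorem dg_c : (dg l m ρ u).c = l * ι m * ρ u.c := rfl
@[simp] theorem dg_d : (dg l m ρ u).d = sh l * ι m * ρ u.d := rfl
@[simp] theorem dg_e : (dg l m ρ u).e = N l * m * rk ρ u.e := rfl
@[simp] theorem dg_f : (dg l m ρ u).f = N l * m ^ 2 * rk ρ u.f := rfl
theorem dg_one : dg (1 : K) (1 : k) 1 u = u := by ext <;> simp
theorem dg_dg (l' : K) (m' : k) (σ : K ≃+* K) :
    dg l m ρ (dg l' m' σ u) = dg (l * ρ l') (m * rk ρ m') (ρ * σ) u := by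
  apply ext' <;> simp only [dg_a, dg_b, dg_c, dg_d, dg_e, dg_f, rk_rk, rk_mul, rk_pow, rk_N, map_mul, aut_sh,
    RingAut.mul_apply, ← ι_rk] <;> cb
end fin

theorem auto_lemmas_T3W : True := by
  have := @ga.eq_1.{0, 0}
  have := @gb.eq_1.{0, 0}
  have := @gc.eq_1.{0, 0}
  have := @gd.eq_1.{0, 0}
  have := @ge.eq_1.{0, 0}
  have := @gf.eq_1.{0, 0}
  have := @na.eq_1.{0, 0}
  have := @nb.eq_1.{0, 0}
  have := @rk.eq_1.{0, 0}
  have := @dg.eq_1.{0, 0}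
  trivial

end H69.T3
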