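import Mathlib
import Cfsg.Agent.Base
import Cfsg.Agent.Lib.T3F.W
import Cfsg.Agent.Lib.SpX.Ev

/-! # Fusion systems over a Sylow subgroup of `³D₄(q)`: interfaces -/

set_option autoImplicit false
set_option linter.unusedSectionVars false
set_option linter.unusedVariables false
set_option linter.unusedSimpArgs false
set_option linter.unnecessarySeqFocus false

namespace H69.T3

open H89.D4S Subgroup H93.SX
open H68 (SylowIn)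
open scoped commutatorElement

section Gen

variable {W : Type*} [Group W]

/-- `f` restricts to an automorphism of `E`. -/
structure Au (E : Subgroup W) (f : W → W) : Prop where
  mem : ∀ x ∈ E, f x ∈ E
  mul : ∀ x ∈ E, ∀ y ∈ E, f (x * y) = f x * f y
  inj : ∀ x ∈ E, f x = 1 → x = 1

/-- `A` is a subgroup of `E` invariant under `𝒜`. -/
def Iv (𝒜 : Set (W → W)) (E A : Subgroup W) : Prop := A ≤ E ∧ ∀ f ∈ 𝒜, ∀ x ∈ A, f x ∈ A

/-- The hypotheses of the transvection lemma. -/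
structure Tv (M E : Subgroup W) (𝒜 : Set (W → W)) (T N Z Y : Subgroup W) : Prop where
  le : T ≤ M
  nle : ¬ T ≤ E
  nz : N ≤ Z
  zy : Z ≤ Y
  ye : Y ≤ E
  iv : Iv 𝒜 E N
  te : ∀ t ∈ T, ∀ x ∈ E, ⁅t, x⁆ ∈ Z
  ty : ∀ t ∈ T, ∀ x ∈ Y, ⁅t, x⁆ ∈ N
  tn : ∀ t ∈ T, ∀ x ∈ N, ⁅t, x⁆ ∈ ⁅E, E⁆
  ze : ∀ z ∈ Z, ∀ x ∈ E, ⁅z, x⁆ ∈ N
  surj : ∀ f ∈ 𝒜, ∀ z ∈ Z, f z ∉ Y → ∀ z' ∈ Z, ∃ t ∈ T, ⁅t, f z⁆ * z'⁻¹ ∈ N

/-- Its conclusion. -/
structure Tq (M E : Subgroup W) (N Z Y : Subgroup W) (f : W → W) : Prop where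
  a : ∀ z ∈ Z, f z ∈ Y → z ∈ N
  b : ∀ y ∈ Y, f y ∈ Z → y ∈ N
  ne : ¬ Z ≤ N
  st : ∀ z ∈ Z, z ∉ N → ∀ s ∈ M, (∀ x ∈ E, s * x * s⁻¹ ∈ E) → (∃ y ∈ Y, s * f z * s⁻¹ = f y) → s ∈ E

/-- What is used of an essential subgroup `E` with automizer `𝒜`, relative to an overgroup `M`. -/
structure Gd (M E : Subgroup W) (𝒜 : Set (W → W)) : Prop where
  le : E ≤ M
  au : ∀ f ∈ 𝒜, Au E f
  inv : ∀ f ∈ 𝒜, ∃ g ∈ 𝒜, (∀ x ∈ E, g (f x) = x) ∧ ∀ x ∈ E, f (g x) = x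
  comp : ∀ f ∈ 𝒜, ∀ g ∈ 𝒜, ∃ h ∈ 𝒜, ∀ x ∈ E, h x = f (g x)
  cj : ∀ s ∈ M, (∀ x ∈ E, s * x * s⁻¹ ∈ E) → ∃ f ∈ 𝒜, ∀ x ∈ E, f x = s * x * s⁻¹
  chain : ∀ t ∈ M, ∀ A B, Iv 𝒜 E A → Iv 𝒜 E B → (∀ x ∈ E, ⁅t, x⁆ ∈ A) →
    (∀ x ∈ A, ⁅t, x⁆ ∈ B) → (∀ x ∈ B, ⁅t, x⁆ ∈ ⁅E, E⁆) → t ∈ E
  tv : ∀ T N Z Y, Tv M E 𝒜 T N Z Y → ∃ f ∈ 𝒜, Tq M E N Z Y f

namespace Au

variable {E : Subgroup W} {f : W → W} (h : Au E f) {x y : W}
include h

theorem one : f 1 = 1 := by simpa using h.mul 1 (one_mem E) 1 (one_mem E)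

theorem inv (hx : x ∈ E) : f x⁻¹ = (f x)⁻¹ :=
  eq_inv_of_mul_eq_one_left (by rw [← h.mul _ (inv_mem hx) _ hx, inv_mul_cancel, h.one])

theorem comm (hx : x ∈ E) (hy : y ∈ E) : f ⁅x, y⁆ = ⁅f x, f y⁆ := by
  rw [commutatorElement_def, commutatorElement_def, h.mul _ (mul_mem (mul_mem hx hy) (inv_mem hx)) _ (inv_mem hy),
    h.mul _ (mul_mem hx hy) _ (inv_mem hx), h.mul _ hx _ hy, h.inv hx, h.inv hy]

theorem pow (hx : x ∈ E) (n : ℕ) : f (x ^ n) = f x ^ n := by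
  induction n with
  | zero => simpa using h.one
  | succ n ih => rw [pow_succ, h.mul _ (pow_mem hx n) _ hx, ih, pow_succ]

theorem eq (hx : x ∈ E) (hy : y ∈ E) (e : f x = f y) : x = y :=
  mul_inv_eq_one.1 (h.inj _ (mul_mem hx (inv_mem hy)) (by
    rw [h.mul _ hx _ (inv_mem hy), h.inv hy, e, mul_inv_cancel]))

theorem surj [Finite W] (hy : y ∈ E) : ∃ x ∈ E, f x = y := by
  obtain ⟨x, e⟩ := (Finite.injective_iff_surjective (f := fun x : E => (⟨f x, h.mem _ x.2⟩ : E))).1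
    (fun a b e => Subtype.ext (h.eq a.2 b.2 (congrArg Subtype.val e))) ⟨y, hy⟩
  exact ⟨x, x.2, congrArg Subtype.val e⟩

/-- The preimage of a subgroup. -/
def pre (A : Subgroup W) : Subgroup W where
  carrier := {x | x ∈ E ∧ f x ∈ A}
  mul_mem' := fun {a b} ha hb => ⟨mul_mem ha.1 hb.1, h.mul a ha.1 b hb.1 ▸ mul_mem ha.2 hb.2⟩
  one_mem' := ⟨one_mem E, h.one.symm ▸ one_mem A⟩
  inv_mem' := fun {a} ha => ⟨inv_mem ha.1, h.inv ha.1 ▸ inv_mem ha.2⟩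

@[simp] theorem mem_pre {A : Subgroup W} : x ∈ h.pre A ↔ x ∈ E ∧ f x ∈ A := Iff.rfl

/-- The image of a subgroup. -/
def im (A : Subgroup W) : Subgroup W where
  carrier := {y | ∃ x ∈ E, x ∈ A ∧ f x = y}
  mul_mem' := by
    rintro _ _ ⟨a, a1, a2, rfl⟩ ⟨b, b1, b2, rfl⟩
    exact ⟨a * b, mul_mem a1 b1, mul_mem a2 b2, h.mul a a1 b b1⟩
  one_mem' := ⟨1, one_mem _, one_mem _, h.one⟩
  inv_mem' := by
    rintro _ ⟨a, a1, a2, rfl⟩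
    exact ⟨a⁻¹, inv_mem a1, inv_mem a2, h.inv a1⟩

@[simp] theorem mem_im {A : Subgroup W} : y ∈ h.im A ↔ ∃ x ∈ E, x ∈ A ∧ f x = y := Iff.rfl

end Au

theorem au_conj (M : Subgroup W) [hM : M.Normal] (s : W) : Au M fun x => s * x * s⁻¹ :=
  ⟨fun x hx => hM.conj_mem x hx s, fun _ _ _ _ => by group, fun _ _ e => by simpa using e⟩

/-- the elements of `E` whose commutators with `X` lie in `B`; needs `B` normalised by `E` -/
def cz (E X B : Subgroup W) (hB : ∀ s ∈ E, ∀ b ∈ B, s * b * s⁻¹ ∈ B) : Subgroup W where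
  carrier := {x | x ∈ E ∧ ∀ y ∈ X, ⁅x, y⁆ ∈ B}
  mul_mem' := fun {a b} ha hb => ⟨mul_mem ha.1 hb.1, fun y hy => by
    have := mul_mem (hB a ha.1 _ (hb.2 y hy)) (ha.2 y hy)
    convert this using 1
    simp only [commutatorElement_def]; group⟩
  one_mem' := ⟨one_mem E, fun y _ => by simp⟩
  inv_mem' := fun {a} ha => ⟨inv_mem ha.1, fun y hy => by
    have := hB a⁻¹ (inv_mem ha.1) _ (inv_mem (ha.2 y hy))
    convert this using 1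
    simp only [commutatorElement_def]; group⟩

@[simp] theorem mem_cz {E X B : Subgroup W} {hB : ∀ s ∈ E, ∀ b ∈ B, s * b * s⁻¹ ∈ B} {x : W} :
    x ∈ cz E X B hB ↔ x ∈ E ∧ ∀ y ∈ X, ⁅x, y⁆ ∈ B := Iff.rfl

end Gen

variable {k K : Type*} [Field k] [Field K] [Cub k K]

theorem au_nb : Au (Q1 K) nb := ⟨fun x _ => nb_mem x, fun _ hx _ hy => nb_mul hx hy, fun x hx e => by
  rw [← nb_four hx, e]; ext <;> simp [nb]⟩
theorem au_na : Au (Q2 K) na := ⟨fun x _ => na_mem x, fun _ hx _ hy => na_mul hx hy, fun x hx e => by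
  rw [← na_four hx, e]; ext <;> simp [na]⟩

/-- `E/Z3` is the graph of an additive map and is abelian modulo `Z2` -/
structure Gr (E : Subgroup (Wd K)) : Prop where
  z3 : Z3 K ≤ E
  q1 : E ≤ Q1 K
  a0 : ∀ x ∈ E, x.a = 0 → x.c = 0
  all : ∀ a, ∃ x ∈ E, x.a = a
  cm : ∀ x ∈ E, ∀ y ∈ E, (⁅x, y⁆).d = 0

/-- a Sylow subgroup of shears given by the cross product -/
structure Sf {G : Type*} [Group G] [DistribMulAction G (K × K)] (p : ℕ) (H U : Subgroup G) (u : K → G) : Prop where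
  syl : SylowIn p U H
  mem : ∀ g, g ∈ U ↔ ∃ s, g = u s
  act : ∀ s x y, u s • (x, y) = (x + cr s y, y)

/-! ### The module `Q2 / Z1` -/

/-- coordinates `(b, c, d, e)` -/
abbrev V8 {k : Type*} (K : Type*) [Field k] [Field K] [Cub k K] := k × K × K × k
abbrev G8 {k : Type*} (K : Type*) [Field k] [Field K] [Cub k K] := V8 K ≃ₗ[ℤ] V8 K

def uF (a : K) (v : V8 K) : V8 K := (v.1, v.2.1 + ι v.1 * a, v.2.2.1 + cr a v.2.1 + ι v.1 * sh a,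
  v.2.2.2 + T (a * v.2.2.1) + T (sh a * v.2.1) + v.1 * N a)

theorem ext8 {v w : V8 K} (h1 : (ι v.1 : K) = ι w.1) (h2 : v.2.1 = w.2.1) (h3 : v.2.2.1 = w.2.2.1)
    (h4 : (ι v.2.2.2 : K) = ι w.2.2.2) : v = w :=
  Prod.ext (ι_inj h1) (Prod.ext h2 (Prod.ext h3 (ι_inj h4)))

theorem uF_uF (a b : K) (v : V8 K) : uF a (uF b v) = uF (a + b) v := by apply ext8 <;> simp only [uF] <;> cb
theorem uF_zero (v : V8 K) : uF 0 v = v := by simp [uF]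

/-- the action of `x_α(a)` -/
def uu (a : K) : G8 K := AddEquiv.toIntLinearEquiv
  { toFun := uF a
    invFun := uF (-a)
    left_inv := fun v => by rw [uF_uF, neg_add_cancel, uF_zero]
    right_inv := fun v => by rw [uF_uF, add_neg_cancel, uF_zero]
    map_add' := fun v w => by apply ext8 <;> simp only [uF, Prod.fst_add, Prod.snd_add] <;> cb }

theorem uu_smul (a : K) (v : V8 K) : uu a • v = uF a v := rfl
theorem uu_add (a b : K) : uu (a + b) = uu a * uu b := LinearEquiv.ext fun v => (uF_uF a b v).symm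
theorem uu_zero : uu (0 : K) = 1 := LinearEquiv.ext uF_zero
theorem uu_neg (a : K) : uu (-a) = (uu a)⁻¹ := eq_inv_of_mul_eq_one_left (by rw [← uu_add, neg_add_cancel, uu_zero])
theorem uu_inj {a b : K} (h : uu a = uu b) : a = b := by
  have := congrArg (fun g : G8 K => (g • ((1, 0, 0, 0) : V8 K)).2.1) h
  simp only [uu_smul, uF] at this
  simpa using this

variable (K) in
def UU : Subgroup (G8 K) where
  carrier := {g | ∃ a, g = uu a}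
  one_mem' := ⟨0, uu_zero.symm⟩
  mul_mem' := by rintro _ _ ⟨a, rfl⟩ ⟨b, rfl⟩; exact ⟨a + b, (uu_add a b).symm⟩
  inv_mem' := by rintro _ ⟨a, rfl⟩; exact ⟨-a, (uu_neg a).symm⟩
theorem mem_UU {g : G8 K} : g ∈ UU K ↔ ∃ a, g = uu a := Iff.rfl

/-- the commutator form -/
def Bf (v w : V8 K) : k := v.1 * w.2.2.2 - v.2.2.2 * w.1 - T (v.2.1 * w.2.2.1) + T (v.2.2.1 * w.2.1)
/-- the squaring form in characteristic two -/
def Qf (v : V8 K) : k := v.1 * v.2.2.2 + T (v.2.1 * v.2.2.1)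
/-- scalar multiplication -/
def sm (t : k) (v : V8 K) : V8 K := (t * v.1, ι t * v.2.1, ι t * v.2.2.1, t * v.2.2.2)

section
variable (K)
def Y1 : AddSubgroup (V8 K) where
  carrier := {v | v.1 = 0 ∧ v.2.1 = 0 ∧ v.2.2.1 = 0}
  zero_mem' := ⟨rfl, rfl, rfl⟩
  add_mem' ha hb := by simp_all
  neg_mem' ha := by simp_all
def Y3 : AddSubgroup (V8 K) where
  carrier := {v | v.1 = 0 ∧ v.2.1 = 0}
  zero_mem' := ⟨rfl, rfl⟩
  add_mem' ha hb := by simp_all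
  neg_mem' ha := by simp_all
def Y4 : AddSubgroup (V8 K) where
  carrier := {v | v.1 = 0}
  zero_mem' := rfl
  add_mem' ha hb := by simp_all
  neg_mem' ha := by simp_all
def yv : V8 K := (0, 0, 0, 1)
end
@[simp] theorem mem_Y1 {v : V8 K} : v ∈ Y1 K ↔ v.1 = 0 ∧ v.2.1 = 0 ∧ v.2.2.1 = 0 := Iff.rfl
@[simp] theorem mem_Y3 {v : V8 K} : v ∈ Y3 K ↔ v.1 = 0 ∧ v.2.1 = 0 := Iff.rfl
@[simp] theorem mem_Y4 {v : V8 K} : v ∈ Y4 K ↔ v.1 = 0 := Iff.rfl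

/-- the points of the twisted cubic -/
def pt (a : K) : V8 K := (1, a, sh a, N a)
def n0F (v : V8 K) : V8 K := (v.2.2.2, -v.2.2.1, v.2.1, -v.1)
def ulF (r : K) (v : V8 K) : V8 K := (v.1 + T (r * v.2.1) + T (sh r * v.2.2.1) + v.2.2.2 * N r,
  v.2.1 + cr r v.2.2.1 + ι v.2.2.2 * sh r, v.2.2.1 + ι v.2.2.2 * r, v.2.2.2)
def tauF (l : K) (m : k) (v : V8 K) : V8 K := (m * v.1, l * ι m * v.2.1, sh l * ι m * v.2.2.1, N l * m * v.2.2.2)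
def zF (s : k) (v : V8 K) : V8 K := (v.1, -v.2.1, v.2.2.1, -v.2.2.2 + v.1 * s)

/-- some element of `H` acts as `f` -/
def Has (H : Subgroup (G8 K)) (f : V8 K → V8 K) : Prop := ∃ h ∈ H, ∀ v, h • v = f v

/-- the group induced on `Q2 / Z1` -/
structure Cu (p : ℕ) (H : Subgroup (G8 K)) : Prop where
  syl : SylowIn p (UU K) H
  sim : ∀ h ∈ H, ∃ ρ : k ≃+ k, (∀ v w : V8 K, Bf (h • v) (h • w) = ρ (Bf v w)) ∧
    ((2 : k) = 0 → ∀ v : V8 K, Qf (h • v) = ρ (Qf v))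

/-- `h` is linear with multiplier `s` -/
structure Li (h : G8 K) (s : k) : Prop where
  lin : ∀ (t : k) (v : V8 K), h • sm t v = sm t (h • v)
  bf : ∀ v w : V8 K, Bf (h • v) (h • w) = s * Bf v w
  qf : (2 : k) = 0 → ∀ v : V8 K, Qf (h • v) = s * Qf v

/-- `h` has the graded weights `t², t, 1, t⁻¹` -/
structure T1 (h : G8 K) (t : k) : Prop where
  b : ∀ v : V8 K, (h • v).1 = t ^ 2 * v.1
  c : ∀ v ∈ Y4 K, (h • v).2.1 = ι t * v.2.1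
  d : ∀ v ∈ Y3 K, (h • v).2.2.1 = v.2.2.1
  e : ∀ v ∈ Y1 K, (h • v).2.2.2 = t⁻¹ * v.2.2.2

/-- all the elements `T1` occur -/
def HT (H : Subgroup (G8 K)) : Prop := ∀ t : k, t ≠ 0 → ∃ h ∈ H, T1 h t

/-- distinct points of the orbit of `Y1` are not perpendicular -/
def Pp (H : Subgroup (G8 K)) : Prop := ∀ h ∈ H, h ∉ sb (G8 K) (Y1 K) → (h • yv K).1 ≠ 0
/-- the orbit of `Y1` lies on the twisted cubic -/
def Std (H : Subgroup (G8 K)) : Prop := ∀ h ∈ H, h ∉ sb (G8 K) (Y1 K) → ∃ t a, t ≠ 0 ∧ h • yv K = sm t (pt a)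
/-- the flag at the opposite point is the standard one -/
def CC (H : Subgroup (G8 K)) : Prop :=
  ∀ g ∈ H, (∃ t, g • yv K = sm t (pt 0)) → ∀ c : K, g⁻¹ • ((0, c, 0, 0) : V8 K) ∈ Y3 K
/-- an allowed change of coordinates -/
structure Et (η : G8 K) : Prop where
  li : Li η 1
  cm : ∀ a, η * uu a = uu a * η
  b : ∀ v : V8 K, (η • v).1 = v.1
  c : ∀ v : V8 K, (η • v).2.1 = v.2.1
  y : ∀ v ∈ Y3 K, η • v = v
/-- the conjugate group -/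
def cjg (η : G8 K) (H : Subgroup (G8 K)) : Subgroup (G8 K) := H.map (MulAut.conj η).toMonoidHom
/-- the Borel subgroup acts semilinearly on `U` -/
def Sl (H : Subgroup (G8 K)) : Prop := ∀ h ∈ H, h ∈ sb (G8 K) (Y1 K) →
  ∃ (l : K) (ρ : K ≃+* K), l ≠ 0 ∧ ∀ a, h * uu a * h⁻¹ = uu (l * ρ a)
/-- the torus of the Levi factor -/
def To (H : Subgroup (G8 K)) : Prop := ∀ l : K, l ≠ 0 → ∃ h ∈ H, h ∈ sb (G8 K) (Y1 K) ∧
  (∀ a, h * uu a * h⁻¹ = uu (l ^ 2 * a)) ∧ ∀ v : V8 K, (h • v).1 = (N l)⁻¹ * v.1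
/-- the Weyl element and the Bruhat decomposition -/
def Br (H : Subgroup (G8 K)) : Prop := ∃ n ∈ H, (∀ v : V8 K, n • v = n0F v) ∧
  ∀ h ∈ H, h ∈ sb (G8 K) (Y1 K) ∨ ∃ a, n⁻¹ * uu a * h ∈ sb (G8 K) (Y1 K)

/-! ### The fusion system -/

variable {Γ : Type*} [Group Γ]

def cV (x : Wd K) : V8 K := (x.b, x.c, x.d, x.e)
/-- the group induced on `Q2 / Z1` -/
def HV {j : Wd K →* Γ} (i : Function.Injective j) : Subgroup (G8 K) := au i (Q2 K) cV ⊤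
def Mv1 (j : Wd K →* Γ) : Prop := ¬ nr j (Q1 K) ≤ nr j (Z1 K)
def Mv2 (j : Wd K →* Γ) : Prop := ¬ nr j (Q2 K) ≤ nr j (Z2 K)
/-- `f` and `g` agree on the factors of the upper central series -/
structure Gg (f g : Wd K → Wd K) : Prop where
  a : ∀ x, (f x).a = (g x).a
  b : ∀ x, (f x).b = (g x).b
  c : ∀ x ∈ Z4 K, (f x).c = (g x).c
  d : ∀ x ∈ Z3 K, (f x).d = (g x).d
  e : ∀ x ∈ Z2 K, (f x).e = (g x).e
  f : ∀ x ∈ Z1 K, (f x).f = (g x).f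
/-- `g` normalises `W` and acts on the first coordinate as `f` -/
def Aa (j : Wd K →* Γ) (g : Γ) (f : K → K) : Prop := g ∈ nr j ⊤ ∧ ∀ x y, Cj j g x y → y.a = f x.a
/-- `g` normalises `W` and has the weights `l`, `m` -/
def Ab (j : Wd K →* Γ) (g : Γ) (l : K) (m : k) : Prop :=
  g ∈ nr j ⊤ ∧ ∀ x y, Cj j g x y → y.a = l * x.a ∧ y.b = m * x.b
/-- `g` normalises `Q1` and acts on the factors of `Q1 > Z3 > Z2 > 1` like `nb` -/
structure Nb (j : Wd K →* Γ) (g : Γ) : Prop where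
  mem : g ∈ nr j (Q1 K)
  ac : ∀ x ∈ Q1 K, ∀ y, Cj j g x y → y.a = x.c ∧ y.c = -x.a
  d : ∀ x ∈ Z3 K, ∀ y, Cj j g x y → y.d = x.d
  ef : ∀ x ∈ Z2 K, ∀ y, Cj j g x y → y.e = -x.f ∧ y.f = x.e
/-- the action on the first coordinate -/
structure Ta (j : Wd K →* Γ) (Φ : Subgroup (K ≃+* K)) : Prop where
  top : ∀ g ∈ nr j ⊤, ∃ l ≠ 0, ∃ ρ ∈ Φ, Aa j g fun a => l * ρ a
  ex : ∀ l ≠ 0, ∀ ρ ∈ Φ, ∃ g, Aa j g fun a => l * ρ a
/-- the kernel of the action on the first coordinate -/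
def Ka (j : Wd K →* Γ) : Subgroup Γ := nr j ⊤ ⊓ H2.relCentralizer ((⊤ : Subgroup (Wd K)).map j) ((Q2 K).map j)
/-- the order of the group induced on the first coordinate -/
noncomputable def ia (j : Wd K →* Γ) : ℕ := (Ka j).relIndex (nr j ⊤)
/-- the Bruhat decomposition of the automizer of `Q` with Weyl element acting as `w` -/
def Bq (j : Wd K →* Γ) (Q : Subgroup (Wd K)) (w : Wd K → Wd K) : Prop :=
  ∃ n, (∀ x ∈ Q, Cj j n x (w x)) ∧ ∀ g ∈ nr j Q, ∃ b ∈ nr j ⊤, (∀ x ∈ Q, ∀ y, Cj j g x y → Cj j b x y) ∨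
    ∃ s, ∀ x ∈ Q, ∀ y, Cj j g x y → Cj j (j s * n * b) x y
/-- the model -/
structure Md {G : Type*} [Group G] (p : ℕ) (φ : Wd K →* G) : Prop where
  inj : Function.Injective φ
  syl : ∃ P : Sylow p G, (P : Subgroup G) = φ.range
  mv1 : Mv1 φ
  mv2 : Mv2 φ

/-- the simple group -/
structure Md0 {G : Type*} [Group G] (p : ℕ) (φ : Wd K →* G) : Prop extends Md p φ where
  tor : ∀ l : K, l ≠ 0 → ∃ g, Aa φ g fun a => l * a
  nrm : ∀ g ∈ nr φ ⊤, ∃ l : K, Aa φ g fun a => l * a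
  fld : ∀ ρ : K ≃+* K, ∃ δ : MulAut G, δ ^ orderOf ρ = 1 ∧ ∀ x, ∃ y, δ (φ x) = φ y ∧ y.a = ρ x.a

variable [Finite K] [Fc K]

/-- the automizer of `W` in standard form -/
structure Ex (j : Wd K →* Γ) (Φ : Subgroup (K ≃+* K)) : Prop where
  ex : ∀ l ≠ 0, ∀ m ≠ 0, ∀ ρ ∈ Φ, ∃ g, ∀ x, Cj j g x (dg l m ρ x)
  top : ∀ g ∈ nr j ⊤, ∃ s, ∃ l ≠ 0, ∃ m ≠ 0, ∃ ρ ∈ Φ, ∀ x, Cj j g x (s * dg l m ρ x * s⁻¹)
/-- the standard form -/
structure Sd (j : Wd K →* Γ) (Φ : Subgroup (K ≃+* K)) : Prop where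
  ex : Ex j Φ
  q1 : Bq j (Q1 K) nb
  q2 : Bq j (Q2 K) na

theorem auto_lemmas_T3D : True := by
  have := @Iv.eq_1.{0}
  have := @uF.eq_1.{0, 0}
  have := @uu.eq_1.{0, 0}
  have := @Bf.eq_1.{0, 0}
  have := @Qf.eq_1.{0, 0}
  have := @sm.eq_1.{0, 0}
  have := @yv.eq_1.{0, 0}
  have := @pt.eq_1.{0, 0}
  have := @n0F.eq_1.{0, 0}
  have := @ulF.eq_1.{0, 0}
  have := @tauF.eq_1.{0, 0}
  have := @zF.eq_1.{0, 0}
  have := @Has.eq_1.{0, 0}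
  have := @HT.eq_1.{0, 0}
  have := @Pp.eq_1.{0, 0}
  have := @Std.eq_1.{0, 0}
  have := @CC.eq_1.{0, 0}
  have := @cjg.eq_1.{0, 0}
  have := @Sl.eq_1.{0, 0}
  have := @To.eq_1.{0, 0}
  have := @Br.eq_1.{0, 0}
  have := @cV.eq_1.{0, 0}
  have := @HV.eq_1.{0, 0, 0}
  have := @Mv1.eq_1.{0, 0, 0}
  have := @Mv2.eq_1.{0, 0, 0}
  have := @Aa.eq_1.{0, 0, 0}
  have := @Ab.eq_1.{0, 0, 0}
  have := @Ka.eq_1.{0, 0, 0}
  have := @ia.eq_1.{0, 0, 0}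
  have := @Bq.eq_1.{0, 0, 0}
  trivial

end H69.T3
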