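import Mathlib
import Cfsg.Agent.Lib.T3F.Defs

set_option autoImplicit false
set_option linter.unusedSectionVars false
set_option linter.unusedVariables false

namespace H69.T3

open H89.D4S Subgroup
open H93.SX hiding sh
open H68 (SylowIn)
open scoped commutatorElement

variable {k K : Type*} [Field k] [Field K] [Cub k K] [Finite k] [Finite K] [Fc K]

theorem char_k (p : ℕ) [CharP K p] : CharP k p := RingHom.charP (ι : k →+* K) ι_inj p
theorem two_iff : (2 : K) = 0 ↔ (2 : k) = 0 := by rw [← ι_eq_zero (J := K), map_ofNat]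
theorem N_ne {a : K} (ha : a ≠ 0) : N a ≠ 0 := fun h => by
  have := congrArg (ι : k → K) h
  simp [ιN, ha] at this
theorem sh_ne {a : K} (ha : a ≠ 0) : sh a ≠ 0 := by simp [sh, ha]
theorem T_surj {a : K} (ha : a ≠ 0) (t : k) : ∃ x, T (a * x) = t := by
  obtain ⟨y, hy⟩ := not_forall.1 (mt (nd a) ha)
  exact ⟨ι (t / T (a * y)) * y, by rw [mul_left_comm, T_ι_mul, div_mul_cancel₀ _ hy]⟩
theorem exists_not_fix : ∃ x : K, θ x ≠ x := by
  by_contra! h
  have h1 := Nat.card_le_card_of_surjective (ι : k → K) fun x => Fc.fix x (h x)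
  have h2 : 1 < Nat.card k := Finite.one_lt_card
  rw [Fc.card (k := k) (K := K)] at h1
  exact absurd h1 (not_le.2 (lt_self_pow₀ h2 (by norm_num)))
theorem ded {x y z : K} (h : ∀ t : K, x * t + y * θ t + z * θ (θ t) = 0) : x = 0 ∧ y = 0 ∧ z = 0 := by
  obtain ⟨X, h1⟩ := exists_not_fix (K := K)
  have h2 : θ (θ X) ≠ θ X := (θ : K →+* K).injective.ne h1
  have h3 : X ≠ θ (θ X) := by simpa using (θ : K →+* K).injective.ne h2
  have e0 := h 1
  have e1 := h X
  have e2 := h (X * X)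
  simp only [map_one, map_mul] at e0 e2
  have a : x * (θ X - X) * (X - θ (θ X)) = 0 := by
    linear_combination -e2 + (θ X + θ (θ X)) * e1 - θ X * θ (θ X) * e0
  have b : y * (θ X - X) * (θ (θ X) - θ X) = 0 := by
    linear_combination -e2 + (X + θ (θ X)) * e1 - X * θ (θ X) * e0
  simp only [mul_eq_zero, sub_eq_zero, h1, h2, h3, or_false] at a b
  exact ⟨a, b, by simpa [a, b] using e0⟩
theorem cr_nd {c : K} (h : ∀ a, cr a c = 0) : c = 0 := by
  simpa using (ded (x := 0) (y := θ (θ c)) (z := θ c) fun t => Eq.trans (by rw [cr]; ring) (h t)).2.2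
theorem cr_span {d : K} (h : ∀ a c, T (cr a c * d) = 0) : d = 0 := cr_nd fun c => nd _ fun a => by rw [mul_comm, ← T_cr, h]
theorem sh_span {d : K} (h : ∀ a, T (sh a * d) = 0) : d = 0 := cr_span fun a c => by
  have := h (a + c)
  rwa [sh_add, add_mul, add_mul, map_add, map_add, h, h, zero_add, add_zero] at this
theorem cr_eq_zero (h2 : (2 : k) ≠ 0) {a c : K} (ha : a ≠ 0) (h : cr a c = 0) : c = 0 := by
  have e1 := congrArg θ h
  have e2 := congrArg θ e1
  simp only [cr, map_add, map_mul, θ3, map_zero] at h e1 e2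
  have : 2 * θ a * θ (θ a) * c = 0 := by linear_combination θ a * e1 + θ (θ a) * e2 - a * h
  simpa [ha, mt two_iff.1 h2] using this
theorem cr_surj (h2 : (2 : k) ≠ 0) {a : K} (ha : a ≠ 0) (d : K) : ∃ c, cr a c = d := Finite.injective_iff_surjective.1 (show Function.Injective (cr a) from
  fun x y e => sub_eq_zero.1 (cr_eq_zero h2 ha (by rw [cr_sub, e, sub_self]))) d
/-- the vector product -/
def FL.w (x y : K) : K := θ x * θ (θ y) - θ (θ x) * θ y
theorem FL.eqns : True := by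
  have := @FL.w.eq_1.{0, 0}
  trivial
theorem FL.w_anti (x y : K) : FL.w x y = -FL.w y x := by unfold FL.w; ring
theorem FL.ww (d x y : K) : FL.w d (FL.w x y) = ι (T (y * d)) * x - ι (T (x * d)) * y := by unfold FL.w; cb
theorem FL.cramer (x y z s : K) : ι (T (FL.w x y * s)) * z =
    ι (T (z * FL.w y s)) * x + ι (T (z * FL.w s x)) * y + ι (T (z * FL.w x y)) * s := by unfold FL.w; cb
theorem FL.w2 (h2 : (2 : k) = 0) (x y : K) : FL.w x y = cr x y := by
  rw [FL.w, cr]; linear_combination -(θ (θ x) * θ y) * (two_iff (K := K)).2 h2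
theorem FL.w_iff {a c : K} (ha : a ≠ 0) : FL.w a c = 0 ↔ ∃ t : k, c = ι t * a := by
  refine ⟨fun h => ?_, by rintro ⟨t, rfl⟩; unfold FL.w; cb⟩
  have e := congrArg θ (congrArg θ h)
  simp only [FL.w, map_sub, map_mul, θ3, map_zero] at e
  obtain ⟨t, ht⟩ := Fc.fix (c / a) (by
    rw [map_div₀, div_eq_div_iff ((map_ne_zero _).2 ha) ha]; linear_combination e)
  exact ⟨t, by rw [ht, div_mul_cancel₀ _ ha]⟩
theorem FL.w_ne {x y : K} (h : ∀ s t : k, ι s * x + ι t * y = 0 → s = 0 ∧ t = 0) : FL.w x y ≠ 0 := fun e => by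
  obtain ⟨t, rfl⟩ := (FL.w_iff fun e => one_ne_zero (h 1 0 (by simp [e])).1).1 e
  exact one_ne_zero (neg_eq_zero.1 (h t (-1) (by simp)).2)
theorem FL.line {x y d : K} (hd : d ≠ 0) (h1 : T (x * d) = 0) (h2 : T (y * d) = 0) :
    ∃ t : k, FL.w x y = ι t * d := (FL.w_iff hd).1 (by rw [FL.ww, h1, h2]; simp)
theorem FL.indep {x y : K} (hx : x ≠ 0) (h : ∀ t : k, y ≠ ι t * x) (s t : k) (e : ι s * x + ι t * y = 0) :
    s = 0 ∧ t = 0 := by
  have : t = 0 := by_contra fun ht => h (-s / t) (mul_left_cancel₀ (mt ι_eq_zero.1 ht) (by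
    rw [← mul_assoc, ← map_mul, mul_div_cancel₀ _ ht, map_neg]; linear_combination e))
  exact ⟨by simpa [this, hx] using e, this⟩
theorem cr_ker2 (h2 : (2 : k) = 0) {a c : K} (ha : a ≠ 0) : cr a c = 0 ↔ ∃ t : k, c = ι t * a := by rw [← FL.w2 h2, FL.w_iff ha]
theorem cr_im2 (h2 : (2 : k) = 0) {a d : K} (ha : a ≠ 0) : (∃ c, cr a c = d) ↔ T (a * d) = 0 := by
  refine ⟨?_, fun h => ?_⟩
  · rintro ⟨c, rfl⟩
    rw [T_cr_self', h2, zero_mul]
  · obtain ⟨s, hs⟩ := T_surj ha 1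
    exact ⟨FL.w d s, by rw [← FL.w2 h2, FL.ww, mul_comm s, mul_comm d, hs, h]; simp⟩
theorem perp_perp {d d' : K} (hd : d ≠ 0) (h : ∀ a, T (a * d) = 0 → T (a * d') = 0) : ∃ t : k, d' = ι t * d := (FL.w_iff hd).1 (nd _ fun s => by
  have := h (FL.w d s) (by unfold FL.w; cbk K)
  rw [← neg_eq_zero, ← this]
  unfold FL.w; cbk K)
theorem perp_line {x y d d' : K} (h : ∀ s t : k, ι s * x + ι t * y = 0 → s = 0 ∧ t = 0) (hd : d ≠ 0)
    (h1 : T (x * d) = 0) (h2 : T (y * d) = 0) (h3 : T (x * d') = 0) (h4 : T (y * d') = 0) :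
    ∃ t : k, d' = ι t * d := by
  obtain ⟨t, e⟩ := FL.line hd h1 h2
  obtain ⟨t', e'⟩ := (FL.w_iff (FL.w_ne h)).1 (show FL.w (FL.w x y) d' = 0 by
    rw [FL.w_anti, FL.ww, h3, h4]; simp)
  exact ⟨t' * t, by rw [e', e, map_mul, mul_assoc]⟩
theorem plane_span {x y d z : K} (h : ∀ s t : k, ι s * x + ι t * y = 0 → s = 0 ∧ t = 0) (hd : d ≠ 0)
    (h1 : T (x * d) = 0) (h2 : T (y * d) = 0) (h3 : T (z * d) = 0) : ∃ s t : k, z = ι s * x + ι t * y := by
  obtain ⟨t, e⟩ := FL.line hd h1 h2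
  obtain ⟨s, hs⟩ := T_surj (FL.w_ne h) 1
  have := FL.cramer x y z s
  rw [hs, e, mul_left_comm z, T_ι_mul, h3] at this
  exact ⟨_, _, by simpa using this⟩
theorem exists_perp (d d' : K) : ∃ a ≠ 0, T (a * d) = 0 ∧ T (a * d') = 0 := by
  have k : ∀ d : K, ∃ a ≠ 0, T (a * d) = 0 := fun d => by
    by_cases hd : d = 0
    · exact ⟨1, one_ne_zero, by simp [hd]⟩
    obtain ⟨X, h⟩ := exists_not_fix (K := K)
    refine ⟨FL.w d (X * d), fun e => ?_, by unfold FL.w; cbk K⟩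
    obtain ⟨t, e⟩ := (FL.w_iff hd).1 e
    exact h (by rw [mul_right_cancel₀ hd e, θι])
  by_cases hd : d = 0
  · exact let ⟨a, h, e⟩ := k d'; ⟨a, h, by simp [hd], e⟩
  by_cases h : FL.w d d' = 0
  · obtain ⟨t, rfl⟩ := (FL.w_iff hd).1 h
    exact let ⟨a, h, e⟩ := k d; ⟨a, h, e, by rw [mul_left_comm, T_ι_mul, e, mul_zero]⟩
  · exact ⟨_, h, by unfold FL.w; cbk K, by unfold FL.w; cbk K⟩
theorem exists_two (d : K) : ∃ x y : K, T (x * d) = 0 ∧ T (y * d) = 0 ∧
    ∀ s t : k, ι s * x + ι t * y = 0 → s = 0 ∧ t = 0 := by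
  obtain ⟨x, hx, e, -⟩ := exists_perp d d
  obtain ⟨s, hs⟩ := T_surj hx 1
  obtain ⟨y, hy, e1, e2⟩ := exists_perp d s
  refine ⟨x, y, e, e1, FL.indep hx ?_⟩
  rintro t rfl
  rw [mul_assoc, T_ι_mul, hs, mul_one] at e2
  simp [e2] at hy
theorem exists_perp_not (d a : K) : ∃ x : K, T (x * d) = 0 ∧ ∀ t : k, x ≠ ι t * a := by
  obtain ⟨x, y, e1, e2, h⟩ := exists_two d
  by_contra! H
  obtain ⟨s, rfl⟩ := H x e1
  obtain ⟨t, rfl⟩ := H y e2
  have := (h t (-s) (by rw [map_neg]; ring)).1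
  exact one_ne_zero (h 0 1 (by simp [this])).2
theorem indep_of {x y : K} (hx : x ≠ 0) (h : ∀ t : k, y ≠ ι t * x) (s t : k) (e : ι s * x + ι t * y = 0) :
    s = 0 ∧ t = 0 := FL.indep hx h s t e
theorem indep3 {a c : K} (h : ∀ s t : k, ι s * a + ι t * c = 0 → s = 0 ∧ t = 0) {x y z : k}
    (e : ι x * sh a + ι y * cr a c + ι z * sh c = 0) : x = 0 ∧ y = 0 ∧ z = 0 := by
  have e1 := congrArg θ e
  have e2 := congrArg θ e1
  have n := (map_ne_zero (θ : K →+* K)).2 (FL.w_ne h)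
  simp only [FL.w, sh, cr, map_add, map_sub, map_mul, θ3, θι, map_zero] at e1 e2 n
  obtain ⟨rfl, rfl⟩ := h y z (mul_left_cancel₀ (show θ a * θ (θ c) - θ (θ a) * θ c ≠ 0 from FL.w_ne h) (by
    linear_combination θ a * e1 - θ (θ a) * e2))
  refine ⟨?_, rfl, rfl⟩
  have : a ≠ 0 := fun e => one_ne_zero (h 1 0 (by simp [e])).1
  simpa [sh_ne this] using e
theorem perp3 {a c d : K} (h : ∀ s t : k, ι s * a + ι t * c = 0 → s = 0 ∧ t = 0)
    (h1 : T (sh a * d) = 0) (h2 : T (cr a c * d) = 0) (h3 : T (sh c * d) = 0) : d = 0 := by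
  by_contra hd
  obtain ⟨s, t, e⟩ := plane_span (fun s t e => let ⟨a, b, _⟩ := indep3 h (x := s) (y := t) (z := 0) (by
    simpa using e); ⟨a, b⟩) hd h1 h2 h3
  exact one_ne_zero (neg_eq_zero.1 (indep3 h (x := s) (y := t) (z := -1) (by simp [e])).2.2)
theorem T_two {a c : K} (h : ∀ s t : k, ι s * a + ι t * c = 0 → s = 0 ∧ t = 0) (x y : k) :
    ∃ d, T (a * d) = x ∧ T (c * d) = y := by
  obtain ⟨s, hs⟩ := T_surj (FL.w_ne h) 1
  exact ⟨ι x * FL.w c s + ι y * FL.w s a, (show _ = x * T (FL.w a c * s) by unfold FL.w; cbk K).trans (by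
    rw [hs, mul_one]), (show _ = y * T (FL.w a c * s) by unfold FL.w; cbk K).trans (by rw [hs, mul_one])⟩
theorem alt_plane (h2 : (2 : k) = 0) {d x y z : K} (hd : d ≠ 0) (h1 : T (x * d) = 0) (h3 : T (y * d) = 0)
    (h4 : T (z * d) = 0) : T (cr x y * z) = 0 := by
  obtain ⟨t, e⟩ := FL.line hd h1 h3
  rw [← FL.w2 h2, e, mul_assoc, T_ι_mul, mul_comm d, h4, mul_zero]
theorem plane (d : K) : ∃ x y : K, T (x * d) = 0 ∧ T (y * d) = 0 ∧ T (sh x * y) ≠ 0 := by
  obtain ⟨x, y, e1, e2, h⟩ := exists_two d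
  by_contra! H
  have := H (x + y) y (by rw [add_mul, map_add, e1, e2, add_zero]) e2
  rw [sh_add, add_mul, add_mul, map_add, map_add, H x y e1 e2, H y y e2 e2, zero_add, add_zero] at this
  exact one_ne_zero (h 0 1 (by simp [perp3 h (H x y e1 e2) this (H y y e2 e2)])).2
theorem mem_of_perp (S P : AddSubgroup K) (hP : ∀ d, d ∈ P ↔ ∀ c ∈ S, T (c * d) = 0)
    (hc : Nat.card K ≤ Nat.card S * Nat.card P) {a : K} (h : ∀ d ∈ P, T (a * d) = 0) : a ∈ S := by
  let _ : Algebra k K := (ι : k →+* K).toAlgebra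
  have sm : ∀ (c : k) (x : K), c • x = ι c * x := fun _ _ => rfl
  let β : LinearMap.BilinForm k K := LinearMap.mk₂ k (fun u v => T (u * v))
    (fun a b c => by rw [add_mul, map_add]) (fun c a b => by rw [sm, mul_assoc, T_ι_mul, smul_eq_mul])
    (fun a b c => by rw [mul_add, map_add]) (fun c a b => by rw [sm, mul_left_comm, T_ι_mul, smul_eq_mul])
  have rf : β.IsRefl := fun x y e => by
    change T _ = 0 at e ⊢
    rwa [mul_comm]
  have nd' : β.Nondegenerate := rf.nondegenerate_iff_separatingLeft.2 fun x hx => nd x hx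
  let W : Submodule k K :=
    { P with
      smul_mem' := fun t d hd => (hP _).2 fun c hc => by
        rw [sm, mul_left_comm, T_ι_mul, (hP d).1 hd c hc, mul_zero] }
  have h1 : Nat.card (β.orthogonal W) * Nat.card W = Nat.card K := by
    rw [Module.natCard_eq_pow_finrank (K := k) (V := W), Module.natCard_eq_pow_finrank (K := k) (V := K),
      Module.natCard_eq_pow_finrank (K := k) (V := β.orthogonal W), ← pow_add,
      LinearMap.BilinForm.finrank_orthogonal nd', Nat.sub_add_cancel W.finrank_le]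
  have h2 : S = (β.orthogonal W).toAddSubgroup := AddSubgroup.eq_of_le_of_card_ge
    (fun c hc d hd => show T (d * c) = 0 by rw [mul_comm]; exact (hP d).1 hd c hc)
    (Nat.le_of_mul_le_mul_right (h1.le.trans hc) Nat.card_pos)
  exact h2 ▸ fun d hd => show T (d * a) = 0 by rw [mul_comm]; exact h d hd
theorem closure_sh : AddSubgroup.closure (Set.range (sh : K → K)) = ⊤ := by
  refine eq_top_iff.2 fun d _ => ?_
  obtain ⟨a, ha, e, -⟩ := exists_perp d d
  obtain ⟨c, rfl⟩ : ∃ c, cr a c = d := by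
    by_cases h2 : (2 : k) = 0
    · exact (cr_im2 h2 ha).2 e
    · exact cr_surj h2 ha d
  rw [show cr a c = sh (a + c) - sh a - sh c by rw [sh_add]; ring]
  exact sub_mem (sub_mem (AddSubgroup.subset_closure ⟨_, rfl⟩) (AddSubgroup.subset_closure ⟨_, rfl⟩))
    (AddSubgroup.subset_closure ⟨_, rfl⟩)

end H69.T3
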