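import Mathlib
import Cfsg.Agent.Lib.T3F.Defs

set_option autoImplicit false
set_option linter.unusedSectionVars false
set_option linter.unusedVariables false

namespace H69.T3

open H89.D4S Subgroup
open H93.SX hiding sh
open H68 (SylowIn)
open scoped commutatorElement


variable {W : Type*} [Group W] [Finite W] {M M' E A B T N Z Y : Subgroup W} {𝒜 : Set (W → W)} {f g : W → W}
  {t s x : W}

namespace TL0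

theorem cmem {y : W} (hx : x ∈ E) (hy : y ∈ E) : ⁅x, y⁆ ∈ E :=
  mul_mem (mul_mem (mul_mem hx hy) (inv_mem hx)) (inv_mem hy)

theorem inv (a : Au E f) : ∃ g, Au E g ∧ (∀ x ∈ E, g (f x) = x) ∧ ∀ x ∈ E, f (g x) = x := by
  classical
  choose g hg e using fun y : E => a.surj y.2
  let g' : W → W := fun y => if h : y ∈ E then g ⟨y, h⟩ else y
  have m : ∀ y ∈ E, g' y ∈ E := fun y h => by simp only [g', dif_pos h]; exact hg _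
  have r : ∀ y ∈ E, f (g' y) = y := fun y h => by simp only [g', dif_pos h]; exact e _
  exact ⟨g', ⟨m, fun x hx y hy => a.eq (m _ (mul_mem hx hy)) (mul_mem (m x hx) (m y hy)) (by
      rw [a.mul _ (m x hx) _ (m y hy), r _ (mul_mem hx hy), r x hx, r y hy]),
    fun x hx h => by rw [← r x hx, h, a.one]⟩, fun x hx => a.eq (m _ (a.mem x hx)) hx (r _ (a.mem x hx)), r⟩

theorem rel (h : E ≤ N) : E.relIndex N * Nat.card E = Nat.card N := by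
  rw [← Nat.card_congr (subgroupOfEquivOfLe h).toEquiv]
  exact (E.subgroupOf N).index_mul_card

theorem prod (hA : A ≤ E) (hB : B ≤ E) (h : Nat.card E * Nat.card (A ⊓ B : Subgroup W) ≤ Nat.card A * Nat.card B)
    (hx : x ∈ E) : ∃ a ∈ A, ∃ b ∈ B, x = a * b := by
  have c : A.relIndex E ≤ A.relIndex B := by
    rw [← rel hA, ← rel (inf_le_right : A ⊓ B ≤ B), inf_relIndex_right, ← mul_assoc, mul_comm (Nat.card A)] at h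
    exact Nat.le_of_mul_le_mul_right (Nat.le_of_mul_le_mul_right h Nat.card_pos) Nat.card_pos
  obtain ⟨q, e⟩ := ((quotientSubgroupOfEmbeddingOfLE A hB).injective.bijective_of_nat_card_le c).2
    ((⟨x⁻¹, inv_mem hx⟩ : E) : E ⧸ A.subgroupOf E)
  obtain ⟨b, rfl⟩ := QuotientGroup.mk_surjective q
  rw [quotientSubgroupOfEmbeddingOfLE_apply_mk] at e
  have : (b : W)⁻¹ * x⁻¹ ∈ A := mem_subgroupOf.1 (QuotientGroup.eq.1 e)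
  exact ⟨_, inv_mem this, _, inv_mem b.2, by group⟩

end TL0

theorem Gd.mono (h : Gd M E 𝒜) (h1 : E ≤ M') (h2 : M' ≤ M) : Gd M' E 𝒜 :=
  ⟨h1, h.au, h.inv, h.comp, fun s hs => h.cj s (h2 hs), fun t ht => h.chain t (h2 ht), fun T N Z Y v =>
    let ⟨f, hf, q⟩ := h.tv T N Z Y { v with le := v.le.trans h2 }
    ⟨f, hf, q.a, q.b, q.ne, fun z hz hn s hs => q.st z hz hn s (h2 hs)⟩⟩

theorem Gd.pre (h : Gd M E 𝒜) (hg : Au M g) : ∃ ℬ, Gd M (hg.pre E) ℬ := by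
  obtain ⟨b, hb, l, r⟩ := TL0.inv hg
  have bm : ∀ y ∈ E, b y ∈ hg.pre E := fun y hy => ⟨hb.mem y (h.le hy), (r y (h.le hy)).symm ▸ hy⟩
  have gm : ∀ {A : Subgroup W}, ∀ x ∈ M, x ∈ A → g x ∈ hb.pre A := fun x hx e => ⟨hg.mem x hx, (l x hx).symm ▸ e⟩
  have fm : ∀ f ∈ 𝒜, ∀ x ∈ E, f x ∈ M := fun f hf x hx => h.le ((h.au f hf).mem x hx)
  have le : ∀ {A}, A ≤ hg.pre E → hb.pre A ≤ E := fun i y hy => r y hy.1 ▸ (i hy.2).2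
  have iv : ∀ {A}, Iv ((fun f x => b (f (g x))) '' 𝒜) (hg.pre E) A → Iv 𝒜 E (hb.pre A) := fun {A} i =>
    ⟨le i.1, fun f hf y hy => ⟨fm f hf y (le i.1 hy), by simpa only [r y hy.1] using i.2 _ ⟨f, hf, rfl⟩ _ hy.2⟩⟩
  have cm : ∀ {A : Subgroup W}, ∀ t ∈ M, ∀ y ∈ M, ⁅b t, b y⁆ ∈ A → ⁅t, y⁆ ∈ hb.pre A := fun t ht y hy e =>
    ⟨TL0.cmem ht hy, hb.comm ht hy ▸ e⟩
  have cc : hb.pre ⁅hg.pre E, hg.pre E⁆ ≤ ⁅E, E⁆ := fun y hy => r y hy.1 ▸ ((commutator_le.2 fun x hx y hy =>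
    ⟨TL0.cmem hx.1 hy.1, hg.comm hx.1 hy.1 ▸ commutator_mem_commutator hx.2 hy.2⟩ :
      ⁅hg.pre E, hg.pre E⁆ ≤ hg.pre ⁅E, E⁆) hy.2).2
  have cj : ∀ s ∈ M, ∀ x ∈ M, g (s * x * s⁻¹) = g s * g x * (g s)⁻¹ := fun s hs x hx => by
    rw [hg.mul _ (mul_mem hs hx) _ (inv_mem hs), hg.mul _ hs _ hx, hg.inv hs]
  have nm : ∀ s ∈ M, (∀ x ∈ hg.pre E, s * x * s⁻¹ ∈ hg.pre E) → ∀ x ∈ E, g s * x * (g s)⁻¹ ∈ E :=
    fun s hs hn x hx => by simpa only [cj s hs _ (bm x hx).1, r x (h.le hx)] using (hn _ (bm x hx)).2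
  refine ⟨(fun f x => b (f (g x))) '' 𝒜, fun x hx => hx.1, ?_, ?_, ?_, fun s hs hn => ?_,
    fun t ht A B iA iB e1 e2 e3 => ⟨ht, h.chain _ (hg.mem t ht) _ _ (iv iA) (iv iB)
      (fun x hx => cm _ (hg.mem t ht) _ (h.le hx) ((l t ht).symm ▸ e1 _ (bm x hx)))
      (fun x hx => cm _ (hg.mem t ht) _ hx.1 ((l t ht).symm ▸ e2 _ hx.2))
      fun x hx => cc (cm _ (hg.mem t ht) _ hx.1 ((l t ht).symm ▸ e3 _ hx.2))⟩, fun T N Z Y v => ?_⟩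
  · rintro _ ⟨f, hf, rfl⟩
    have a := h.au f hf
    exact ⟨fun x hx => bm _ (a.mem _ hx.2), fun x hx y hy => by
      beta_reduce
      rw [hg.mul x hx.1 y hy.1, a.mul _ hx.2 _ hy.2, hb.mul _ (fm f hf _ hx.2) _ (fm f hf _ hy.2)],
      fun x hx e => hg.inj x hx.1 (a.inj _ hx.2 (hb.inj _ (fm f hf _ hx.2) e))⟩
  · rintro _ ⟨f, hf, rfl⟩
    obtain ⟨f', hf', e1, e2⟩ := h.inv f hf
    exact ⟨_, ⟨f', hf', rfl⟩, fun x hx => by simp only [r _ (fm f hf _ hx.2), e1 _ hx.2, l x hx.1],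
      fun x hx => by simp only [r _ (fm f' hf' _ hx.2), e2 _ hx.2, l x hx.1]⟩
  · rintro _ ⟨f, hf, rfl⟩ _ ⟨f', hf', rfl⟩
    obtain ⟨c, hc, e⟩ := h.comp f hf f' hf'
    exact ⟨_, ⟨c, hc, rfl⟩, fun x hx => by simp only [r _ (fm f' hf' _ hx.2), e _ hx.2]⟩
  · obtain ⟨f, hf, e⟩ := h.cj _ (hg.mem s hs) (nm s hs hn)
    exact ⟨_, ⟨f, hf, rfl⟩, fun x hx => by
      simp only [e _ hx.2, ← cj s hs x hx.1, l _ (mul_mem (mul_mem hs hx.1) (inv_mem hs))]⟩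
  have yM : Y ≤ M := fun y hy => (v.ye hy).1
  have zM : Z ≤ M := v.zy.trans yM
  have gE : ∀ y ∈ Y, g y ∈ E := fun y hy => (v.ye hy).2
  obtain ⟨f, hf, q⟩ := h.tv (hb.pre T) (hb.pre N) (hb.pre Z) (hb.pre Y) ⟨fun x hx => hx.1,
    fun e => v.nle fun t ht => ⟨v.le ht, e (gm t (v.le ht) ht)⟩, fun x hx => ⟨hx.1, v.nz hx.2⟩,
    fun x hx => ⟨hx.1, v.zy hx.2⟩, le v.ye, iv v.iv,
    fun t ht x hx => cm t ht.1 x (h.le hx) (v.te _ ht.2 _ (bm x hx)),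
    fun t ht x hx => cm t ht.1 x hx.1 (v.ty _ ht.2 _ hx.2),
    fun t ht x hx => cc (cm t ht.1 x hx.1 (v.tn _ ht.2 _ hx.2)),
    fun t ht x hx => cm t ht.1 x (h.le hx) (v.ze _ ht.2 _ (bm x hx)), fun f hf z hz hn z' hz' => by
      have m := fm f hf z (le (v.zy.trans v.ye) hz)
      obtain ⟨t, ht, e⟩ := v.surj _ ⟨f, hf, rfl⟩ _ hz.2 (fun e => hn ⟨m, by simpa only [r z hz.1] using e⟩) _ hz'.2
      have c := TL0.cmem (hg.mem t (v.le ht)) m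
      refine ⟨g t, gm t (v.le ht) ht, mul_mem c (inv_mem hz'.1), ?_⟩
      rw [hb.mul _ c _ (inv_mem hz'.1), hb.comm (hg.mem t (v.le ht)) m, hb.inv hz'.1, l t (v.le ht)]
      simpa only [r z hz.1] using e⟩
  refine ⟨_, ⟨f, hf, rfl⟩, fun z hz e => l z (zM hz) ▸ (q.a _ (gm z (zM hz) hz) ⟨fm f hf _ (gE z (v.zy hz)), e⟩).2,
    fun y hy e => l y (yM hy) ▸ (q.b _ (gm y (yM hy) hy) ⟨fm f hf _ (gE y hy), e⟩).2,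
    fun e => q.ne fun x hx => ⟨hx.1, e hx.2⟩, fun z hz hn s hs n ⟨y, hy, e⟩ => ⟨hs, q.st _ (gm z (zM hz) hz)
      (fun e => hn (l z (zM hz) ▸ e.2)) _ (hg.mem s hs) (nm s hs n) ⟨_, gm y (yM hy) hy, ?_⟩⟩⟩
  have m := fm f hf _ (gE z (v.zy hz))
  rw [← r _ m, ← cj s hs _ (hb.mem _ m), e, r _ (fm f hf _ (gE y hy))]

theorem Gd.id (h : Gd M E 𝒜) : ∃ f ∈ 𝒜, ∀ x ∈ E, f x = x := by
  simpa using h.cj 1 (one_mem M) (by simp)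

theorem Gd.iv_bot (h : Gd M E 𝒜) : Iv 𝒜 E ⊥ :=
  ⟨bot_le, fun f hf x hx => by rw [mem_bot.1 hx, (h.au f hf).one]; exact one_mem _⟩

theorem Gd.iv_self (h : Gd M E 𝒜) : Iv 𝒜 E E := ⟨le_rfl, fun f hf => (h.au f hf).mem⟩

theorem Gd.norm (h : Gd M E 𝒜) (hA : Iv 𝒜 E A) : ∀ s ∈ E, ∀ a ∈ A, s * a * s⁻¹ ∈ A := fun s hs a ha =>
  let ⟨f, hf, e⟩ := h.cj s (h.le hs) fun x hx => mul_mem (mul_mem hs hx) (inv_mem hs)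
  e a (hA.1 ha) ▸ hA.2 f hf a ha

theorem Gd.norm' (h : Gd M E 𝒜) (hA : Iv 𝒜 E A) (hs : s ∈ M) (hn : ∀ x ∈ E, s * x * s⁻¹ ∈ E) :
    ∀ a ∈ A, s * a * s⁻¹ ∈ A := fun a ha =>
  let ⟨f, hf, e⟩ := h.cj s hs hn
  e a (hA.1 ha) ▸ hA.2 f hf a ha

theorem Gd.back (h : Gd M E 𝒜) (hA : Iv 𝒜 E A) (hf : f ∈ 𝒜) (hx : x ∈ E) (e : f x ∈ A) : x ∈ A :=
  let ⟨g, hg, l, _⟩ := h.inv f hf
  l x hx ▸ hA.2 g hg _ e

theorem Gd.onto (h : Gd M E 𝒜) (hA : Iv 𝒜 E A) (hf : f ∈ 𝒜) (hx : x ∈ A) : ∃ y ∈ A, f y = x :=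
  let ⟨g, hg, _, r⟩ := h.inv f hf
  ⟨g x, hA.2 g hg x hx, r x (hA.1 hx)⟩

theorem Gd.iv_inf (h : Gd M E 𝒜) (hA : Iv 𝒜 E A) (hB : Iv 𝒜 E B) : Iv 𝒜 E (A ⊓ B) :=
  ⟨inf_le_left.trans hA.1, fun f hf x hx => ⟨hA.2 f hf x hx.1, hB.2 f hf x hx.2⟩⟩

theorem Gd.iv_sup (h : Gd M E 𝒜) (hA : Iv 𝒜 E A) (hB : Iv 𝒜 E B) : Iv 𝒜 E (A ⊔ B) :=
  ⟨sup_le hA.1 hB.1, fun f hf _ hx => ((sup_le (fun y hy => ⟨hA.1 hy, mem_sup_left (hA.2 f hf y hy)⟩)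
    (fun y hy => ⟨hB.1 hy, mem_sup_right (hB.2 f hf y hy)⟩) : A ⊔ B ≤ (h.au f hf).pre (A ⊔ B)) hx).2⟩

theorem Gd.iv_comm (h : Gd M E 𝒜) (hA : Iv 𝒜 E A) (hB : Iv 𝒜 E B) : Iv 𝒜 E ⁅A, B⁆ :=
  ⟨commutator_le.2 fun x hx y hy => TL0.cmem (hA.1 hx) (hB.1 hy), fun f hf _ hx =>
    ((commutator_le.2 fun x hx y hy => ⟨TL0.cmem (hA.1 hx) (hB.1 hy), (h.au f hf).comm (hA.1 hx) (hB.1 hy) ▸
      commutator_mem_commutator (hA.2 f hf x hx) (hB.2 f hf y hy)⟩ : ⁅A, B⁆ ≤ (h.au f hf).pre ⁅A, B⁆) hx).2⟩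

/-- `C = {x ∈ A | ⁅x, B⁆ ≤ N}` -/
theorem Gd.iv_cz (h : Gd M E 𝒜) (hA : Iv 𝒜 E A) (hB : Iv 𝒜 E B) (hN : Iv 𝒜 E N) {C : Subgroup W}
    (hC : ∀ x, x ∈ C ↔ x ∈ A ∧ ∀ y ∈ B, ⁅x, y⁆ ∈ N) : Iv 𝒜 E C :=
  ⟨fun x hx => hA.1 ((hC x).1 hx).1, fun f hf x hx => (hC _).2 ⟨hA.2 f hf x ((hC x).1 hx).1, fun y hy => by
    obtain ⟨z, hz, rfl⟩ := h.onto hB hf hy
    rw [← (h.au f hf).comm (hA.1 ((hC x).1 hx).1) (hB.1 hz)]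
    exact hN.2 f hf _ (((hC x).1 hx).2 z hz)⟩⟩

theorem Gd.exists_cz (h : Gd M E 𝒜) (hA : Iv 𝒜 E A) (hB : Iv 𝒜 E B) (hN : Iv 𝒜 E N) :
    ∃ C, Iv 𝒜 E C ∧ ∀ x, x ∈ C ↔ x ∈ A ∧ ∀ y ∈ B, ⁅x, y⁆ ∈ N :=
  ⟨cz A B N fun s hs => h.norm hN s (hA.1 hs), h.iv_cz hA hB hN fun _ => Iff.rfl, fun _ => Iff.rfl⟩

/-- the subgroup generated by the elements of `A` with `x ^ n = 1` -/
theorem Gd.iv_om (h : Gd M E 𝒜) (hA : Iv 𝒜 E A) (n : ℕ) : Iv 𝒜 E (closure {x | x ∈ A ∧ x ^ n = 1}) :=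
  ⟨(closure_le _).2 fun x hx => hA.1 hx.1, fun f hf _ hx => (((closure_le ((h.au f hf).pre _)).2 fun x hx =>
    ⟨hA.1 hx.1, Subgroup.subset_closure (k := {x | x ∈ A ∧ x ^ n = 1}) ⟨hA.2 f hf x hx.1, by
      rw [← (h.au f hf).pow (hA.1 hx.1), hx.2, (h.au f hf).one]⟩⟩)
      hx).2⟩

/-- the invariant closure of `A` -/
theorem Gd.exists_cl (h : Gd M E 𝒜) (hA : A ≤ E) :
    ∃ J, Iv 𝒜 E J ∧ A ≤ J ∧ ∀ B : Subgroup W, (∀ f ∈ 𝒜, ∀ x ∈ A, f x ∈ B) → J ≤ B := by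
  refine ⟨closure {y | ∃ f ∈ 𝒜, ∃ x ∈ A, f x = y}, ⟨(closure_le _).2 ?_, fun f hf _ hx =>
    (((closure_le ((h.au f hf).pre _)).2 ?_) hx).2⟩, fun x hx => ?_, fun B hB => (closure_le _).2 ?_⟩
  · rintro _ ⟨f, hf, x, hx, rfl⟩
    exact (h.au f hf).mem x (hA hx)
  · rintro _ ⟨g, hg, x, hx, rfl⟩
    obtain ⟨c, hc, e⟩ := h.comp f hf g hg
    exact ⟨(h.au g hg).mem x (hA hx), subset_closure ⟨c, hc, x, hx, e x (hA hx)⟩⟩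
  · obtain ⟨f, hf, e⟩ := h.id
    exact subset_closure ⟨f, hf, x, hx, e x (hA hx)⟩
  · rintro _ ⟨f, hf, x, hx, rfl⟩
    exact hB f hf x hx

theorem Gd.cent (h : Gd M E 𝒜) (ht : t ∈ M) (e : ∀ x ∈ E, ⁅t, x⁆ ∈ ⁅E, E⁆) : t ∈ E :=
  have k := fun x hx => (h.iv_comm h.iv_self h.iv_self).1 (e x hx)
  h.chain t ht E E h.iv_self h.iv_self k k e

theorem Gd.chain1 (h : Gd M E 𝒜) (ht : t ∈ M) (hA : Iv 𝒜 E A) (e1 : ∀ x ∈ E, ⁅t, x⁆ ∈ A)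
    (e2 : ∀ x ∈ A, ⁅t, x⁆ ∈ ⁅E, E⁆) : t ∈ E :=
  h.chain t ht A A hA hA e1 (fun x hx => e1 x (hA.1 hx)) e2

theorem Au.card_im (h : Au E f) (hA : A ≤ E) : Nat.card (h.im A) = Nat.card A :=
  (Nat.card_eq_of_bijective (fun x : A => (⟨f x, x, hA x.2, x.2, rfl⟩ : h.im A))
    ⟨fun x y e => Subtype.ext (h.eq (hA x.2) (hA y.2) (congrArg Subtype.val e)),
      fun ⟨_, x, _, hx, e⟩ => ⟨⟨x, hx⟩, Subtype.ext e⟩⟩).symm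

/-- the image of a subgroup normal in `E` is normal in `E` -/
theorem Au.im_norm (h : Au E f) (hA : A ≤ E) (hn : ∀ s ∈ E, ∀ a ∈ A, s * a * s⁻¹ ∈ A) :
    ∀ s ∈ E, ∀ a ∈ h.im A, s * a * s⁻¹ ∈ h.im A := by
  rintro s hs _ ⟨a, h1, h2, rfl⟩
  obtain ⟨s, hs', rfl⟩ := h.surj hs
  exact ⟨_, hA (hn s hs' a h2), hn s hs' a h2, by
    rw [h.mul _ (mul_mem hs' h1) _ (inv_mem hs'), h.mul _ hs' _ h1, h.inv hs']⟩

theorem Gd.tv2 (h : Gd M E 𝒜) (v : Tv M E 𝒜 T N Z Y) (hf : f ∈ 𝒜) (q : Tq M E N Z Y f)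
    (hc : Nat.card E * Nat.card N ≤ Nat.card Y * Nat.card Z) :
    (∀ x ∈ E, ∃ y ∈ Y, ∃ z ∈ Z, x = y * f z) ∧ ∀ s ∈ M, (∀ x ∈ E, ⁅s, x⁆ ∈ Y) → ∃ t ∈ T, t * s ∈ E := by
  have a := h.au f hf
  have zE := v.zy.trans v.ye
  have k : ∀ {A B : Subgroup W}, A ≤ E → B ≤ E → (∀ y ∈ B, f y ∈ A → y ∈ N) →
      Nat.card E * Nat.card N ≤ Nat.card A * Nat.card B → ∀ x ∈ E, ∃ y ∈ A, ∃ z ∈ B, x = y * f z :=
    fun {A B} hA hB e c x hx => by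
      obtain ⟨y, hy, _, ⟨z, -, hz, rfl⟩, e⟩ := TL0.prod hA (B := a.im B) (by rintro _ ⟨z, hz, -, rfl⟩; exact a.mem z hz)
        (by
          rw [a.card_im hB]
          refine le_trans (Nat.mul_le_mul_left _ ?_) c
          rw [← a.card_im v.iv.1]
          exact card_le_of_le (by rintro _ ⟨h1, z, h2, h3, rfl⟩; exact ⟨z, h2, e z h3 h1, rfl⟩)) hx
      exact ⟨y, hy, z, hz, e⟩
  refine ⟨k v.ye zE q.a hc, fun s hs e => ?_⟩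
  obtain ⟨z, hz, hn⟩ := SetLike.not_le_iff_exists.1 q.ne
  have m := a.mem z (zE hz)
  obtain ⟨z1, h1, y1, h2, e1⟩ := k zE v.ye q.b (mul_comm (Nat.card Y) _ ▸ hc) _ (mul_mem (v.ye (e _ m)) m)
  obtain ⟨t, ht, e2⟩ := v.surj f hf z hz (fun e => hn (q.a z hz e)) _ (inv_mem h1)
  obtain ⟨n, h3, e3⟩ := h.onto v.iv hf (mul_mem (mul_mem (v.ty t ht _ (e _ m))
    (inv_mem (v.ze _ (v.te t ht _ m) _ (v.ye (e _ m))))) e2)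
  refine ⟨t, ht, q.st z hz hn _ (mul_mem (v.le ht) hs) (fun x hx => ?_) ⟨n * y1, mul_mem (v.zy (v.nz h3)) h2, ?_⟩⟩
  · have := mul_mem (v.ye (e x hx)) hx
    convert mul_mem (zE (v.te t ht _ this)) this using 1
    simp only [commutatorElement_def]; group
  · rw [a.mul _ (v.iv.1 h3) _ (v.ye h2), e3, inv_inv, mul_assoc _ (_ * z1), mul_assoc _ z1, ← e1]
    simp only [commutatorElement_def]; group

theorem card_le_of_ker {X : Type*} [Finite X] (hY : Y ≤ E) (c : W → X)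
    (hc : ∀ x ∈ E, ∀ y ∈ E, c x = c y → x⁻¹ * y ∈ Y) : Nat.card E ≤ Nat.card Y * Nat.card X := by
  rw [← TL0.rel hY, mul_comm]
  refine Nat.mul_le_mul_left _ (Nat.card_le_card_of_injective (fun q : E ⧸ Y.subgroupOf E => c q.out) fun a b e => ?_)
  rw [← a.out_eq', ← b.out_eq']
  exact QuotientGroup.eq.2 (hc _ a.out.2 _ b.out.2 e)

theorem le_card_of_inj {X : Type*} [Finite X] (hN : N ≤ Z) (c : X → W) (h1 : ∀ a, c a ∈ Z)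
    (hc : ∀ a b, (c a)⁻¹ * c b ∈ N → a = b) : Nat.card N * Nat.card X ≤ Nat.card Z := by
  rw [← TL0.rel hN, mul_comm]
  exact Nat.mul_le_mul_right _ (Nat.card_le_card_of_injective
    (fun a => ((⟨c a, h1 a⟩ : Z) : Z ⧸ N.subgroupOf Z)) fun a b e => hc a b (mem_subgroupOf.1 (QuotientGroup.eq.1 e)))

theorem exists_not_mem (hA : ¬ E ≤ A) (hB : ¬ E ≤ B) : ∃ x ∈ E, x ∉ A ∧ x ∉ B := by
  obtain ⟨a, ha, h1⟩ := SetLike.not_le_iff_exists.1 hA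
  obtain ⟨b, hb, h2⟩ := SetLike.not_le_iff_exists.1 hB
  by_cases h3 : a ∈ B
  · by_cases h4 : b ∈ A
    · exact ⟨a * b, mul_mem ha hb, mt (mul_mem_cancel_right h4).1 h1, mt (mul_mem_cancel_left h3).1 h2⟩
    · exact ⟨b, hb, h4, h2⟩
  · exact ⟨a, ha, h1, h3⟩


end H69.T3
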