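import Mathlib
import Cfsg.Agent.Lib.T3F.Defs
import Cfsg.Agent.Lib.T3F.FL
import Cfsg.Agent.Lib.T3F.TL0

set_option autoImplicit false
set_option linter.unusedSectionVars false
set_option linter.unusedVariables false

namespace H69.T3

open H89.D4S Subgroup
open H93.SX hiding sh
open H68 (SylowIn)
open scoped commutatorElement

variable {k K : Type*} [Field k] [Field K] [Cub k K] [Finite k] [Finite K] [Fc K]
  {M E : Subgroup (Wd K)} {𝒜 : Set (Wd K → Wd K)}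

namespace AR

open Wd

theorem comp {W : Type*} [Group W] {E : Subgroup W} {f g : W → W} (hf : Au E f) (hg : Au E g) :
    Au E fun x => f (g x) :=
  ⟨fun x hx => hf.mem _ (hg.mem x hx), fun x hx y hy => by
    rw [hg.mul x hx y hy, hf.mul _ (hg.mem x hx) _ (hg.mem y hy)],
    fun x hx e => hg.inj x hx (hf.inj _ (hg.mem x hx) e)⟩

theorem ca (μ : k) (x : Wd K) : (gb (-μ) * nb x * (gb (-μ))⁻¹).a = x.c := by simp [gb, nb]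
theorem cb' (μ : k) (x : Wd K) : (gb (-μ) * nb x * (gb (-μ))⁻¹).b = 0 := by simp [gb, nb]
theorem cc (μ : k) (x : Wd K) : (gb (-μ) * nb x * (gb (-μ))⁻¹).c = -x.a + ι μ * x.c := by simp [gb, nb]
theorem cd (μ : k) (x : Wd K) :
    (gb (-μ) * nb x * (gb (-μ))⁻¹).d = x.d - cr x.c x.a + ι μ * sh x.c := by simp [gb, nb]

theorem c4 {x y : Wd K} (hx : x ∈ Z4 K) (hy : y ∈ Z4 K) :
    ⁅x, y⁆ = gf (T (x.d * y.c) - T (x.c * y.d)) := by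
  rw [comm_Q2 hx.1 hy.1, hx.2, hy.2]
  congr 1
  ring

theorem gf_one {t : k} : (gf t : Wd K) = 1 ↔ t = 0 := by simp [eq_one, gf]

theorem cd3 {x : Wd K} (h3 : Z3 K ≤ E) (h : E ≤ Q1 K) (hx : x ∈ E) (d : K) :
    (⟨0, 0, 0, 0, T (x.a * d), -T (x.c * d)⟩ : Wd K) ∈ ⁅Z3 K, E⁆ := by
  have := commutator_mem_commutator hx (show gd d ∈ Z3 K from ⟨rfl, rfl, rfl⟩)
  rw [commutator_comm, comm_Z3 rfl rfl rfl, mem_Q1.1 (h hx)] at this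
  simpa [gd] using this

end AR

/-- an automorphism of `Q1` that carries `Z4` to `Rm μ` -/
theorem exists_au (μ : k) : ∃ g : Wd K → Wd K, Au (Q1 K) g ∧ (∀ x ∈ Q1 K, g x ∈ Rm K μ ↔ x ∈ Z4 K) ∧
    (∀ x ∈ Q1 K, g x ∈ Z3 K ↔ x ∈ Z3 K) ∧ (∀ x ∈ Q1 K, g x ∈ Z2 K ↔ x ∈ Z2 K) ∧
    (∀ x ∈ Q1 K, g x ∈ Z4 K ↔ x ∈ Rm K 0) ∧
    ∀ ν : k, ν ≠ 0 → ∃ ν' : k, ∀ x ∈ Q1 K, g x ∈ Rm K ν' ↔ x ∈ Rm K ν := by
  refine ⟨fun x => gb (-μ) * nb x * (gb (-μ))⁻¹, AR.comp (au_conj _ _) au_nb, fun x hx => ?_, fun x hx => ?_,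
    fun x hx => ?_, fun x hx => ?_, fun ν hν => ⟨μ - ν⁻¹, fun x hx => ?_⟩⟩ <;>
    simp only [mem_Rm, mem_Z4, mem_Z3, mem_Z2, AR.ca, AR.cb', AR.cc, AR.cd, mem_Q1.1 hx, true_and, and_true]
  · simp
  · exact ⟨fun h => ⟨by simpa [h.1] using h.2, h.1⟩, fun h => ⟨h.2, by simp [h.1, h.2]⟩⟩
  · exact ⟨fun h => ⟨by simpa [h.1] using h.2.1, h.1, by simpa [h.1] using h.2.2⟩,
      fun h => ⟨h.2.1, by simp [h.1, h.2.1], by simp [h.2.1, h.2.2]⟩⟩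
  · simp
  · have : (ι ν : K) ≠ 0 := by simpa using hν
    rw [map_sub, map_inv₀]
    constructor
    · intro h
      have e : x.a = (ι ν)⁻¹ * x.c := by linear_combination -h
      rw [e]; field_simp
    · intro h
      rw [h]; field_simp; ring

theorem Gd.eq_Z4 (h : Gd (Q1 K) E 𝒜) (h2 : Z2 K ≤ E) (h1 : E ≤ Z4 K) : E = Z4 K := by
  refine le_antisymm h1 (by_contra fun hn => ?_)
  have c1 : ∀ {x y}, x ∈ Z4 K → y ∈ Z4 K → ⁅x, y⁆ ∈ Z1 K := fun hx hy => comm_memQ2 hx.1 hy.1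
  obtain ⟨f, hf, q⟩ := h.tv (Z4 K) ⊥ (Z1 K) (Z2 K) ⟨Z4_le1, hn, bot_le, Z1_le, h2, h.iv_bot,
    fun t ht x hx => c1 ht (h1 hx), fun t ht x hx => by
      rw [mem_bot, AR.c4 ht (Z3_le (Z2_le hx)), AR.gf_one, hx.2.2.1, hx.2.2.2]; simp,
    fun t ht x hx => by rw [mem_bot.1 hx, commutatorElement_one_right]; exact one_mem _,
    fun z hz x hx => by rw [← commutatorElement_inv, comm_mem0 x hz, inv_one]; exact one_mem _,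
    fun f hf z hz hw z' hz' => by
      have w4 := h1 ((h.au f hf).mem z (h2 (Z1_le hz)))
      have e : ∀ {t}, t ∈ Z4 K → T (t.d * (f z).c) - T (t.c * (f z).d) = z'.f →
          ⁅t, f z⁆ * z'⁻¹ ∈ (⊥ : Subgroup (Wd K)) := fun {t} ht e => by
        rw [mem_bot, mul_inv_eq_one, AR.c4 ht w4, e]
        exact Wd.ext hz'.1.symm hz'.2.1.symm hz'.2.2.1.symm hz'.2.2.2.1.symm hz'.2.2.2.2.symm rfl
      by_cases hc : (f z).c = 0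
      · obtain ⟨y, hy⟩ := T_surj (fun hd => hw ⟨w4.1, w4.2, hc, hd⟩) (-z'.f)
        exact ⟨gc y, ⟨rfl, rfl⟩, e ⟨rfl, rfl⟩ (by simp [gc, mul_comm y, hy])⟩
      · obtain ⟨y, hy⟩ := T_surj hc z'.f
        exact ⟨gd y, ⟨rfl, rfl⟩, e ⟨rfl, rfl⟩ (by simp [gd, mul_comm y, hy])⟩⟩
  have au := h.au f hf
  have ab : ∀ x ∈ E, ∀ y ∈ E, ⁅x, y⁆ = 1 := fun x hx y hy =>
    mem_bot.1 (q.a _ (c1 (h1 hx) (h1 hy)) (by
      rw [au.comm hx hy]; exact Z1_le (c1 (h1 (au.mem x hx)) (h1 (au.mem y hy)))))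
  have z1 : (gf 1 : Wd K) ∈ Z1 K := ⟨rfl, rfl, rfl, rfl, rfl⟩
  have w4 := h1 (au.mem _ (h2 (Z1_le z1)))
  have st : ∀ s ∈ Z4 K, T (s.d * (f (gf 1)).c) - T (s.c * (f (gf 1)).d) = 0 → s ∈ E := fun s hs e =>
    q.st _ z1 (fun k => one_ne_zero (AR.gf_one.1 (mem_bot.1 k))) s hs.2 (fun x hx => by
      simpa [commutatorElement_def] using mul_mem (h2 (Z1_le (c1 hs (h1 hx)))) hx)
      ⟨_, Z1_le z1, by
        have := AR.c4 hs w4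
        rw [e, AR.gf_one.2 rfl, commutatorElement_eq_one_iff_mul_comm] at this
        rw [this, mul_inv_cancel_right]⟩
  obtain ⟨c, hc, hc'⟩ := exists_perp_not (f (gf 1)).d (f (gf 1)).c
  obtain ⟨d, hd, hd'⟩ : ∃ d, T ((f (gf 1)).c * d) = 0 ∧ T (c * d) = 1 := by
    by_cases k : (f (gf 1)).c = 0
    · obtain ⟨d, hd⟩ := T_surj (a := c) (by simpa using hc' 0) 1
      exact ⟨d, by simp [k], hd⟩
    · exact T_two (indep_of k hc') 0 1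
  have := ab _ (st (gd d) ⟨rfl, rfl⟩ (by simp [gd, mul_comm d, hd])) _
    (st (gc c) ⟨rfl, rfl⟩ (by simp [gc, hc]))
  rw [AR.c4 ⟨rfl, rfl⟩ ⟨rfl, rfl⟩, AR.gf_one] at this
  simp [gd, gc, mul_comm d, hd'] at this

theorem Gd.eq_Rm (h : Gd (Q1 K) E 𝒜) (h2 : Z2 K ≤ E) {μ : k} (h1 : E ≤ Rm K μ) : E = Rm K μ := by
  obtain ⟨g, hg, g1, -, g2, -⟩ := exists_au (K := K) μ
  obtain ⟨ℬ, hB⟩ := h.pre hg
  have e := hB.eq_Z4 (fun x hx => ⟨hx.2.1, h2 ((g2 x hx.2.1).2 hx)⟩) fun x hx => (g1 x hx.1).1 (h1 hx.2)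
  refine le_antisymm h1 fun y hy => ?_
  obtain ⟨x, hx, rfl⟩ := hg.surj (show y ∈ Q1 K from hy.1)
  exact (e.ge ((g1 x hx).1 hy)).2

theorem gr_Rm (μ : k) : Gr (Rm K μ) :=
  ⟨fun x hx => ⟨hx.2.1, by rw [hx.1, hx.2.2, mul_zero]⟩, fun x hx => hx.1,
    fun x hx e => by rw [hx.2, e, mul_zero], fun a => ⟨⟨a, 0, ι μ * a, 0, 0, 0⟩, ⟨rfl, rfl⟩, rfl⟩,
    fun x hx y hy => by rw [comm_d hx.1 hy.1, hx.2, hy.2, cr_ι, cr_ι, cr_comm, sub_self]⟩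

/-- outside the conjugates of `Z4`, the commutators with `Z3` fill `Z2` -/
theorem z2_le_comm (h3 : Z3 K ≤ E) (h : E ≤ Q1 K) (h1 : ¬ E ≤ Z4 K) (h2 : ∀ μ, ¬ E ≤ Rm K μ) :
    Z2 K ≤ ⁅Z3 K, E⁆ := by
  obtain ⟨x, hx, hn⟩ := SetLike.not_le_iff_exists.1 h1
  have xa : x.a ≠ 0 := fun e => hn ⟨e, h hx⟩
  rintro ⟨_, _, _, _, e, f⟩ ⟨rfl, rfl, rfl, rfl⟩
  by_cases k : ∀ t : k, x.c ≠ ι t * x.a
  · obtain ⟨d, h1, h2⟩ := T_two (indep_of xa k) e (-f)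
    simpa [h1, h2] using AR.cd3 h3 h hx d
  push Not at k
  obtain ⟨μ, hμ⟩ := k
  obtain ⟨y, hy, hn⟩ := SetLike.not_le_iff_exists.1 (h2 μ)
  obtain ⟨d, hd⟩ := T_surj (sub_ne_zero.2 fun e => hn ⟨h hy, e⟩) (-f - μ * e)
  obtain ⟨d', hd'⟩ := T_surj xa (e - T (y.a * d))
  rw [sub_mul, map_sub, mul_assoc, T_ι_mul] at hd
  convert mul_mem (AR.cd3 h3 h hx d') (AR.cd3 h3 h hy d) using 1
  ext <;> simp [hμ, mul_assoc, hd']
  linear_combination hd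

end H69.T3
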