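import Mathlib
import Cfsg.Agent.Lib.T3F.Defs
import Cfsg.Agent.Lib.T3F.FL
import Cfsg.Agent.Lib.T3F.TL0

set_option autoImplicit false
set_option linter.unusedSectionVars false
set_option linter.unusedVariables false

namespace H69.T3

open H89.D4S Subgroup
open H93.SX hiding sh
open H68 (SylowIn)
open scoped commutatorElement

variable {k K : Type*} [Field k] [Field K] [Cub k K] [Finite k] [Finite K] [Fc K]
  {M E : Subgroup (Wd K)} {𝒜 : Set (Wd K → Wd K)}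

namespace BE

theorem flip {A : Subgroup (Wd K)} {x y : Wd K} (h : ⁅x, y⁆ ∈ A) : ⁅y, x⁆ ∈ A := by
  rw [← commutatorElement_inv]; exact inv_mem h

theorem sq4 (h0 : (2 : k) = 0) {z : Wd K} (hz : z ∈ Z4 K) : z * z = gf (T (z.d * z.c)) := by
  have h2 : (2 : K) = 0 := two_iff.2 h0
  ext <;> simp [gf, hz.1, hz.2]
  · linear_combination z.c * h2
  · linear_combination z.d * h2
  · linear_combination z.e * h0
  · linear_combination z.f * h0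

theorem sq3 (h0 : (2 : k) = 0) {z : Wd K} (hz : z ∈ Z3 K) : z * z = 1 := by
  rw [sq4 h0 (Z3_le hz), hz.2.2]; ext <;> simp [gf]

theorem ab (h0 : (2 : k) = 0) {x : Wd K} (h : (x * x).c = 0) : x.a = 0 ∨ x.b = 0 := by
  have h2 : (2 : K) = 0 := two_iff.2 h0
  have e : ι x.b * x.a = 0 := by rw [Wd.mul_c] at h; linear_combination h - x.c * h2
  exact (mul_eq_zero.1 e).symm.imp id ι_eq_zero.1

theorem comm_d2 (x : Wd K) {y : Wd K} (hy : y.a = 0) : (⁅x, y⁆).d = cr x.a y.c + ι y.b * sh x.a := by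
  wds; simp only [hy]; cb

end BE

theorem sq_ne (h0 : (2 : k) = 0) {w x : Wd K} (hw : w ∈ Z4 K) (hc : w.c ≠ 0) (hx : x.a ≠ 0)
    (h : ⁅x, w⁆ ∈ Z1 K) : w * w ≠ 1 := fun e => by
  obtain ⟨-, e1, e2⟩ := comm_Z4 (x := x) hw.1 hw.2
  obtain ⟨μ, hμ⟩ := (cr_ker2 h0 hx).1 (e1.symm.trans h.2.2.2.1)
  have μ0 : μ ≠ 0 := fun e => hc (by rw [hμ, e]; simp)
  rw [BE.sq4 h0 hw] at e
  have e3 : T (w.d * w.c) = 0 := congrArg Wd.f e
  rw [h.2.2.2.2, hμ, show sh x.a * (ι μ * x.a) = ι μ * (x.a * sh x.a) by ring, T_ι_mul, T_mul_sh'] at e2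
  rw [hμ, show w.d * (ι μ * x.a) = ι μ * (x.a * w.d) by ring, T_ι_mul] at e3
  refine mul_ne_zero (mul_ne_zero μ0 μ0) (N_ne hx) ?_
  linear_combination (-μ) * e2 - e3 - μ * μ * N x.a * h0

theorem Gd.be (h : Gd ⊤ E 𝒜) (h0 : (2 : k) = 0) (h2 : Z2 K ≤ E) (h1 : ¬ E ≤ Q1 K) (h3 : ¬ E ≤ Q2 K) :
    E = ⊤ := by
  obtain ⟨u, hu, ub, ua⟩ := exists_not_mem h1 h3
  rw [mem_Q1] at ub
  rw [mem_Q2] at ua
  have cm : ∀ y ∈ E, ⁅u, y⁆ ∈ ⁅E, E⁆ := fun y hy => commutator_mem_commutator hu hy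
  have d1 : Z1 K ≤ ⁅E, E⁆ := fun z hz => by
    have := cm (ge (z.f / u.b)) (h2 ⟨rfl, rfl, rfl, rfl⟩)
    rw [comm_Z3 rfl rfl rfl] at this
    convert this using 1
    ext <;> simp [ge, hz.1, hz.2.1, hz.2.2.1, hz.2.2.2.1, hz.2.2.2.2, mul_div_cancel₀ _ ub]
  -- the commutator with `u`
  have key : ∀ f ∈ 𝒜, ∀ z ∈ E, ∃ y ∈ E, ⁅u, f z⁆ = f ⁅y, z⁆ := fun f hf z hz => by
    obtain ⟨y, hy, rfl⟩ := (h.au f hf).surj hu
    exact ⟨y, hy, ((h.au f hf).comm hy hz).symm⟩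
  have cE : ∀ x ∈ E, ∀ y ∈ E, ⁅x, y⁆ ∈ E := fun x hx y hy =>
    mul_mem (mul_mem (mul_mem hx hy) (inv_mem hx)) (inv_mem hy)
  have sq : ∀ f ∈ 𝒜, ∀ z ∈ E, z ∈ Z3 K → f z * f z = 1 := fun f hf z hz h3 => by
    rw [← (h.au f hf).mul z hz z hz, BE.sq3 h0 h3, (h.au f hf).one]
  have s1 : ∀ f ∈ 𝒜, ∀ z ∈ Z2 K, f z ∈ Z4 K := fun f hf z hz => by
    by_contra hn
    have F := h.au f hf
    obtain ⟨y, hy, e⟩ := key f hf z (h2 hz)
    have m := comm_mem1 y hz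
    refine sq_ne h0 (comm_mem4 u (f z)) (fun c => hn ?_) ua ?_ (e ▸ sq f hf _ (h2 (Z1_le m)) (Z2_le (Z1_le m)))
    · rw [comm_c] at c
      rcases BE.ab h0 (congrArg Wd.c (sq f hf z (h2 hz) (Z2_le hz))) with e1 | e1
      · exact ⟨e1, by simpa [e1, ua] using c⟩
      · exact ⟨by simpa [e1, ub] using c, e1⟩
    · obtain ⟨y', hy', e'⟩ := key f hf _ (h2 (Z1_le m))
      rw [e, e', comm_mem0 y' m, F.one]
      exact one_mem _
  have z3 : Z3 K ≤ E := fun t ht => by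
    obtain ⟨J, iJ, lJ, mJ⟩ := h.exists_cl h2
    exact h.chain1 (mem_top t) iJ (fun x _ => lJ (BE.flip (comm_mem2 x ht)))
      fun x hx => d1 (comm_memQ2 ht.1 (mJ _ s1 hx).1)
  -- the common step
  have st : ∀ f ∈ 𝒜, ∀ z ∈ E, z ∈ Z4 K → (f z * f z).c = 0 → (∀ y ∈ E, ⁅f z, f ⁅y, z⁆⁆ ∈ Z1 K) → f z ∈ Q2 K :=
    fun f hf z hz h4 e0 hc => by
    by_contra hn
    rw [mem_Q2] at hn
    obtain ⟨y, hy, e⟩ := key f hf z hz
    refine sq_ne h0 (comm_mem4 u (f z)) (fun c => ?_) hn (e ▸ hc y hy)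
      (e ▸ sq f hf _ (cE y hy z hz) (comm_mem3 y h4))
    rw [comm_c, (BE.ab h0 e0).resolve_left hn] at c
    simp [hn, ub] at c
  have s3 : ∀ f ∈ 𝒜, ∀ z ∈ Z3 K, f z ∈ Q2 K := fun f hf z hz =>
    st f hf z (z3 hz) (Z3_le hz) (congrArg Wd.c (sq f hf z (z3 hz) hz)) fun y hy => by
      have m := comm_mem2 y hz
      have e : ⁅z, ⁅y, z⁆⁆ = 1 := by
        rw [comm_Z3 m.1 m.2.1 m.2.2.1]; simp [Wd.eq_one, hz.1, hz.2.1, hz.2.2]
      rw [← (h.au f hf).comm (z3 hz) (h2 m), e, (h.au f hf).one]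
      exact one_mem _
  have z4 : Z4 K ≤ E := fun t ht => by
    obtain ⟨J, iJ, lJ, mJ⟩ := h.exists_cl z3
    exact h.chain1 (mem_top t) iJ (fun x _ => lJ (BE.flip (comm_mem3 x ht)))
      fun x hx => d1 (comm_memQ2 ht.1 (mJ _ s3 hx))
  have i1 : Iv 𝒜 E (Z1 K) := h.iv_cz h.iv_self h.iv_self h.iv_bot fun x => by
    refine ⟨fun hx => ⟨h2 (Z1_le hx), fun y _ => BE.flip (mem_bot.2 (comm_mem0 y hx))⟩, fun ⟨_, hc⟩ => ?_⟩
    have c1 : ∀ d e, T (x.a * d) = 0 ∧ x.b * e + x.b * T (x.a * d) - T (x.c * d) = 0 := fun d e => by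
      have := mem_bot.1 (hc ⟨0, 0, 0, d, e, 0⟩ (z3 ⟨rfl, rfl, rfl⟩))
      rw [comm_Z3 rfl rfl rfl] at this
      exact ⟨congrArg Wd.e this, congrArg Wd.f this⟩
    have ha : x.a = 0 := nd _ fun d => (c1 d 0).1
    have hb : x.b = 0 := by simpa using (c1 0 1).2
    have hc' : x.c = 0 := nd _ fun d => by simpa [hb] using (c1 d 0).2
    have c2 : ∀ y ∈ E, y.b * x.e + y.b * T (y.a * x.d) - T (y.c * x.d) = 0 := fun y hy => by
      have := mem_bot.1 (BE.flip (hc y hy))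
      rw [comm_Z3 ha hb hc'] at this
      exact congrArg Wd.f this
    have hd : x.d = 0 := nd _ fun c => by simpa [gc, mul_comm] using c2 (gc c) (z4 ⟨rfl, rfl⟩)
    exact ⟨ha, hb, hc', hd, by simpa [hd, ub] using c2 u hu⟩
  have s4 : ∀ f ∈ 𝒜, ∀ z ∈ Z4 K, f z ∈ Q2 K := fun f hf z hz =>
    st f hf z (z4 hz) hz (by
      rw [← (h.au f hf).mul z (z4 hz) z (z4 hz), BE.sq4 h0 hz]
      exact (i1.2 f hf _ ⟨rfl, rfl, rfl, rfl, rfl⟩).2.2.1) fun y hy => by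
      rw [← (h.au f hf).comm (z4 hz) (cE y hy z (z4 hz))]
      exact i1.2 f hf _ (comm_memQ2 hz.1 (comm_a y z))
  have i4 : Iv 𝒜 E (Z4 K) := ⟨z4, fun f hf z hz => by
    have ha : (f z).a = 0 := s4 f hf z hz
    obtain ⟨y, hy, e⟩ := key f hf z (z4 hz)
    have e1 := sq f hf _ (cE y hy z (z4 hz)) (comm_mem3 y hz)
    rw [← e, BE.sq4 h0 (comm_mem4 u (f z))] at e1
    have e2 : T ((⁅u, f z⁆).d * (⁅u, f z⁆).c) = 0 := congrArg Wd.f e1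
    rw [BE.comm_d2 u ha, comm_c, ha, mul_zero, sub_zero, show (cr u.a (f z).c + ι (f z).b * sh u.a) *
      (ι (f z).b * u.a) = ι (f z).b * (u.a * cr u.a (f z).c + ι (f z).b * (u.a * sh u.a)) by ring, T_ι_mul,
      map_add, T_ι_mul, T_cr_self', T_mul_sh'] at e2
    refine ⟨ha, by_contra fun hb => mul_ne_zero (mul_ne_zero hb hb) (N_ne ua) ?_⟩
    linear_combination e2 - ((f z).b * T (sh u.a * (f z).c) + (f z).b * (f z).b * N u.a) * h0⟩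
  have i2 : Iv 𝒜 E (Z2 K) := h.iv_cz i4 i4 h.iv_bot fun x => by
    refine ⟨fun hx => ⟨Z3_le (Z2_le hx), fun y hy => ?_⟩, fun ⟨hx, hc⟩ => ?_⟩
    · rw [comm_Q2 hx.1 hy.1, mem_bot]
      simp [Wd.eq_one, gf, hx.2.1, hx.2.2.1, hx.2.2.2, hy.2]
    · have c1 : ∀ c d, T (x.d * c) = T (x.c * d) := fun c d => by
        have := mem_bot.1 (hc ⟨0, 0, c, d, 0, 0⟩ ⟨rfl, rfl⟩)
        rw [comm_Q2 hx.1 rfl] at this
        have := congrArg Wd.f this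
        simp only [gf, Wd.one_f] at this
        linear_combination this
      exact ⟨hx.1, hx.2, nd _ fun d => by simpa using (c1 0 d).symm, nd _ fun c => by simpa using c1 c 0⟩
  have d2 : Z2 K ≤ ⁅E, E⁆ := fun z hz => by
    obtain ⟨d, hd⟩ := T_surj ua z.e
    have m := cm (gd d) (z3 ⟨rfl, rfl, rfl⟩)
    refine (mul_mem_cancel_left (inv_mem m)).1 (d1 ?_)
    rw [comm_Z3 rfl rfl rfl]
    simp [gd, hd, hz.1, hz.2.1, hz.2.2.1, hz.2.2.2]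
  obtain ⟨B, iB, mB⟩ := h.exists_cz i4 h.iv_self i2
  refine eq_top_iff.2 fun t _ => h.chain t (mem_top t) _ B i4 iB (fun x _ => comm_mem4 t x)
    (fun x hx => (mB _).2 ⟨comm_mem4 t x, fun y _ => BE.flip (comm_mem2 y (comm_mem3 t hx))⟩) fun x hx => ?_
  obtain ⟨x4, hx⟩ := (mB x).1 hx
  obtain ⟨μ, hμ⟩ := (cr_ker2 h0 ua).1 ((comm_Z4 (x := u) x4.1 x4.2).2.1.symm.trans (BE.flip (hx u hu)).2.2.2)
  have g4 : gc (ι μ * t.a) ∈ Z4 K := ⟨rfl, rfl⟩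
  have m := cm _ (z4 g4)
  refine (mul_mem_cancel_left (inv_mem m)).1 (d2 ?_)
  have m1 := comm_mem3 u g4
  have m2 := comm_mem3 t x4
  have m3 := mul_mem (inv_mem m1) m2
  refine ⟨m3.1, m3.2.1, m3.2.2, ?_⟩
  rw [Wd.mul_d, Wd.inv_d, Wd.inv_a, m1.1, m1.2.1, m2.2.1, (comm_Z4 rfl rfl).2.1, (comm_Z4 x4.1 x4.2).2.1, hμ]
  simp only [gc]
  cb

end H69.T3
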