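import Mathlib
import Cfsg.Agent.Lib.T3F.Defs
import Cfsg.Agent.Lib.T3F.AR
import Cfsg.Agent.Lib.T3F.BE

set_option autoImplicit false
set_option linter.unusedSectionVars false
set_option linter.unusedVariables false

namespace H69.T3

open H89.D4S Subgroup
open H93.SX hiding sh
open H68 (SylowIn)
open scoped commutatorElement

variable {k K : Type*} [Field k] [Field K] [Cub k K] [Finite k] [Finite K] [Fc K]
  {M E : Subgroup (Wd K)} {𝒜 : Set (Wd K → Wd K)}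

namespace A1

theorem cflip {A : Subgroup (Wd K)} {x y : Wd K} (h : ⁅x, y⁆ ∈ A) : ⁅y, x⁆ ∈ A := by
  rw [← commutatorElement_inv]; exact inv_mem h

theorem c33 {x y : Wd K} (hx : x ∈ Z3 K) (hy : y ∈ Z3 K) : ⁅x, y⁆ = 1 := by
  rw [comm_Z3 hy.1 hy.2.1 hy.2.2, Wd.eq_one]
  simp [hx.1, hx.2.1, hx.2.2]

theorem c12 {x y : Wd K} (hx : x ∈ Q1 K) (hy : y ∈ Z2 K) : ⁅x, y⁆ = 1 := by
  have hb : x.b = 0 := hx
  rw [comm_Z3 hy.1 hy.2.1 hy.2.2.1, Wd.eq_one]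
  simp [hb, hy.2.2.2]

theorem l0 (h : Gd (Q1 K) E 𝒜) (h2 : Z2 K ≤ E) {w : Wd K} (hc : ∀ x ∈ E, ⁅x, w⁆ = 1) (h4 : w ∈ Z4 K)
    (h3 : w ∉ Z3 K) (sq : (2 : k) = 0 → w * w = 1) : Z3 K ≤ E := by
  have c0 : w.c ≠ 0 := fun e => h3 ⟨h4.1, h4.2, e⟩
  rw [h.eq_Z4 h2 fun x hx => ⟨?_, h.le hx⟩]
  · exact Z3_le
  by_cases h0 : (2 : k) = 0
  · by_contra a0
    exact sq_ne h0 h4 c0 a0 (hc x hx ▸ one_mem _) (sq h0)
  · have := (comm_Z4 (x := x) h4.1 h4.2).2.1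
    rw [hc x hx, cr_comm] at this
    exact cr_eq_zero h0 c0 this.symm

theorem l1 (h : Gd (Q1 K) E 𝒜) (h2 : Z2 K ≤ E) {w : Wd K} (hc : ∀ x ∈ E, ⁅x, w⁆ = 1) {μ : k}
    (h4 : w ∈ Rm K μ) (h3 : w ∉ Z3 K) (sq : (2 : k) = 0 → w * w = 1) : Z3 K ≤ E := by
  obtain ⟨g, hg, g4, g3, g2, -⟩ := exists_au (K := K) μ
  obtain ⟨ℬ, h'⟩ := h.pre hg
  obtain ⟨w, hw, rfl⟩ := hg.surj (show w ∈ Q1 K from h4.1)
  have := l0 h' (fun z hz => ⟨hz.2.1, h2 ((g2 z hz.2.1).2 hz)⟩) (w := w)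
    (fun x hx => hg.eq (Z4_le1 (comm_mem4 _ _)) (one_mem _) (by rw [hg.comm hx.1 hw, hc _ hx.2, hg.one]))
    ((g4 w hw).1 h4) (fun e => h3 ((g3 w hw).2 e))
    fun e => hg.eq (mul_mem hw hw) (one_mem _) (by rw [hg.mul w hw w hw, sq e, hg.one])
  intro y hy
  obtain ⟨y, hy', rfl⟩ := hg.surj (show y ∈ Q1 K from hy.2.1)
  exact (this ((g3 y hy').1 hy)).2

end A1

open A1

theorem Gd.a1 {p : ℕ} [Fact p.Prime] [CharP K p] (h : Gd (Q1 K) E 𝒜) (h2 : Z2 K ≤ E) : Z3 K ≤ E := by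
  by_contra hn
  have cen : ∀ f ∈ 𝒜, ∀ z ∈ Z2 K, ∀ x ∈ E, ⁅x, f z⁆ = 1 := fun f hf z hz x hx => by
    have au := h.au f hf
    obtain ⟨y, hy, rfl⟩ := au.surj hx
    rw [← au.comm hy (h2 hz), c12 (h.le hy) hz, au.one]
  have sq : ∀ f ∈ 𝒜, ∀ z ∈ Z2 K, (2 : k) = 0 → f z * f z = 1 := fun f hf z hz h0 => by
    have au := h.au f hf
    rw [← au.mul _ (h2 hz) _ (h2 hz), ← au.one]
    congr 1
    rw [Wd.eq_one]
    simp [hz.1, hz.2.1, hz.2.2.1, hz.2.2.2, ← two_mul, h0]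
  have fb : ∀ f ∈ 𝒜, ∀ z ∈ Z2 K, (f z).b = 0 := fun f hf z hz => h.le ((h.au f hf).mem z (h2 hz))
  have ind : ∀ f ∈ 𝒜, ∀ z ∈ Z2 K, f z ∉ Z3 K →
      ∀ s t : k, ι s * (f z).a + ι t * (f z).c = 0 → s = 0 ∧ t = 0 := by
    intro f hf z hz h3 s t e
    have a0 : (f z).a ≠ 0 := fun a0 => hn (l0 h h2 (cen f hf z hz) ⟨a0, fb f hf z hz⟩ h3 (sq f hf z hz))
    exact indep_of a0 (fun μ e => hn (l1 h h2 (cen f hf z hz) (μ := μ) ⟨fb f hf z hz, e⟩ h3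
      (sq f hf z hz))) s t e
  by_cases h0 : (2 : k) = 0
  · obtain ⟨J, hJ, j1, j2⟩ := h.exists_cl h2
    have j3 : J ≤ Z3 K := j2 _ fun f hf z hz => by
      by_contra h3
      have i := ind f hf z hz h3
      have a0 : (f z).a ≠ 0 := fun a0 => one_ne_zero (i 1 0 (by simp [a0])).1
      have := (Wd.eq_one.1 (sq f hf z hz h0)).2.2.2.1
      rw [Wd.mul_d, ← two_mul, two_iff.2 h0, fb f hf z hz, map_zero, zero_mul, zero_mul, zero_add,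
        add_zero] at this
      obtain ⟨t, e⟩ := (cr_ker2 h0 a0).1 this
      exact one_ne_zero (i (-t) 1 (by rw [e]; simp)).2
    exact hn fun t ht => h.chain1 ht.2.1 hJ (fun x _ => j1 (cflip (comm_mem2 x ht)))
      fun x hx => c33 ht (j3 hx) ▸ one_mem _
  have v : Tv (Q1 K) E 𝒜 (Z3 K) ⊥ (Z2 K) (E ⊓ Z3 K) :=
    { le := fun _ h => h.2.1
      nle := hn
      nz := bot_le
      zy := le_inf h2 Z2_le
      ye := inf_le_left
      iv := h.iv_bot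
      te := fun t ht x _ => cflip (comm_mem2 x ht)
      ty := fun t ht x hx => c33 ht hx.2 ▸ one_mem _
      tn := fun t _ x hx => by rw [mem_bot.1 hx, commutatorElement_one_right]; exact one_mem _
      ze := fun z hz x hx => cflip (c12 (h.le hx) hz ▸ one_mem _)
      surj := fun f hf z hz hy z' hz' => by
        obtain ⟨d, d1, d2⟩ := T_two (ind f hf z hz fun e => hy ⟨(h.au f hf).mem z (h2 hz), e⟩) (-z'.e) z'.f
        refine ⟨gd d, ⟨rfl, rfl, rfl⟩, ?_⟩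
        rw [← commutatorElement_inv, comm_Z3 rfl rfl rfl, mem_bot, Wd.eq_one]
        simp [gd, d1, d2, fb f hf z hz, hz'.1, hz'.2.1, hz'.2.2.1, hz'.2.2.2] }
  obtain ⟨f, hf, q⟩ := h.tv _ _ _ _ v
  have au := h.au f hf
  have z0 : (gf 1 : Wd K) ∈ Z2 K := ⟨rfl, rfl, rfl, rfl⟩
  have z1 : (gf 1 : Wd K) ∉ (⊥ : Subgroup (Wd K)) := fun e => by
    simpa [gf] using (Wd.eq_one.1 (mem_bot.1 e)).2.2.2.2.2
  have wE := au.mem _ (h2 z0)
  have i := ind f hf _ z0 fun e => z1 (q.a _ z0 ⟨wE, e⟩)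
  have wb := fb f hf _ z0
  obtain ⟨d, d0, d1, d2⟩ := exists_perp (f (gf 1)).a (f (gf 1)).c
  rw [mul_comm] at d1 d2
  have dE : gd d ∈ E := q.st _ z0 z1 _ (show (gd d).b = 0 from rfl) (fun x hx => by
      have := mul_mem (h2 (cflip (comm_mem2 x (y := gd d) ⟨rfl, rfl, rfl⟩))) hx
      simpa only [commutatorElement_def, inv_mul_cancel_right] using this)
    ⟨_, v.zy z0, by
      have : ⁅f (gf 1), gd d⁆ = 1 := by
        rw [comm_Z3 rfl rfl rfl, Wd.eq_one]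
        simp [gd, d1, d2, wb]
      rw [← commutatorElement_eq_one_iff_mul_comm.1 this, mul_inv_cancel_right]⟩
  generalize f (gf 1) = w at *
  have pr : ∀ z : k × k, ∃ x : k, (f ⟨0, 0, 0, 0, z.1, z.2⟩).a = ι x * w.a ∧
      (f ⟨0, 0, 0, 0, z.1, z.2⟩).c = ι x * w.c := by
    intro z
    have hz : (⟨0, 0, 0, 0, z.1, z.2⟩ : Wd K) ∈ Z2 K := ⟨rfl, rfl, rfl, rfl⟩
    have c := cen f hf _ hz
    have b := fb f hf _ hz
    generalize f ⟨0, 0, 0, 0, z.1, z.2⟩ = u at *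
    have e := c _ dE
    rw [← commutatorElement_inv, inv_eq_one, comm_Z3 rfl rfl rfl, Wd.eq_one] at e
    obtain ⟨s1, t1, e1⟩ := plane_span i d0 d1 d2 (z := u.a) e.2.2.2.2.1
    obtain ⟨s2, t2, e2⟩ := plane_span i d0 d1 d2 (z := u.c) (by simpa [gd, b] using e.2.2.2.2.2)
    have e3 := comm_d wb b
    rw [c w wE, e1, e2] at e3
    obtain ⟨x1, x2, x3⟩ := indep3 i (x := 2 * s2) (y := t2 - s1) (z := -(2 * t1)) (by
      rw [← show (1 : Wd K).d = 0 from rfl, e3]; cb)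
    rw [neg_eq_zero] at x3
    rw [(mul_eq_zero.1 x1).resolve_left h0, sub_eq_zero.1 x2] at e2
    rw [(mul_eq_zero.1 x3).resolve_left h0] at e1
    exact ⟨s1, by simpa using e1, by simpa using e2⟩
  choose φ φa φc using pr
  have inj : Function.Injective φ := fun z z' e => by
    have hz : (⟨0, 0, 0, 0, z.1, z.2⟩ : Wd K) ∈ Z2 K := ⟨rfl, rfl, rfl, rfl⟩
    have hz' : (⟨0, 0, 0, 0, z'.1, z'.2⟩ : Wd K) ∈ Z2 K := ⟨rfl, rfl, rfl, rfl⟩
    have m := mul_mem (inv_mem hz) hz'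
    have := q.a _ m ⟨au.mem _ (h2 m), by
      rw [au.mul _ (h2 (inv_mem hz)) _ (h2 hz'), au.inv (h2 hz)]
      show _ ∈ Z3 K
      simp [φa, φc, e, fb f hf _ hz, fb f hf _ hz']⟩
    have := inv_mul_eq_one.1 (mem_bot.1 this)
    exact Prod.ext (congrArg Wd.e this) (congrArg Wd.f this)
  have := Nat.card_le_card_of_injective φ inj
  rw [Nat.card_prod] at this
  have h1 : 1 < Nat.card k := Finite.one_lt_card
  nlinarith

end H69.T3
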