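import Mathlib
import Cfsg.Agent.Lib.T3F.Defs
import Cfsg.Agent.Lib.T3F.AR
import Cfsg.Agent.Lib.T3F.BE

set_option autoImplicit false
set_option linter.unusedSectionVars false
set_option linter.unusedVariables false

namespace H69.T3

open H89.D4S Subgroup
open H93.SX hiding sh
open H68 (SylowIn)
open scoped commutatorElement

variable {k K : Type*} [Field k] [Field K] [Cub k K] [Finite k] [Finite K] [Fc K]
  {M E : Subgroup (Wd K)} {𝒜 : Set (Wd K → Wd K)}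

namespace A2e

section gen
variable {W : Type*} [Group W] [Finite W] {M A B : Subgroup W} {g : W → W}

theorem pre_mono (hg : Au M g) (h : A ≤ B) : hg.pre A ≤ hg.pre B := fun _ hx => ⟨hx.1, h hx.2⟩

theorem le_of_pre (hg : Au M g) (hA : A ≤ M) (h : hg.pre A ≤ hg.pre B) : A ≤ B := fun y hy => by
  obtain ⟨x, hx, rfl⟩ := hg.surj (hA hy)
  exact (h ⟨hx, hy⟩).2

theorem pre_self (hg : Au M g) : hg.pre M = M := le_antisymm (fun _ h => h.1) fun x hx => ⟨hx, hg.mem x hx⟩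

theorem card_pre (hg : Au M g) (hA : A ≤ M) : Nat.card (hg.pre A) = Nat.card A := by
  rw [← hg.card_im (A := hg.pre A) fun _ h => h.1]
  congr 2
  ext y
  refine ⟨fun ⟨x, _, h, e⟩ => e ▸ h.2, fun hy => ?_⟩
  obtain ⟨x, hx, rfl⟩ := hg.surj (hA hy)
  exact ⟨x, hx, ⟨hx, hy⟩, rfl⟩

theorem cm_le (hA : A ≤ M) (hB : B ≤ M) : ⁅A, B⁆ ≤ M := commutator_le.2 fun a ha b hb =>
  mul_mem (mul_mem (mul_mem (hA ha) (hB hb)) (inv_mem (hA ha))) (inv_mem (hB hb))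

theorem pre_comm (hg : Au M g) (hA : A ≤ M) (hB : B ≤ M) : hg.pre ⁅A, B⁆ = ⁅hg.pre A, hg.pre B⁆ := by
  refine le_antisymm (fun x hx => ?_) (commutator_le.2 fun a ha b hb => ⟨cm_le le_rfl le_rfl
    (commutator_mem_commutator ha.1 hb.1), hg.comm ha.1 hb.1 ▸ commutator_mem_commutator ha.2 hb.2⟩)
  have : ⁅A, B⁆ ≤ hg.im ⁅hg.pre A, hg.pre B⁆ := commutator_le.2 fun a ha b hb => by
    obtain ⟨a', h1, rfl⟩ := hg.surj (hA ha)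
    obtain ⟨b', h2, rfl⟩ := hg.surj (hB hb)
    exact ⟨⁅a', b'⁆, cm_le le_rfl le_rfl (commutator_mem_commutator h1 h2),
      commutator_mem_commutator ⟨h1, ha⟩ ⟨h2, hb⟩, hg.comm h1 h2⟩
  obtain ⟨y, h1, h2, e⟩ := this hx.2
  exact hg.eq h1 hx.1 e ▸ h2

end gen

variable {x y w : Wd K} {X : Subgroup (Wd K)}

theorem gd_mem (d : K) : gd d ∈ Z3 K := ⟨rfl, rfl, rfl⟩

theorem cz3 (hx : x ∈ Q1 K) (h : ∀ y ∈ Z3 K, ⁅x, y⁆ = 1) : x ∈ Z3 K := by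
  have key : ∀ d : K, T (x.a * d) = 0 ∧ T (x.c * d) = 0 := fun d => by
    have := h _ (gd_mem d)
    rw [comm_Z3 rfl rfl rfl, Wd.eq_one] at this
    simpa [gd, mem_Q1.1 hx] using this.2.2.2.2
  exact ⟨nd _ fun d => (key d).1, hx, nd _ fun d => (key d).2⟩

theorem comm_one (hx : x ∈ Q1 K) (hy : y ∈ Z3 K) (h1 : T (x.a * y.d) = 0) (h2 : T (x.c * y.d) = 0) :
    ⁅x, y⁆ = 1 := by
  rw [comm_Z3 hy.1 hy.2.1 hy.2.2, Wd.eq_one]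
  simp [mem_Q1.1 hx, h1, h2]

theorem sq_Z3 (h0 : (2 : k) = 0) (hx : x ∈ Z3 K) : x * x = 1 := by
  have hK : (2 : K) = 0 := two_iff.2 h0
  rw [Wd.eq_one]
  simp [hx.1, hx.2.1, hx.2.2, ← two_mul, h0, hK]

theorem sq_cr (h0 : (2 : k) = 0) (hx : x ∈ Q1 K) (h : x * x = 1) : cr x.a x.c = 0 := by
  have hK : (2 : K) = 0 := two_iff.2 h0
  have := (Wd.eq_one.1 h).2.2.2.1
  simpa [mem_Q1.1 hx, ← two_mul, hK] using this

theorem sq_f (h0 : (2 : k) = 0) (hx : x ∈ Z4 K) (h : x * x = 1) : T (x.c * x.d) = 0 := by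
  have := (Wd.eq_one.1 h).2.2.2.2.2
  simpa [hx.1, hx.2, ← two_mul, h0, mul_comm x.d] using this

theorem cr_line (h0 : (2 : k) = 0) (s t : k) (a : K) : cr (ι s * a) (ι t * a) = 0 := by
  rw [cr_ι, ι_cr, cr_self', two_iff.2 h0]
  simp

theorem T_line (h0 : (2 : k) = 0) (s : k) (a b : K) : T (a * cr b (ι s * a)) = 0 := by
  rw [cr_ι, cr_comm, mul_left_comm, T_ι_mul, T_cr_self', h0]
  simp

theorem exa (h2 : Z2 K ≤ ⁅Z3 K, E⁆) (hE : E ≤ Q1 K) : ∃ x ∈ E, x.a ≠ 0 := by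
  by_contra hn
  push Not at hn
  have : ⁅Z3 K, E⁆ ≤ Z1 K := commutator_le.2 fun a ha b hb => comm_memQ2 ha.1 (hn b hb)
  exact one_ne_zero (this (h2 (show ge (1 : k) ∈ Z2 K from ⟨rfl, rfl, rfl, rfl⟩))).2.2.2.2

theorem mem_of_Z1 {A : Subgroup (Wd K)} (h1 : Z1 K ≤ A) (h : ∀ t : k, ∃ y ∈ A, y ∈ Z2 K ∧ y.e = t) :
    Z2 K ≤ A := fun x hx => by
  obtain ⟨y, h2, h3, e⟩ := h x.e
  refine (mul_mem_cancel_left (inv_mem h2)).1 (h1 ?_)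
  simp [hx.1, hx.2.1, hx.2.2.1, hx.2.2.2, h3.1, h3.2.1, h3.2.2.1, h3.2.2.2, e]

theorem mem_of_Z2 {A : Subgroup (Wd K)} (h1 : Z2 K ≤ A) (hx : x ∈ Z3 K) (hy : y ∈ Z3 K) (h : y ∈ A)
    (e : y.d = x.d) : x ∈ A := by
  refine (mul_mem_cancel_left (inv_mem h)).1 (h1 ?_)
  simp [hx.1, hx.2.1, hx.2.2, hy.1, hy.2.1, hy.2.2, e]

theorem card_Z3 : Nat.card K * (Nat.card k * Nat.card k) ≤ Nat.card (Z3 K) := by
  rw [← Nat.card_prod, ← Nat.card_prod]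
  refine Nat.card_le_card_of_injective
    (fun v : K × k × k => (⟨⟨0, 0, 0, v.1, v.2.1, v.2.2⟩, rfl, rfl, rfl⟩ : Z3 K)) fun v v' e => ?_
  have := Wd.ext_iff.1 (congrArg Subtype.val e)
  exact Prod.ext this.2.2.2.1 (Prod.ext this.2.2.2.2.1 this.2.2.2.2.2)

theorem a1 (h0 : (2 : k) = 0) (hE : E ≤ Q1 K) (h3 : Z3 K ≤ E) (h2 : Z2 K ≤ ⁅Z3 K, E⁆) (hX : X ≤ E)
    (sq : ∀ x ∈ X, x * x = 1) (hC : ∀ y ∈ E, (∀ x ∈ X, ⁅x, y⁆ = 1) ↔ y ∈ X)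
    (hc : Nat.card (Z3 K) ≤ Nat.card X) (hw : w ∈ X) (w4 : w ∈ Z4 K) (wc : w.c ≠ 0) : Z2 K ≤ ⁅E, X⁆ := by
  have X4 : X ≤ Z4 K := fun x hx => ⟨by
    by_contra e
    exact sq_ne h0 w4 wc e ((hC w (hX hw)).2 hw x hx ▸ one_mem _) (sq w hw), hE (hX hx)⟩
  let S : AddSubgroup K :=
    { carrier := {c | ∃ x ∈ X, x.c = c}
      zero_mem' := ⟨1, one_mem _, rfl⟩
      add_mem' := by
        rintro _ _ ⟨x, hx, rfl⟩ ⟨y, hy, rfl⟩
        exact ⟨x * y, mul_mem hx hy, by simp [(X4 hx).1]⟩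
      neg_mem' := by
        rintro _ ⟨x, hx, rfl⟩
        exact ⟨x⁻¹, inv_mem hx, by simp [(X4 hx).1]⟩ }
  let P : AddSubgroup K :=
    { carrier := {d | ∀ c ∈ S, T (c * d) = 0}
      zero_mem' := fun c _ => by simp
      add_mem' := fun {a b} ha hb c hc => by rw [mul_add, map_add, ha c hc, hb c hc, add_zero]
      neg_mem' := fun {a} ha c hc => by rw [mul_neg, map_neg, ha c hc, neg_zero] }
  have hP : ∀ y ∈ Z3 K, y ∈ X ↔ y.d ∈ P := fun y hy => by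
    rw [← hC y (h3 hy)]
    refine ⟨fun h c ⟨x, hx, e⟩ => ?_, fun h x hx => comm_one (hE (hX hx)) hy (by simp [(X4 hx).1]) (h _ ⟨x, hx, rfl⟩)⟩
    have := h x hx
    rw [comm_Z3 hy.1 hy.2.1 hy.2.2, Wd.eq_one] at this
    simpa [(X4 hx).2, e] using this.2.2.2.2.2
  have cd : Nat.card K ≤ Nat.card S * Nat.card P := by
    have hr : ∀ s : S, ∃ x ∈ X, x.c = s := fun s => s.2
    choose r rX rc using hr
    have hd : ∀ x : X, x.1.d - (r ⟨x.1.c, x, x.2, rfl⟩).d ∈ P := fun x => by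
      have h1 := rX ⟨x.1.c, x, x.2, rfl⟩
      have h2 := rc ⟨x.1.c, x, x.2, rfl⟩
      generalize r ⟨x.1.c, x, x.2, rfl⟩ = y at h1 h2
      have := (hP (y⁻¹ * x) (by simp [(X4 h1).1, (X4 h1).2, (X4 x.2).1, (X4 x.2).2, h2])).1
        (mul_mem (inv_mem h1) x.2)
      simpa [(X4 h1).1, (X4 h1).2, (X4 x.2).1, (X4 x.2).2, neg_add_eq_sub] using this
    have := Nat.card_le_card_of_injective
      (fun x : X => (((⟨x.1.c, x, x.2, rfl⟩, ⟨_, hd x⟩), x.1.e, x.1.f) : (S × P) × k × k)) fun x y e => by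
        simp only [Prod.mk.injEq] at e
        obtain ⟨⟨e1, e2⟩, e3, e4⟩ := e
        have e5 := congrArg Subtype.val e2
        simp only [e1, sub_left_inj] at e5
        exact Subtype.ext (Wd.ext ((X4 x.2).1.trans (X4 y.2).1.symm) ((X4 x.2).2.trans (X4 y.2).2.symm)
          (congrArg Subtype.val e1) e5 e3 e4)
    simp only [Nat.card_prod] at this
    exact Nat.le_of_mul_le_mul_right (card_Z3.trans (hc.trans this)) (Nat.mul_pos Nat.card_pos Nat.card_pos)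
  have z1 : Z1 K ≤ ⁅E, X⁆ := fun z hz => by
    obtain ⟨d, hd⟩ := T_surj wc z.f
    have e : z = ⁅gd d, w⁆ := by
      rw [comm_Q2 rfl w4.1]
      refine Wd.ext hz.1 hz.2.1 hz.2.2.1 hz.2.2.2.1 hz.2.2.2.2 ?_
      simp [gd, gf, ← hd, mul_comm d]
    exact e ▸ commutator_mem_commutator (h3 (gd_mem d)) hw
  obtain ⟨x, hx, xa⟩ := exa h2 hE
  refine mem_of_Z1 z1 fun t => ?_
  by_cases hd : ∀ d ∈ P, T (x.a * d) = 0
  · obtain ⟨y, hy, e⟩ := mem_of_perp S P (fun _ => Iff.rfl) cd (a := ι (t / N x.a) * x.a) fun d h => by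
      rw [mul_assoc, T_ι_mul, hd d h, mul_zero]
    by_cases t0 : t = 0
    · exact ⟨1, one_mem _, one_mem _, t0.symm⟩
    obtain ⟨c1, c2, c3⟩ := comm_Z4 (x := x) (X4 hy).1 (X4 hy).2
    refine ⟨_, commutator_mem_commutator hx hy, ⟨comm_a _ _, comm_b _ _, c1, ?_⟩, ?_⟩
    · rw [c2, e, cr_ι, cr_self', two_iff.2 h0]
      simp
    · have := sq_f h0 (X4 hy) (sq y hy)
      rw [e, mul_assoc, T_ι_mul, mul_eq_zero, or_iff_right (div_ne_zero t0 (N_ne xa))] at this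
      rw [c3, this, e, mul_left_comm, T_ι_mul, mul_comm (sh x.a), T_mul_sh', zero_add,
        show (3 : k) = 2 + 1 by norm_num, h0, zero_add, one_mul, div_mul_cancel₀ _ (N_ne xa)]
  · push Not at hd
    obtain ⟨d, h1, h2⟩ := hd
    have hy : gd (ι (t / T (x.a * d)) * d) ∈ X := (hP _ (gd_mem _)).2 fun c hc => by
      rw [gd, mul_left_comm, T_ι_mul, h1 c hc, mul_zero]
    refine ⟨_, commutator_mem_commutator hx hy, comm_mem2 _ (gd_mem _), ?_⟩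
    rw [comm_Z3 rfl rfl rfl]
    simp only [gd]
    rw [mul_left_comm, T_ι_mul, div_mul_cancel₀ _ h2]

theorem exg (h0 : (2 : k) = 0) (hw : w ∈ Q1 K) (w3 : w ∉ Z3 K) (sq : w * w = 1) :
    ∃ (g : Wd K → Wd K) (hg : Au (Q1 K) g), hg.pre (Z3 K) = Z3 K ∧ hg.pre (Z2 K) = Z2 K ∧
      ∃ w' ∈ Z4 K, w'.c ≠ 0 ∧ g w' = w := by
  have q3 : Z3 K ≤ Q1 K := Z3_le.trans Z4_le1
  by_cases ha : w.a = 0
  · refine ⟨id, ⟨fun _ h => h, fun _ _ _ _ => rfl, fun _ _ h => h⟩, le_antisymm (fun _ h => h.2) fun _ h => ⟨q3 h, h⟩,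
      le_antisymm (fun _ h => h.2) fun _ h => ⟨q3 (Z2_le h), h⟩, w, ⟨ha, hw⟩, fun e => w3 ⟨ha, hw, e⟩, rfl⟩
  obtain ⟨μ, e⟩ := (cr_ker2 h0 ha).1 (sq_cr h0 hw sq)
  obtain ⟨g, hg, h1, h2, h3, -⟩ := exists_au (K := K) μ
  obtain ⟨w', h4, rfl⟩ := hg.surj hw
  have h5 := (h1 w' h4).1 ⟨hw, e⟩
  exact ⟨g, hg, le_antisymm (fun x h => (h2 x h.1).1 h.2) fun x h => ⟨q3 h, (h2 x (q3 h)).2 h⟩,
    le_antisymm (fun x h => (h3 x h.1).1 h.2) fun x h => ⟨q3 (Z2_le h), (h3 x (q3 (Z2_le h))).2 h⟩,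
    w', h5, fun e => w3 ((h2 w' h4).2 ⟨h5.1, h5.2, e⟩), rfl⟩

theorem a2 (h0 : (2 : k) = 0) (hE : E ≤ Q1 K) (h3 : Z3 K ≤ E) (h2 : Z2 K ≤ ⁅Z3 K, E⁆) (hX : X ≤ E)
    (sq : ∀ x ∈ X, x * x = 1) (hC : ∀ y ∈ E, (∀ x ∈ X, ⁅x, y⁆ = 1) ↔ y ∈ X)
    (hc : Nat.card (Z3 K) ≤ Nat.card X) : Z2 K ≤ ⁅E, X⁆ := by
  have q3 : Z3 K ≤ Q1 K := Z3_le.trans Z4_le1
  by_cases hle : X ≤ Z3 K
  · refine h2.trans ((commutator_comm _ _).le.trans (commutator_mono le_rfl fun y hy => (hC y (h3 hy)).1 ?_))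
    exact fun x hx => comm_one (hE (hX hx)) hy (by simp [(hle hx).1]) (by simp [(hle hx).2.2])
  obtain ⟨w, hw, w3⟩ := SetLike.not_le_iff_exists.1 hle
  obtain ⟨g, hg, e3, e2, w', h4, wc, rfl⟩ := exg h0 (hE (hX hw)) w3 (sq w hw)
  refine le_of_pre hg (Z2_le.trans q3) ?_
  rw [e2, pre_comm hg hE (hX.trans hE)]
  refine a1 h0 (fun _ h => h.1) (e3 ▸ pre_mono hg h3) ?_ (pre_mono hg hX)
    (fun x hx => hg.inj _ (mul_mem hx.1 hx.1) (by rw [hg.mul x hx.1 x hx.1, sq _ hx.2])) (fun y hy => ⟨fun h => ?_,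
      fun h x hx => hg.inj _ (q3 (comm_memQ1 hx.1 h.1)) (by rw [hg.comm hx.1 h.1, (hC _ hy.2).2 h.2 _ hx.2])⟩)
    (by rwa [card_pre hg (hX.trans hE)]) ⟨Z4_le1 h4, hw⟩ h4 wc
  · have := pre_mono hg h2
    rwa [pre_comm hg q3 hE, e2, e3] at this
  · refine ⟨hy.1, (hC _ hy.2).1 fun x hx => ?_⟩
    obtain ⟨x', h5, rfl⟩ := hg.surj (hE (hX hx))
    rw [← hg.comm h5 hy.1, h x' ⟨h5, hx⟩, hg.one]

theorem iv2 (h : Gd (Q1 K) E 𝒜) (h0 : (2 : k) = 0) (h3 : Z3 K ≤ E) (h2 : Z2 K ≤ ⁅Z3 K, E⁆) :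
    Iv 𝒜 E (Z2 K) := by
  refine ⟨Z2_le.trans h3, fun f hf z hz => ?_⟩
  have hg := h.au f hf
  have key := a2 (X := hg.pre (Z3 K)) h0 h.le h3 h2 (fun _ h => h.1)
    (fun x hx => hg.inj _ (mul_mem hx.1 hx.1) (by rw [hg.mul x hx.1 x hx.1, sq_Z3 h0 hx.2]))
    (fun y hy => ⟨fun e => ⟨hy, cz3 (h.le (hg.mem y hy)) fun x hx => ?_⟩, fun e x hx =>
      hg.inj _ (cm_le le_rfl le_rfl (commutator_mem_commutator hx.1 hy)) (by
        rw [hg.comm hx.1 hy]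
        exact comm_one (h.le (h3 hx.2)) e.2 (by simp [hx.2.1]) (by simp [hx.2.2.2]))⟩) (card_pre hg h3).ge
  · have : ⁅E, hg.pre (Z3 K)⁆ ≤ hg.pre (Z2 K) := commutator_le.2 fun a ha b hb =>
      ⟨cm_le le_rfl le_rfl (commutator_mem_commutator ha hb.1), hg.comm ha hb.1 ▸ comm_mem2 _ hb.2⟩
    exact (this (key hz)).2
  · obtain ⟨x', h5, rfl⟩ := hg.surj (h3 hx)
    rw [← commutatorElement_inv, ← hg.comm h5 hy, e x' ⟨h5, hx⟩, hg.one, inv_one]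

theorem b1 (h : Gd (Q1 K) E 𝒜) (h0 : (2 : k) = 0) (h3 : Z3 K ≤ E) (h2 : Z2 K ≤ ⁅Z3 K, E⁆) (w4 : w ∈ Z4 K)
    (wc : w.c ≠ 0) (hw : ∀ x ∈ E, ⁅x, w⁆ ∈ Z2 K) : Q1 K ≤ E := by
  have h2' : Z2 K ≤ ⁅E, E⁆ := h2.trans (commutator_mono h3 le_rfl)
  have la : ∀ x ∈ E, ∃ t : k, x.a = ι t * w.c := fun x hx =>
    (cr_ker2 h0 wc).1 (by rw [cr_comm, ← (comm_Z4 w4.1 w4.2).2.1]; exact (hw x hx).2.2.2)
  obtain ⟨C, iC, hC⟩ := h.exists_cz h.iv_self h.iv_self (iv2 h h0 h3 h2)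
  have iJ := h.iv_om iC 2
  have J3 : Z3 K ≤ closure {x | x ∈ C ∧ x ^ 2 = 1} := fun x hx => subset_closure
    ⟨(hC x).2 ⟨h3 hx, fun y _ => by rw [← commutatorElement_inv]; exact inv_mem (comm_mem2 y hx)⟩,
      by rw [pow_two, sq_Z3 h0 hx]⟩
  by_cases hJ : ∀ j ∈ C, j ^ 2 = 1 → j.a = 0
  · have JC : closure {x | x ∈ C ∧ x ^ 2 = 1} ≤ C ⊓ Z4 K :=
      (closure_le _).2 fun x hx => ⟨hx.1, hJ x hx.1 hx.2, h.le (iC.1 hx.1)⟩
    generalize closure {x | x ∈ C ∧ x ^ 2 = 1} = J at iJ J3 JC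
    have h4 : Z4 K ≤ E := fun t ht => h.chain1 ht.2 iJ (fun x hx => J3 (comm_memQ1 ht.2 (h.le hx)))
      fun x hx => h2' (Z1_le (comm_memQ2 ht.1 (JC hx).2.1))
    obtain ⟨x, hx, xa⟩ := exa h2 h.le
    refine fun t ht => h.chain1 ht iJ (fun x hx => J3 (comm_memQ1 ht (h.le hx))) fun j hj => ?_
    have j4 := (JC hj).2
    obtain ⟨s, e⟩ := (cr_ker2 h0 xa (c := j.c)).1 (by
      have := inv_mem (((hC j).1 (JC hj).1).2 x hx)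
      rw [commutatorElement_inv] at this
      rw [← (comm_Z4 j4.1 j4.2).2.1]
      exact this.2.2.2)
    obtain ⟨c, hc⟩ := (cr_im2 h0 xa (d := cr t.a j.c)).2 (by rw [e, T_line h0])
    have c4 : gc c ∈ Z4 K := ⟨rfl, rfl⟩
    exact mem_of_Z2 h2' (comm_mem3 t j4) (comm_mem3 x c4) (commutator_mem_commutator hx (h4 c4))
      (by rw [(comm_Z4 c4.1 c4.2).2.1, (comm_Z4 j4.1 j4.2).2.1, ← hc]; rfl)
  · push Not at hJ
    obtain ⟨j, hj, j2, ja⟩ := hJ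
    have jE := iC.1 hj
    obtain ⟨s, e1⟩ := (cr_ker2 h0 ja).1 (sq_cr h0 (h.le jE) (by rwa [← pow_two]))
    obtain ⟨s', e2⟩ := la j jE
    have lc : ∀ x ∈ E, ∃ t : k, x.c = ι t * w.c := fun x hx => by
      obtain ⟨t, e3⟩ := la x hx
      have := (((hC j).1 hj).2 x hx).2.2.2
      rw [comm_d (h.le jE) (h.le hx), e1, e3, e2, ← mul_assoc, ← map_mul, cr_line h0, sub_zero, ← e2] at this
      obtain ⟨t', e4⟩ := (cr_ker2 h0 ja).1 this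
      exact ⟨t' * s', by rw [e4, e2, map_mul, mul_assoc]⟩
    obtain ⟨Z, iZ, hZ⟩ := h.exists_cz h.iv_self h.iv_self h.iv_bot
    refine fun t ht => h.chain1 ht iZ (fun x hx => ?_) fun z hz => h2' (comm_mem2 t
      (cz3 (h.le (iZ.1 hz)) fun y hy => mem_bot.1 (((hZ z).1 hz).2 y (h3 hy))))
    have m3 := comm_memQ1 ht (h.le hx)
    have hd : T (w.c * (⁅t, x⁆).d) = 0 := by
      obtain ⟨u, e3⟩ := la x hx
      obtain ⟨u', e4⟩ := lc x hx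
      rw [comm_d ht (h.le hx), e3, e4, mul_sub, map_sub, T_line h0, cr_comm, T_line h0, sub_zero]
    refine (hZ _).2 ⟨h3 m3, fun y hy => mem_bot.2 ?_⟩
    obtain ⟨u, e3⟩ := la y hy
    obtain ⟨u', e4⟩ := lc y hy
    rw [← commutatorElement_inv, comm_one (h.le hy) m3 (by rw [e3, mul_assoc, T_ι_mul, hd, mul_zero])
      (by rw [e4, mul_assoc, T_ι_mul, hd, mul_zero]), inv_one]

end A2e

open A2e in
theorem Gd.a2e (h : Gd (Q1 K) E 𝒜) (h0 : (2 : k) = 0) (h3 : Z3 K ≤ E) :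
    E = Q1 K ∨ E = Z4 K ∨ ∃ μ, E = Rm K μ := by
  have hz := Z2_le.trans h3
  by_cases c1 : E ≤ Z4 K
  · exact Or.inr (Or.inl (h.eq_Z4 hz c1))
  by_cases c2 : ∃ μ, E ≤ Rm K μ
  · obtain ⟨μ, e⟩ := c2
    exact Or.inr (Or.inr ⟨μ, h.eq_Rm hz e⟩)
  have h2 := z2_le_comm h3 h.le c1 (not_exists.1 c2)
  refine Or.inl (le_antisymm h.le ?_)
  by_cases c3 : ∀ f ∈ 𝒜, ∀ x ∈ Z3 K, f x ∈ Z3 K
  · exact fun t ht => h.chain1 ht ⟨h3, c3⟩ (fun x hx => comm_memQ1 ht (h.le hx))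
      fun x hx => commutator_mono h3 le_rfl (h2 (comm_mem2 t hx))
  push Not at c3
  obtain ⟨f, hf, z, z3, w3⟩ := c3
  have hA := h.au f hf
  have zE := h3 z3
  obtain ⟨g, hg, e3, e2, w, w4, wc, e⟩ := exg h0 (h.le (hA.mem z zE)) w3
    (by rw [← hA.mul z zE z zE, sq_Z3 h0 z3, hA.one])
  obtain ⟨ℬ, hB⟩ := h.pre hg
  refine le_of_pre hg le_rfl ((pre_self hg).le.trans (b1 hB h0 (e3 ▸ pre_mono hg h3) ?_ w4 wc fun x hx => ?_))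
  · have := pre_mono hg h2
    rwa [pre_comm hg (h3.trans h.le) h.le, e2, e3] at this
  · rw [← e2]
    refine ⟨Z4_le1 (comm_mem4 _ _), ?_⟩
    obtain ⟨y, hy, e1⟩ := hA.surj hx.2
    rw [hg.comm hx.1 (Z4_le1 w4), e, ← e1, ← hA.comm hy zE]
    exact (iv2 h h0 h3 h2).2 f hf _ (comm_mem2 y z3)

end H69.T3
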