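import Mathlib
import Cfsg.Agent.Lib.T3F.Defs
import Cfsg.Agent.Lib.T3F.AR

set_option autoImplicit false
set_option linter.unusedSectionVars false
set_option linter.unusedVariables false

namespace H69.T3

open H89.D4S Subgroup
open H93.SX hiding sh
open H68 (SylowIn)
open scoped commutatorElement

variable {k K : Type*} [Field k] [Field K] [Cub k K] [Finite k] [Finite K] [Fc K]
  {M E : Subgroup (Wd K)} {𝒜 : Set (Wd K → Wd K)}

namespace A2o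

/-- an alternating form with two independent vectors in its radical vanishes -/
theorem rad (h0 : (2 : k) ≠ 0) {aw cw ax cx a1 c1 a2 c2 : K} (hw : aw ≠ 0) (hx : cr ax cw = cr aw cx)
    (h1 : cr a1 cw = cr aw c1) (h2 : cr a2 cw = cr aw c2)
    (hr : ∀ a c, cr a cw = cr aw c → cr ax c = cr a cx) (hn : ∀ t : k, ax ≠ ι t * aw) :
    cr a1 c2 = cr a2 c1 := by
  obtain ⟨d, d0, e1, e2⟩ := exists_perp aw ax
  rw [mul_comm] at e1 e2
  have key : ∀ z cz, cr z cw = cr aw cz → T (z * d) = 0 → ∀ a c, cr a cw = cr aw c → cr z c = cr a cz := by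
    intro z cz hz tz a c hc
    obtain ⟨s, t, rfl⟩ := plane_span (indep_of hw hn) d0 e1 e2 tz
    have e : cz - (ι s * cw + ι t * cx) = 0 := cr_eq_zero h0 hw (by
      rw [cr_sub, ← hz, cr_add, add_cr, cr_ι, cr_ι, ι_cr, ι_cr, hx, sub_self])
    rw [sub_eq_zero.1 e, cr_add, add_cr, cr_ι, cr_ι, ι_cr, ι_cr, hc, hr a c hc]
  by_cases t1 : T (a1 * d) = 0
  · exact key a1 c1 h1 t1 a2 c2 h2
  have := key (a2 - ι (T (a2 * d) / T (a1 * d)) * a1) (c2 - ι (T (a2 * d) / T (a1 * d)) * c1)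
    (by rw [sub_cr, cr_sub, ι_cr, cr_ι, h1, h2])
    (by rw [sub_mul, map_sub, mul_assoc, T_ι_mul, div_mul_cancel₀ _ t1, sub_self]) a1 c1 h1
  rw [sub_cr, cr_sub, ι_cr, cr_ι] at this
  exact (sub_left_inj.1 this).symm

theorem div2 {x y : Wd K} (hx : x ∈ Z3 K) (hy : y ∈ Z3 K) (e : x.d = y.d) : x * y⁻¹ ∈ Z2 K := by
  obtain ⟨a1, a2, a3⟩ := hx
  obtain ⟨b1, b2, b3⟩ := hy
  simp [a1, a2, a3, b1, b2, b3, e]

theorem mem2 {x : Wd K} (hx : x ∈ Z3 K) (e : x.d = 0) : x ∈ Z2 K := ⟨hx.1, hx.2.1, hx.2.2, e⟩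

theorem comm2 {x : Wd K} (hx : x ∈ Z3 K) (y : Wd K) : ⁅x, y⁆ ∈ Z2 K := by
  rw [← commutatorElement_inv]; exact inv_mem (comm_mem2 y hx)

theorem cen2 {x y : Wd K} (hx : x ∈ Z2 K) (hy : y ∈ Q1 K) : ⁅x, y⁆ = 1 := by
  rw [← commutatorElement_inv, comm_Z3 hx.1 hx.2.1 hx.2.2.1, inv_eq_one, Wd.eq_one]
  simp [hx.2.2.2, mem_Q1.1 hy]

end A2o

open A2o in
theorem Gd.a2o (h : Gd (Q1 K) E 𝒜) (h0 : (2 : k) ≠ 0) (h3 : Z3 K ≤ E) : E = Q1 K ∨ E = Z4 K ∨ Gr E := by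
  have h2 := Z2_le.trans h3
  by_cases n4 : E ≤ Z4 K
  · exact .inr (.inl (h.eq_Z4 h2 n4))
  by_cases nR : ∃ μ, E ≤ Rm K μ
  · obtain ⟨μ, e⟩ := nR
    exact .inr (.inr (h.eq_Rm h2 e ▸ gr_Rm μ))
  by_cases nQ : Q1 K ≤ E
  · exact .inl (le_antisymm h.le nQ)
  have l2 : Z2 K ≤ ⁅E, E⁆ := (z2_le_comm h3 h.le n4 fun μ e => nR ⟨μ, e⟩).trans (commutator_mono h3 le_rfl)
  have l3 : ⁅E, E⁆ ≤ Z3 K := commutator_le.2 fun x hx y hy => comm_memQ1 (h.le hx) (h.le hy)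
  have iv := h.iv_comm h.iv_self h.iv_self
  obtain ⟨f, hf, q⟩ := h.tv (Q1 K) ⁅E, E⁆ (Z3 K) (Z3 K) ⟨le_rfl, nQ, l3, le_rfl, h3, iv,
    fun t ht x hx => comm_memQ1 ht (h.le hx), fun t _ x hx => l2 (comm_mem2 t hx),
    fun t _ x hx => l2 (comm_mem2 t (l3 hx)), fun z hz x hx => commutator_mem_commutator (h3 hz) hx,
    fun f hf z hz n z' hz' => by
      have hw := h.le ((h.au f hf).mem z (h3 hz))
      by_cases ha : (f z).a = 0
      · obtain ⟨a, e⟩ := cr_surj h0 (a := (f z).c) (fun hc => n ⟨ha, hw, hc⟩) z'.d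
        exact ⟨ga a, rfl, l2 (div2 (comm_memQ1 rfl hw) hz' (by
          rw [comm_d rfl hw, ha, zero_cr, sub_zero, ← e, cr_comm]; rfl))⟩
      · obtain ⟨c, e⟩ := cr_surj h0 ha (-z'.d)
        exact ⟨gc c, rfl, l2 (div2 (comm_memQ1 rfl hw) hz' (by
          rw [comm_d rfl hw]; simp [gc, e]))⟩⟩
  obtain ⟨z, hz, nz⟩ := SetLike.not_le_iff_exists.1 q.ne
  have A := h.au f hf
  have wE := A.mem z (h3 hz)
  have w3 : f z ∉ Z3 K := fun e => nz (q.a z hz e)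
  have CE : ∀ s ∈ Q1 K, cr s.a (f z).c = cr (f z).a s.c → s ∈ E := fun s hs e => by
    refine q.st z hz nz s hs (fun x hx => ?_) ?_
    · simpa [commutatorElement_def] using mul_mem (h3 (comm_memQ1 hs (h.le hx))) hx
    · obtain ⟨y, hy, e'⟩ := h.onto iv hf (l2 (mem2 (comm_memQ1 hs (h.le wE)) (by
        rw [comm_d hs (h.le wE), e, sub_self])))
      exact ⟨y * z, mul_mem (l3 hy) hz, by
        rw [A.mul y (h3 (l3 hy)) z (h3 hz), e']; simp [commutatorElement_def]⟩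
  have all : (f z).a ≠ 0 → ∀ a, ∃ x ∈ E, x.a = a := fun ha a =>
    let ⟨c, e⟩ := cr_surj h0 ha (cr a (f z).c)
    ⟨⟨a, 0, c, 0, 0, 0⟩, CE _ rfl e.symm, rfl⟩
  have iv2 : Iv 𝒜 E (Z2 K) := h.iv_cz h.iv_self h.iv_self h.iv_bot fun x => by
    refine ⟨fun hx => ⟨h2 hx, fun y hy => mem_bot.2 (cen2 hx (h.le hy))⟩, fun ⟨hx, e⟩ => ?_⟩
    have b0 : x.b = 0 := h.le hx
    have e1 : ∀ d, T (x.a * d) = 0 ∧ T (x.c * d) = 0 := fun d => by
      have := mem_bot.1 (e (gd d) (h3 ⟨rfl, rfl, rfl⟩))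
      rw [comm_Z3 rfl rfl rfl, Wd.eq_one] at this
      simpa [gd, b0] using this
    have x3 : x ∈ Z3 K := ⟨nd _ fun d => (e1 d).1, b0, nd _ fun d => (e1 d).2⟩
    have e2 : ∀ y ∈ E, T (x.d * y.a) = 0 ∧ T (x.d * y.c) = 0 := fun y hy => by
      have := mem_bot.1 (e y hy)
      rw [← commutatorElement_inv, inv_eq_one, comm_Z3 x3.1 b0 x3.2.2, Wd.eq_one] at this
      simpa [mem_Q1.1 (h.le hy), mul_comm] using this
    refine mem2 x3 (nd _ fun a => ?_)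
    by_cases ha : (f z).a = 0
    · exact (e2 (gc a) (CE _ rfl (by simp [gc, ha]))).2
    · obtain ⟨y, hy, rfl⟩ := all ha a
      exact (e2 y hy).1
  have wc : ∀ x ∈ E, ⁅f z, x⁆ ∈ Z2 K := fun x hx => by
    obtain ⟨y, hy, rfl⟩ := A.surj hx
    rw [← A.comm (h3 hz) hy]
    exact iv2.2 f hf _ (comm2 hz y)
  have EC : ∀ x ∈ E, cr x.a (f z).c = cr (f z).a x.c := fun x hx => by
    have := (wc x hx).2.2.2
    rw [comm_d (h.le wE) (h.le hx)] at this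
    exact (sub_eq_zero.1 this).symm
  have ha : (f z).a ≠ 0 := fun ha => n4 fun x hx => ⟨cr_eq_zero h0 (a := (f z).c)
    (fun hc => w3 ⟨ha, h.le wE, hc⟩) (by rw [cr_comm, EC x hx, ha, zero_cr]), h.le hx⟩
  have a0 : ∀ x ∈ E, x.a = 0 → x.c = 0 := fun x hx e =>
    cr_eq_zero h0 ha (by rw [← EC x hx, e, zero_cr])
  refine .inr (.inr ⟨h3, h.le, a0, all ha, fun x1 h1 x2 h2' => by_contra fun ne => ?_⟩)
  obtain ⟨C, ivC, hC⟩ := h.exists_cz h.iv_self h.iv_self iv2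
  obtain ⟨s, es⟩ := cr_surj h0 ha (⁅x1, x2⁆).d
  have sE : gc s ∈ E := h.chain1 (t := gc s) rfl ivC (fun x hx => (hC _).2
    ⟨h3 (comm_memQ1 rfl (h.le hx)), fun y _ => comm2 (comm_memQ1 rfl (h.le hx)) y⟩) fun x hx => by
      obtain ⟨xE, xc⟩ := (hC x).1 hx
      obtain ⟨r, er⟩ : ∃ r : k, x.a = ι r * (f z).a := by
        by_contra hn
        refine ne ?_
        rw [comm_d (h.le h1) (h.le h2'), sub_eq_zero]
        refine rad h0 ha (EC x xE) (EC x1 h1) (EC x2 h2') (fun a c e => ?_) fun t e => hn ⟨t, e⟩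
        have := (xc ⟨a, 0, c, 0, 0, 0⟩ (CE _ rfl e)).2.2.2
        rw [comm_d (h.le xE) rfl] at this
        exact sub_eq_zero.1 this
      have yE : (⟨ι (-r) * x1.a, 0, ι (-r) * x1.c, 0, 0, 0⟩ : Wd K) ∈ E :=
        CE _ rfl (by simp only [ι_cr, cr_ι, EC x1 h1])
      have := mul_mem (l2 (div2 (comm_memQ1 (x := gc s) rfl (h.le xE)) (comm_memQ1 (h.le yE) (h.le h2')) (by
        rw [comm_d rfl (h.le xE), comm_d rfl (h.le h2'), er]
        rw [comm_d (h.le h1) (h.le h2')] at es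
        simp only [gc, ι_cr, cr_ι, es, zero_cr]
        rw [map_neg]
        ring))) (commutator_mem_commutator yE h2')
      rwa [inv_mul_cancel_right] at this
  exact ne (by rw [← es, show s = 0 from a0 _ sE rfl, cr_zero])

end H69.T3
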