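import Mathlib
import Cfsg.Agent.Lib.T3F.Defs
import Cfsg.Agent.Lib.T3F.FL
import Cfsg.Agent.Lib.T3F.TL0

set_option autoImplicit false
set_option linter.unusedSectionVars false
set_option linter.unusedVariables false

namespace H69.T3

open H89.D4S Subgroup
open H93.SX hiding sh
open H68 (SylowIn)
open scoped commutatorElement

variable {k K : Type*} [Field k] [Field K] [Cub k K] [Finite k] [Finite K] [Fc K]
  {M E : Subgroup (Wd K)} {𝒜 : Set (Wd K → Wd K)}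

theorem Gd.bo1 (h : Gd ⊤ E 𝒜) (h0 : (2 : k) ≠ 0) (h2 : Z2 K ≤ E) (h1 : ¬ E ≤ Q1 K) (h3 : ¬ E ≤ Q2 K) :
    Z3 K ≤ E := by
  by_contra hn
  obtain ⟨e0, he0, b0, a0⟩ := exists_not_mem h1 h3
  rw [mem_Q1] at b0
  rw [mem_Q2] at a0
  obtain ⟨C, iC, hC⟩ := h.exists_cz h.iv_self h.iv_self h.iv_bot
  simp only [mem_bot] at hC
  have ge2 : ∀ t : k, (ge t : Wd K) ∈ Z2 K := fun t => ⟨rfl, rfl, rfl, rfl⟩
  have cge : ∀ (x : Wd K) (t : k), ⁅x, ge t⁆ = gf (x.b * t) := fun x t => by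
    rw [comm_Z3 rfl rfl rfl]; simp [ge, gf]
  have C3 : C ≤ Z3 K := fun x hx => by
    obtain ⟨hx, c⟩ := (hC x).1 hx
    have kb : x.b = 0 := by simpa [cge, gf] using congrArg Wd.f (c _ (h2 (ge2 1)))
    have ka : x.a = 0 := by simpa [comm_c, kb, b0] using congrArg Wd.c (c _ he0)
    have e : ⁅e0, x⁆ = 1 := by rw [← commutatorElement_inv, c _ he0, inv_one]
    exact ⟨ka, kb, cr_eq_zero h0 a0 (by rw [← (comm_Z4 ka kb).2.1, e]; rfl)⟩
  have C1 : Z1 K ≤ C := fun x hx => (hC x).2 ⟨h2 (Z1_le hx), fun y _ => by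
    rw [← commutatorElement_inv, comm_mem0 y hx, inv_one]⟩
  have dec : ∀ z ∈ Z2 K ⊔ C, ∃ n ∈ C, ∃ u ∈ Z2 K, n * u = z := fun z hz => by
    rw [sup_comm] at hz
    exact mem_sup_of_normal_right.1 hz
  have ze : ∀ z ∈ Z2 K ⊔ C, ∀ x ∈ E, ⁅z, x⁆ ∈ Z1 K := fun z hz x hx => by
    obtain ⟨n, hn, u, hu, rfl⟩ := dec z hz
    have e : ⁅n * u, x⁆ = n * ⁅x, u⁆⁻¹ * n⁻¹ * ⁅n, x⁆ := by simp only [commutatorElement_def]; group
    rw [e, ((hC n).1 hn).2 x hx, mul_one]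
    exact Normal.conj_mem inferInstance _ (inv_mem (comm_mem1 x hu)) n
  have ZY : Z2 K ⊔ C ≤ E ⊓ Q2 K := sup_le (le_inf h2 (Z2_le.trans (Z3_le.trans Z4_le2)))
    (le_inf iC.1 (C3.trans (Z3_le.trans Z4_le2)))
  have v : Tv ⊤ E 𝒜 (Z3 K) C (Z2 K ⊔ C) (E ⊓ Q2 K) := by
    refine ⟨le_top, hn, le_sup_right, ZY, inf_le_left, iC, fun t ht x _ => ?_, fun t ht x hx => ?_,
      fun t ht x hx => ?_, fun z hz x hx => C1 (ze z hz x hx), fun f hf z hz hw z' hz' => ?_⟩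
    · rw [← commutatorElement_inv]
      exact mem_sup_left (inv_mem (comm_mem2 x ht))
    · exact C1 (comm_memQ2 ht.1 hx.2)
    · obtain ⟨xa, xb, xc⟩ := C3 hx
      have : ⁅t, x⁆ = 1 := by
        rw [comm_Z3 xa xb xc, Wd.eq_one]; simp [ht.1, ht.2.1, ht.2.2]
      rw [this]; exact one_mem _
    · have wa : (f z).a ≠ 0 := fun e => hw ⟨(h.au f hf).mem z (ZY hz).1, e⟩
      obtain ⟨n, hn, u, hu, rfl⟩ := dec z' hz'
      obtain ⟨d, hd⟩ := T_surj wa (-u.e)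
      refine ⟨gd d, ⟨rfl, rfl, rfl⟩, ?_⟩
      rw [mul_inv_rev, ← mul_assoc]
      refine mul_mem (C1 ?_) (inv_mem hn)
      obtain ⟨ua, ub, uc, ud⟩ := hu
      rw [← commutatorElement_inv, comm_Z3 rfl rfl rfl]
      simp [gd, ua, ub, uc, ud, hd]
  obtain ⟨f, hf, q⟩ := h.tv _ _ _ _ v
  have au := h.au f hf
  obtain ⟨z, hz, hzC⟩ := SetLike.not_le_iff_exists.1 q.ne
  have hw : f z ∈ E := au.mem z (ZY hz).1
  have wa : (f z).a ≠ 0 := fun e => hzC (q.a z hz ⟨hw, e⟩)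
  have im1 : ∀ x ∈ E, ⁅f z, x⁆ ∈ au.im (Z1 K) := fun x hx => by
    obtain ⟨x', hx', rfl⟩ := au.surj hx
    exact ⟨_, h2 (Z1_le (ze z hz x' hx')), ze z hz x' hx', au.comm (ZY hz).1 hx'⟩
  have rel : ∀ x ∈ E, ι x.b * (f z).a = ι (f z).b * x.a := fun x hx => by
    obtain ⟨u, -, hu, e⟩ := im1 x hx
    have := (C3 (iC.2 f hf u (C1 hu))).2.2
    rwa [e, comm_c, sub_eq_zero] at this
  have wb : (f z).b ≠ 0 := fun e => by simpa [e, b0, wa] using rel e0 he0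
  have z1 : ∀ u ∈ Z1 K, ∃ t, u = ⁅f z, ge t⁆ := fun u hu => ⟨((f z).b)⁻¹ * u.f, by
    obtain ⟨ua, ub, uc, ud, ue⟩ := hu
    rw [cge, mul_inv_cancel_left₀ wb]
    ext <;> simp [gf, *]⟩
  have e1 : Z1 K = au.im (Z1 K) := eq_of_le_of_card_ge (fun u hu => by
    obtain ⟨t, rfl⟩ := z1 u hu
    exact im1 _ (h2 (ge2 t))) (au.card_im (Z1_le.trans h2)).le
  rw [← e1] at im1
  have hc : Nat.card E * Nat.card C ≤ Nat.card (E ⊓ Q2 K : Subgroup (Wd K)) * Nat.card (Z2 K ⊔ C : Subgroup (Wd K)) := by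
    have c1 := card_le_of_ker (Y := E ⊓ Q2 K) (E := E) inf_le_left Wd.b fun x hx y hy e =>
      ⟨E.mul_mem (E.inv_mem hx) hy, by
        have := (rel x hx).symm.trans (e ▸ rel y hy)
        simp [mul_left_cancel₀ (mt ι_eq_zero.1 wb) this]⟩
    have c2 := le_card_of_inj (N := C) (Z := Z2 K ⊔ C) le_sup_right (ge : k → Wd K)
      (fun a => mem_sup_left (ge2 a)) fun a b e => by
        have e' : (ge a : Wd K)⁻¹ * ge b = ge (b - a) := by ext <;> simp [ge]; ring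
        have := ((hC _).1 e).2 e0 he0
        rw [e', ← commutatorElement_inv, inv_eq_one, cge] at this
        have := congrArg Wd.f this
        simp [gf, b0, sub_eq_zero] at this
        exact this.symm
    calc _ ≤ Nat.card (E ⊓ Q2 K : Subgroup (Wd K)) * Nat.card k * Nat.card C := Nat.mul_le_mul_right _ c1
      _ ≤ _ := by rw [mul_assoc, mul_comm (Nat.card k)]; exact Nat.mul_le_mul_left _ c2
  have memE : ∀ u ∈ Z3 K, T ((f z).a * u.d) = 0 → u ∈ E := fun u hu e => h.cent (mem_top u) fun x hx => by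
    have k1 : T (x.a * u.d) = 0 := by
      refine mul_left_cancel₀ wb ?_
      rw [← T_ι_mul, ← mul_assoc, ← rel x hx, mul_assoc, T_ι_mul, e, mul_zero, mul_zero]
    obtain ⟨t, ht⟩ := z1 ⁅x, u⁆ (by rw [comm_Z3 hu.1 hu.2.1 hu.2.2]; exact ⟨rfl, rfl, rfl, rfl, k1⟩)
    rw [← commutatorElement_inv, ht]
    exact inv_mem (commutator_mem_commutator hw (h2 (ge2 t)))
  obtain ⟨c, c0, hc1, -⟩ := exists_perp (sh (f z).a) (0 : K)
  obtain ⟨t, ht, hts⟩ := (h.tv2 v hf q hc).2 (gc c) (mem_top _) fun x hx => by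
    have m3 : ⁅x, (gc c : Wd K)⁆ ∈ Z3 K := comm_mem3 x ⟨rfl, rfl⟩
    rw [← commutatorElement_inv]
    refine inv_mem ⟨memE _ m3 ?_, m3.1⟩
    rw [(comm_Z4 (y := gc c) rfl rfl).2.1]
    refine mul_left_cancel₀ wb ?_
    rw [← T_ι_mul, mul_left_comm, ← ι_cr, ← rel x hx, ι_cr, mul_left_comm, T_ι_mul, T_cr_self',
      mul_comm (sh _), show (gc c : Wd K).c = c from rfl, hc1]
    simp
  have ka : (t * gc c).a = 0 := by simp [gc, ht.1]
  have kb : (t * gc c).b = 0 := by simp [gc, ht.2.1]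
  have := cr_eq_zero h0 wa ((comm_Z4 ka kb).2.1.symm.trans (im1 _ hts).2.2.2.1)
  exact c0 (by simpa [gc, ht.2.2] using this)

end H69.T3
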