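import Mathlib
import Cfsg.Agent.Lib.T3F.Defs
import Cfsg.Agent.Lib.T3F.FL
import Cfsg.Agent.Lib.T3F.TL0

set_option autoImplicit false
set_option linter.unusedSectionVars false
set_option linter.unusedVariables false

namespace H69.T3

open H89.D4S Subgroup
open H93.SX hiding sh
open H68 (SylowIn)
open scoped commutatorElement

variable {k K : Type*} [Field k] [Field K] [Cub k K] [Finite k] [Finite K] [Fc K]
  {M E : Subgroup (Wd K)} {𝒜 : Set (Wd K → Wd K)}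

namespace BO2

theorem T_nd {a : K} (h : ∀ d, T (a * d) = 0) : a = 0 := by
  by_contra ha
  obtain ⟨x, hx⟩ := T_surj ha (1 : k)
  rw [h] at hx; exact zero_ne_one hx

theorem gd_mem (d : K) : gd d ∈ Z3 K := ⟨rfl, rfl, rfl⟩
theorem ge_mem (d : k) : (ge d : Wd K) ∈ Z3 K := ⟨rfl, rfl, rfl⟩
theorem gc_mem (d : K) : gc d ∈ Z4 K := ⟨rfl, rfl⟩

theorem ab3 {x y : Wd K} (hx : x ∈ Z3 K) (hy : y ∈ Z3 K) : ⁅x, y⁆ = 1 := by
  rw [comm_Z3 hy.1 hy.2.1 hy.2.2]; simp [Wd.eq_one, hx.1, hx.2.1, hx.2.2]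

theorem cm' {W : Type*} [Group W] {A : Subgroup W} {x y : W} (h : ⁅x, y⁆ ∈ A) : ⁅y, x⁆ ∈ A := by
  rw [← commutatorElement_inv]; exact inv_mem h

theorem step1 (h : Gd ⊤ E 𝒜) (h0 : (2 : k) ≠ 0) (h2 : Z3 K ≤ E) {e0 : Wd K} (he : e0 ∈ E) (hb : e0.b ≠ 0)
    (f : Wd K → Wd K) (hf : f ∈ 𝒜) (x : Wd K) (hx : x ∈ Z3 K) : f x ∈ Q2 K := by
  have au := h.au f hf
  by_contra ha
  have hn := au.im_norm h2 (fun s _ a ha => (inferInstance : (Z3 K).Normal).conj_mem a ha s)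
  have ab : ∀ u ∈ au.im (Z3 K), ∀ v ∈ au.im (Z3 K), ⁅u, v⁆ = 1 := by
    rintro _ ⟨u, u1, u2, rfl⟩ _ ⟨v, v1, v2, rfl⟩
    rw [← au.comm u1 v1, ab3 u2 v2, au.one]
  have hw : f x ∈ au.im (Z3 K) := ⟨x, h2 hx, hx, rfl⟩
  generalize f x = w at ha hw
  have cm : ∀ s ∈ E, ⁅s, w⁆ ∈ au.im (Z3 K) := fun s hs => by
    rw [commutatorElement_def]; exact mul_mem (hn s hs w hw) (inv_mem hw)
  obtain ⟨d, hd⟩ := T_surj (a := w.a) ha (1 : k)
  have e1 := ab _ hw _ (cm' (cm _ (h2 (gd_mem d))))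
  rw [comm_Z3 (x := w) (y := gd d) rfl rfl rfl, comm_Z3 rfl rfl rfl] at e1
  have wb : w.b = 0 := by simpa [gd, hd] using congrArg Wd.f e1
  have e2 := congrArg Wd.d (ab _ hw _ (cm _ he))
  rw [(comm_Z4 (comm_a _ _) (comm_b _ _)).2.1, comm_c, wb, map_zero, zero_mul, zero_sub, cr_neg, cr_ι,
    cr_self'] at e2
  have h2K : (2 : K) ≠ 0 := fun e => h0 (two_iff.1 e)
  simp [hb, h2K, sh_ne ha] at e2

theorem z1_le (h2 : Z3 K ≤ E) {e0 : Wd K} (he : e0 ∈ E) (hb : e0.b ≠ 0) : Z1 K ≤ ⁅E, E⁆ := fun x hx => by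
  have := commutator_mem_commutator he (h2 (ge_mem (x.f / e0.b)))
  rw [comm_Z3 rfl rfl rfl] at this
  convert this using 1
  obtain ⟨a1, a2, a3, a4, a5⟩ := hx
  ext <;> simp [ge, *]
  field_simp

theorem z4_le (h : Gd ⊤ E 𝒜) (h0 : (2 : k) ≠ 0) (h2 : Z3 K ≤ E) {e0 : Wd K} (he : e0 ∈ E) (hb : e0.b ≠ 0) :
    Z4 K ≤ E := fun x hx => by
  obtain ⟨J, j1, j2, j3⟩ := h.exists_cl h2
  have hJ := j3 _ (step1 h h0 h2 he hb)
  have hc : gc x.c ∈ E := h.chain1 (mem_top _) j1 (fun y _ => j2 (cm' (comm_mem3 y (gc_mem _))))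
    (fun y hy => z1_le h2 he hb (comm_memQ2 (Z4_le2 (gc_mem _)) (hJ hy)))
  have : (gc x.c)⁻¹ * x ∈ Z3 K := by simp [gc, hx.1, hx.2]
  simpa using mul_mem hc (h2 this)

theorem z3_le (h0 : (2 : k) ≠ 0) (h4 : Z4 K ≤ E) {e0 : Wd K} (he : e0 ∈ E) (ha : e0.a ≠ 0) (hb : e0.b ≠ 0) :
    Z3 K ≤ ⁅E, E⁆ := by
  have h2 : Z3 K ≤ E := Z3_le.trans h4
  have z2 : Z2 K ≤ ⁅E, E⁆ := fun x hx => by
    obtain ⟨d, hd⟩ := T_surj ha x.e
    have h1 := commutator_mem_commutator he (h2 (gd_mem d))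
    have : ⁅e0, gd d⁆⁻¹ * x ∈ Z1 K := by
      rw [comm_Z3 rfl rfl rfl]
      simp [gd, hd, hx.1, hx.2.1, hx.2.2.1, hx.2.2.2]
    simpa only [mul_inv_cancel_left] using mul_mem h1 (z1_le h2 he hb this)
  intro x hx
  obtain ⟨c, hc⟩ := cr_surj h0 ha x.d
  have h1 := commutator_mem_commutator he (h4 (gc_mem c))
  obtain ⟨e1, e2, -⟩ := comm_Z4 (x := e0) (y := gc c) rfl rfl
  have : ⁅e0, gc c⁆⁻¹ * x ∈ Z2 K := by
    have e3 : (gc c).c = c := rfl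
    rw [e3, hc] at e2
    generalize hv : ⁅e0, gc c⁆ = v at e1 e2
    have va : v.a = 0 := hv ▸ comm_a _ _
    have vb : v.b = 0 := hv ▸ comm_b _ _
    simp [va, vb, e1, e2, hx.1, hx.2.1, hx.2.2]
  simpa only [mul_inv_cancel_left] using mul_mem h1 (z2 this)

theorem iv1 (h : Gd ⊤ E 𝒜) (h4 : Z4 K ≤ E) {e0 : Wd K} (he : e0 ∈ E) (hb : e0.b ≠ 0) : Iv 𝒜 E (Z1 K) := by
  have h2 : Z3 K ≤ E := Z3_le.trans h4
  refine h.iv_cz h.iv_self h.iv_self h.iv_bot fun x => ⟨fun hx => ⟨h2 (Z2_le (Z1_le hx)), fun y _ =>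
    cm' (mem_bot.2 (comm_mem0 y hx))⟩, fun ⟨_, hx⟩ => ?_⟩
  have e1 := fun d => mem_bot.1 (hx _ (h2 (gd_mem d)))
  have e2 := mem_bot.1 (hx _ (h2 (ge_mem 1)))
  simp only [comm_Z3 (y := gd _) rfl rfl rfl] at e1
  rw [comm_Z3 rfl rfl rfl] at e2
  have xa : x.a = 0 := T_nd fun d => by simpa [gd] using congrArg Wd.e (e1 d)
  have xb : x.b = 0 := by simpa [ge] using congrArg Wd.f e2
  have xc : x.c = 0 := T_nd fun d => by simpa [gd, xb] using congrArg Wd.f (e1 d)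
  have xd : x.d = 0 := T_nd fun c => by
    have := mem_bot.1 (cm' (hx _ (h4 (gc_mem c))))
    rw [comm_Z3 xa xb xc] at this
    simpa [gc, mul_comm] using congrArg Wd.f this
  have := mem_bot.1 (cm' (hx _ he))
  rw [comm_Z3 xa xb xc] at this
  exact ⟨xa, xb, xc, xd, by simpa [xd, hb] using congrArg Wd.f this⟩

/-- the third centre -/
theorem exists_z3 (h : Gd ⊤ E 𝒜) (h0 : (2 : k) ≠ 0) (h4 : Z4 K ≤ E) {e0 : Wd K} (he : e0 ∈ E) (ha : e0.a ≠ 0)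
    (hb : e0.b ≠ 0) : ∃ C, Iv 𝒜 E C ∧ ∀ x, x ∈ C ↔ x ∈ Z4 K ∧ ∀ y ∈ E, ∀ z ∈ E, T (cr y.a z.a * x.c) = 0 := by
  have h2 : Z3 K ≤ E := Z3_le.trans h4
  obtain ⟨B, b1, b2⟩ := h.exists_cz h.iv_self h.iv_self (iv1 h h4 he hb)
  have hB : ∀ x, x ∈ B ↔ x ∈ Z3 K ∧ ∀ y ∈ E, T (y.a * x.d) = 0 := fun x => by
    rw [b2]
    refine ⟨fun ⟨_, hx⟩ => ?_, fun ⟨hx, e⟩ => ⟨h2 hx, fun y hy => cm' ?_⟩⟩
    · have xa : x.a = 0 := T_nd fun d => by
        have := (hx _ (h2 (gd_mem d))).2.2.2.2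
        rwa [comm_Z3 rfl rfl rfl] at this
      have xb : x.b = 0 := by
        have := (hx _ he).2.2.1
        rw [comm_c] at this
        simpa [xa, ha] using this
      have xc : x.c = 0 := by
        have := (cm' (hx _ he)).2.2.2.1
        rw [(comm_Z4 xa xb).2.1] at this
        exact cr_eq_zero h0 ha this
      refine ⟨⟨xa, xb, xc⟩, fun y hy => ?_⟩
      have := (cm' (hx _ hy)).2.2.2.2
      rwa [comm_Z3 xa xb xc] at this
    · rw [comm_Z3 hx.1 hx.2.1 hx.2.2]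
      exact ⟨rfl, rfl, rfl, rfl, e y hy⟩
  obtain ⟨C, c1, c2⟩ := h.exists_cz h.iv_self h.iv_self b1
  refine ⟨C, c1, fun x => ?_⟩
  rw [c2]
  refine ⟨fun ⟨_, hx⟩ => ?_, fun ⟨hx, e⟩ => ⟨h4 hx, fun y hy => cm' ((hB _).2 ⟨comm_mem3 y hx, fun z hz => ?_⟩)⟩⟩
  · have xa : x.a = 0 := cr_eq_zero h0 ha (T_nd fun c => by
      have := ((hB _).1 (hx _ (h4 (gc_mem c)))).2 _ he
      rw [(comm_Z4 (x := x) (y := gc c) rfl rfl).2.1] at this
      rw [T_cr]; exact this)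
    have xb : x.b = 0 := by
      have := ((hB _).1 (hx _ he)).1.2.2
      rw [comm_c] at this
      simpa [xa, ha] using this
    refine ⟨⟨xa, xb⟩, fun y hy z hz => ?_⟩
    have := ((hB _).1 (cm' (hx _ hz))).2 _ hy
    rw [(comm_Z4 xa xb).2.1] at this
    rw [T_cr]; exact this
  · rw [(comm_Z4 hx.1 hx.2).2.1, ← T_cr]
    exact e z hz y hy

end BO2

open BO2 in
theorem Gd.bo2 (h : Gd ⊤ E 𝒜) (h0 : (2 : k) ≠ 0) (h2 : Z3 K ≤ E) (h1 : ¬ E ≤ Q1 K) (h3 : ¬ E ≤ Q2 K) :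
    E = ⊤ := by
  obtain ⟨e0, he, hb, ha⟩ := exists_not_mem h1 h3
  rw [mem_Q1] at hb
  rw [mem_Q2] at ha
  have h4 := z4_le h h0 h2 he hb
  have h5 := z3_le h0 h4 he ha hb
  obtain ⟨C, c1, c2⟩ := exists_z3 h h0 h4 he ha hb
  obtain ⟨e1, he1, hne⟩ : ∃ y ∈ E, ∀ t : k, y.a ≠ ι t * e0.a := by
    by_contra hc
    push Not at hc
    obtain ⟨c, hc1, hc2⟩ := exists_perp_not (sh e0.a) e0.a
    have hm : ga c ∈ E := h.chain1 (mem_top _) c1 (fun x hx => (c2 _).2 ⟨comm_mem4 _ _, fun y hy z hz => by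
      obtain ⟨s, hs⟩ := hc y hy
      obtain ⟨t, ht⟩ := hc z hz
      have : T (cr y.a z.a * (⁅ga c, x⁆).c) = s * t * x.b * 2 * T (c * sh e0.a) := by
        rw [comm_c, hs, ht]; simp only [ga]; cbk K
      rw [this, hc1, mul_zero]⟩) (fun x hx => h5 (comm_mem3 _ ((c2 _).1 hx).1))
    obtain ⟨t, ht⟩ := hc _ hm
    exact hc2 t ht
  have i3 : Iv 𝒜 E (Z3 K) := by
    have : C = Z3 K := Subgroup.ext fun x => (c2 x).trans ⟨fun ⟨hx, e⟩ => ⟨hx.1, hx.2, by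
      have sq : ∀ y ∈ E, T (sh y.a * x.c) = 0 := fun y hy => by
        have := e y hy y hy
        rw [T_cr, T_cr_self'] at this
        exact (mul_eq_zero.1 this).resolve_left h0
      exact perp3 (indep_of ha hne) (sq _ he) (e _ he _ he1) (sq _ he1)⟩,
      fun hx => ⟨Z3_le hx, fun _ _ _ _ => by rw [hx.2.2, mul_zero, map_zero]⟩⟩
    exact this ▸ c1
  have i4 : Iv 𝒜 E (Z4 K) := h.iv_cz h.iv_self h.iv_self i3 fun x =>
    ⟨fun hx => ⟨h4 hx, fun y _ => cm' (comm_mem3 y hx)⟩, fun ⟨_, hx⟩ => by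
      have f0 := (hx _ he).2.2
      have f1 := (hx _ he1).2.2
      rw [comm_c, sub_eq_zero] at f0 f1
      have xb : x.b = 0 := by
        by_contra xb
        refine hne (e1.b / e0.b) ?_
        have b0 : (ι e0.b : K) ≠ 0 := by simpa using hb
        have b1 : (ι x.b : K) ≠ 0 := by simpa using xb
        rw [map_div₀]
        field_simp
        apply mul_left_cancel₀ b1
        linear_combination (ι e1.b) * f0 - (ι e0.b) * f1
      exact ⟨by simpa [xb, hb] using f0, xb⟩⟩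
  exact eq_top_iff.2 fun t _ => h.chain1 (mem_top t) i4 (fun x _ => comm_mem4 t x)
    fun x hx => h5 (comm_mem3 t hx)

end H69.T3
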