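import Mathlib
import Cfsg.Agent.Lib.T3F.Defs
import Cfsg.Agent.Lib.T3F.FL

set_option autoImplicit false
set_option linter.unusedSectionVars false
set_option linter.unusedVariables false

namespace H69.T3

open H89.D4S Subgroup
open H93.SX hiding sh
open H68 (SylowIn)
open scoped commutatorElement

universe u

namespace EX

open H2 H90 H91 Cfsg Cfsg.FusionSystem H93.R3

variable {W : Type*} {Γ : Type u} [Group W] [Group Γ] [Finite Γ] {p : ℕ}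
  {ι : W →* Γ} {E A B C D : Subgroup W} {g : Γ} {t : W}

/-- The stabiliser of a chain with five steps. -/
def ch5 (E A B C D : Subgroup Γ) : Subgroup Γ := 𝐍(E) ⊓ relCentralizer E A ⊓ ch A B C D

/-- A central series below `E`. -/
structure Se5 (E A B C D : Subgroup W) : Prop where
  a : A ≤ E
  e0 : ∀ t : W, ∀ x ∈ E, ⁅t, x⁆ ∈ A
  s : Se A B C D

theorem mem_ch5 (s : Se5 E A B C D) (e0 : ∀ x ∈ E, ∃ y, Cj ι g x y ∧ y * x⁻¹ ∈ A)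
    (e1 : ∀ x ∈ A, ∃ y, Cj ι g x y ∧ y * x⁻¹ ∈ B) (e2 : ∀ x ∈ B, ∃ y, Cj ι g x y ∧ y * x⁻¹ ∈ C)
    (e3 : ∀ x ∈ C, ∃ y, Cj ι g x y ∧ y * x⁻¹ ∈ D) (e4 : ∀ x ∈ D, Cj ι g x x) :
    g ∈ ch5 (E.map ι) (A.map ι) (B.map ι) (C.map ι) (D.map ι) := by
  have k := mem_ch s.s.a s.s.b s.s.c e1 e2 e3 e4
  exact ⟨⟨mem_nr fun x hx => let ⟨y, a, b⟩ := e0 x hx; ⟨y, mem_of_div (s.a b) hx, a⟩,
    mem_rc_map (ch_le k) e0⟩, k⟩

theorem self_ch5 (s : Se5 E A B C D) (t : W) :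
    ι t ∈ ch5 (E.map ι) (A.map ι) (B.map ι) (C.map ι) (D.map ι) := by
  have k := self_ch (ι := ι) s.s.a s.s.b s.s.c (s.s.e1 t) (s.s.e2 t) (s.s.e3 t) (s.s.e4 t)
  exact ⟨⟨self_nr fun x hx => s.a (s.e0 t x hx),
    mem_rc_map (ch_le k) fun x hx => ⟨_, Cj.self t x, s.e0 t x hx⟩⟩, k⟩

theorem ch5_le {E A B C D : Subgroup Γ} : ch5 E A B C D ≤ 𝐍(E) := fun _ h => h.1.1

theorem norm_ch5 {E A B C D : Subgroup Γ} (e : g ∈ 𝐍(E)) (a : g ∈ 𝐍(A)) (b : g ∈ 𝐍(B))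
    (c : g ∈ 𝐍(C)) (d : g ∈ 𝐍(D)) : g ∈ 𝐍(ch5 E A B C D) := by
  have k := norm_ch a b c d
  rw [← zpowers_le] at *
  exact norm_inf (norm_inf (norm_norm e) (norm_rc e a)) k

theorem cent_of_ch5 {E A B C D : Subgroup Γ} (a : IsPGroup p A) (b : IsPGroup p B) (c : IsPGroup p C)
    (d : IsPGroup p D) (hg : g ∈ ch5 E A B C D) (h : (orderOf g).Coprime p) : g ∈ 𝐂(E) :=
  mem_cent fun y hy => mem_bot.1 (comm_mem_of_coprime a h (norm_bot ⊤ (mem_top g))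
    (hg.1.2.2 y hy) fun _ hz => mem_bot.2 (comm_eq_one (cent_of_ch b c d hg.2 h) hz))

variable [hp : Fact p.Prime] (F : Cf p ι) (s : Se5 E A B C D)
include F s

theorem Se5.not (h : Es p ι E) (a : nr ι E ≤ nr ι A) (b : nr ι E ≤ nr ι B) (c : nr ι E ≤ nr ι C)
    (d : nr ι E ≤ nr ι D) : False := by
  refine h.ne F (eq_top_iff.2 fun t _ => ?_)
  have ht := self_ch5 (ι := ι) s t
  obtain ⟨M, -, h2, -, h4⟩ := exists_emb F.pr F.sat h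
  by_contra ht'
  have h5 : ι t ∉ E.map ι := mt (mem_map_iff_mem F.inj).1 ht'
  exact h2 fun g hg => h4 _ ⟨⟨t, rfl⟩, ht.1.1⟩ h5 _ ⟨⟨t, rfl⟩, ht.1.1⟩ h5 g hg _
    ch5_le (fun x hx => cent_of_ch5 (F.pm A) (F.pm B) (F.pm C) (F.pm D) hx) ht
    (conj_mem (norm_ch5 hg (a hg) (b hg) (c hg) (d hg)) ht)

theorem Se5.ch_eq :
    ch5 (E.map ι) (A.map ι) (B.map ι) (C.map ι) (D.map ι) = ι.range ⊓ nr ι E ⊔ 𝐂(E.map ι) := by
  have h1 : ι.range ⊓ nr ι E ⊔ 𝐂(E.map ι) ≤ ch5 (E.map ι) (A.map ι) (B.map ι) (C.map ι) (D.map ι) :=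
    sup_le (by
      rintro _ ⟨⟨t, rfl⟩, -⟩
      exact self_ch5 s t) fun g hg =>
      mem_ch5 s (fun x hx => ⟨x, .of_cent hg hx, by simp⟩)
        (fun x hx => ⟨x, .of_cent hg (s.a hx), by simp⟩)
        (fun x hx => ⟨x, .of_cent hg (s.a (s.s.a hx)), by simp⟩)
        (fun x hx => ⟨x, .of_cent hg (s.a (s.s.a (s.s.b hx))), by simp⟩)
        fun x hx => .of_cent hg (s.a (s.s.a (s.s.b (s.s.c hx))))
  exact le_antisymm (le_of_syl h1 ((lg_mono ch5_le).trans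
    (lg_norm F.pr F.sat (fn_of fun t x hx => s.a (s.e0 t x hx)))) le_rfl fun x hx e =>
      mem_sup_right (cent_of_ch5 (F.pm A) (F.pm B) (F.pm C) (F.pm D) hx e)) h1

theorem Se5.inner (hg : g ∈ ch5 (E.map ι) (A.map ι) (B.map ι) (C.map ι) (D.map ι)) :
    ∃ t, ∀ x ∈ E, Cj ι g x (t * x * t⁻¹) := by
  obtain ⟨_, ⟨⟨t, rfl⟩, -⟩, e⟩ := exists_of_sup inf_le_right (s.ch_eq F ▸ hg)
  refine ⟨t, fun x hx => ?_⟩
  obtain ⟨y, -, e'⟩ := nr_cj hg.1.1 hx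
  exact (e x hx y e').uniq F.inj (Cj.self t x) ▸ e'

theorem Se5.ext (e : g ∈ nr ι E) (a : g ∈ nr ι A) (b : g ∈ nr ι B) (c : g ∈ nr ι C) (d : g ∈ nr ι D) :
    ∃ k ∈ nr ι ⊤, ∀ x ∈ E, ∀ y, Cj ι g x y → Cj ι k x y := by
  have n := fun t x hx => s.a (s.e0 t x hx)
  have := mem_of_norm F.pr F.sat (fn_of n) e (s.ch_eq F ▸ norm_ch5 e a b c d)
  rw [inf_eq_left.2 (le_nr n), ← nr_top] at this
  obtain ⟨k, hk, e'⟩ := exists_of_sup inf_le_left this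
  exact ⟨k, hk.2, e'⟩

end EX

open EX

variable {k K : Type*} [Field k] [Field K] [Cub k K] [Finite k] [Finite K] [Fc K]
  {p : ℕ} [Fact p.Prime] [CharP K p] {Γ : Type u} [Group Γ] [Finite Γ] {j : Wd K →* Γ} {g : Γ}
  {E : Subgroup (Wd K)} {Φ : Subgroup (K ≃+* K)}

theorem EX.se (h : Z4 K ≤ E) : Se5 E (Z4 K) (Z3 K) (Z2 K) (Z1 K) :=
  ⟨h, fun t x _ => comm_mem4 t x, Z3_le, Z2_le, Z1_le, fun t _ => comm_mem3 t, fun t _ => comm_mem2 t,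
    fun t _ => comm_mem1 t, fun t _ => comm_mem0 t⟩

theorem EX.gf_eq {t : k} (h : (gf t : Wd K) ∈ (⊥ : Subgroup (Wd K))) : t = 0 :=
  congrArg Wd.f (mem_bot.1 h)

theorem EX.gf_zero : (gf 0 : Wd K) = 1 := rfl

theorem nr_Z1 (i : Function.Injective j) : nr j (Q2 K) ≤ nr j (Z1 K) := fun g hg =>
  nr_rc i 0 hg hg nr_bot fun x => ⟨fun hx => ⟨hx.1, by simp, fun y _ => by
    rw [← commutatorElement_inv, comm_mem0 y hx, inv_one]; exact one_mem _⟩, fun ⟨h0, _, h⟩ => by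
      have k := fun y (hy : y ∈ Q2 K) => gf_eq (comm_Q2 h0 hy ▸ h y hy)
      refine ⟨h0, by simpa [ge] using k (ge 1) rfl, Cub.nd _ fun d => by simpa [gd] using k (gd d) rfl,
        Cub.nd _ fun c => by simpa [gc] using k (gc c) rfl, by simpa [gb] using k (gb 1) rfl⟩⟩

theorem nr_Z2 (i : Function.Injective j) : nr j (Q1 K) ≤ nr j (Z2 K) := fun g hg =>
  nr_rc i 0 hg hg nr_bot fun x => ⟨fun hx => ⟨hx.2.1, by simp, fun y hy => by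
    rw [← commutatorElement_inv, comm_Z3 hx.1 hx.2.1 hx.2.2.1, hx.2.2.2, show y.b = 0 from hy]
    simp only [mul_zero, map_zero, zero_mul, add_zero, sub_zero]
    exact inv_mem (one_mem _)⟩, fun ⟨h0, _, h⟩ => by
      have k := fun d : K => (comm_Z3 (x := x) (y := gd d) rfl rfl rfl).symm.trans (mem_bot.1 (h (gd d) rfl))
      have a : x.a = 0 := Cub.nd _ fun d => congrArg Wd.e (k d)
      have c : x.c = 0 := Cub.nd _ fun d => by simpa [gd, show x.b = 0 from h0] using congrArg Wd.f (k d)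
      refine ⟨a, h0, c, Cub.nd _ fun a' => ?_⟩
      have := inv_mem (h (ga a') rfl)
      rw [commutatorElement_inv, comm_Z3 a h0 c] at this
      rw [mul_comm]
      exact congrArg Wd.e (mem_bot.1 this)⟩

theorem nr_Z3 (i : Function.Injective j) : nr j (Q1 K) ≤ nr j (Z3 K) := fun g hg =>
  nr_rc i 0 hg hg (nr_Z2 i hg) fun x => ⟨fun hx => ⟨hx.2.1, by simp, fun y _ => by
    rw [← commutatorElement_inv]; exact inv_mem (comm_mem2 y hx)⟩, fun ⟨h0, _, h⟩ => by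
      have k := fun y (hy : y ∈ Q1 K) => (comm_d h0 hy).symm.trans (h y hy).2.2.2
      exact ⟨cr_nd fun c => by simpa [gc, cr_comm] using k (gc c) rfl, h0,
        cr_nd fun a => by simpa [ga] using k (ga a) rfl⟩⟩

theorem nr_Z4 (i : Function.Injective j) (h : g ∈ nr j (Q1 K)) (h1 : g ∈ nr j (Z1 K)) : g ∈ nr j (Z4 K) :=
  nr_rc i 0 h (nr_Z3 i h) h1 fun x => ⟨fun hx => ⟨hx.2, by simp, fun y hy =>
    comm_memQ2 hx.1 hy.1⟩, fun ⟨h0, _, h⟩ => ⟨Cub.nd _ fun d => by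
      have := (h (gd d) ⟨rfl, rfl, rfl⟩).2.2.2.2
      rwa [comm_Z3 rfl rfl rfl] at this, h0⟩⟩

theorem nr_Z4' (i : Function.Injective j) (h : g ∈ nr j (Q2 K)) (h1 : g ∈ nr j (Z2 K)) : g ∈ nr j (Z4 K) :=
  nr_rc i 0 h h1 nr_bot fun x => ⟨fun hx => ⟨hx.1, by simp, fun y hy => by
    rw [comm_Q2 hx.1 hy.1, hx.2, hy.2.1, hy.2.2.1, hy.2.2.2]
    simp [gf_zero]⟩, fun ⟨h0, _, h⟩ => ⟨h0, by
      have := h (ge 1) ⟨rfl, rfl, rfl, rfl⟩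
      rw [comm_Q2 h0 rfl] at this
      simpa [ge] using gf_eq this⟩⟩

theorem ext1 (F : Cf p j) (h : g ∈ nr j (Q1 K)) (h1 : g ∈ nr j (Z1 K)) :
    ∃ b ∈ nr j ⊤, ∀ x ∈ Q1 K, ∀ y, Cj j g x y → Cj j b x y :=
  (se Z4_le1).ext F h (nr_Z4 F.inj h h1) (nr_Z3 F.inj h) (nr_Z2 F.inj h) h1

theorem ext2 (F : Cf p j) (h : g ∈ nr j (Q2 K)) (h2 : g ∈ nr j (Z2 K)) (h3 : g ∈ nr j (Z3 K)) :
    ∃ b ∈ nr j ⊤, ∀ x ∈ Q2 K, ∀ y, Cj j g x y → Cj j b x y :=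
  (se Z4_le2).ext F h (nr_Z4' F.inj h h2) h3 h2 (nr_Z1 F.inj h)

theorem EX.div4 {x y : Wd K} (a : y.a = x.a) (b : y.b = x.b) : y * x⁻¹ ∈ Z4 K := by
  simp [a, b]

theorem EX.div3 {x y : Wd K} (hx : x ∈ Z4 K) (hy : y ∈ Z4 K) (c : y.c = x.c) : y * x⁻¹ ∈ Z3 K := by
  simp [hx.1, hx.2, hy.1, hy.2, c]

theorem EX.div2 {x y : Wd K} (hx : x ∈ Z3 K) (hy : y ∈ Z3 K) (d : y.d = x.d) : y * x⁻¹ ∈ Z2 K := by
  simp [hx.1, hx.2.1, hx.2.2, hy.1, hy.2.1, hy.2.2, d]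

theorem EX.div1 {x y : Wd K} (hx : x ∈ Z2 K) (hy : y ∈ Z2 K) (e : y.e = x.e) : y * x⁻¹ ∈ Z1 K := by
  simp [hx.1, hx.2.1, hx.2.2.1, hx.2.2.2, hy.1, hy.2.1, hy.2.2.1, hy.2.2.2, e]

theorem inn1 (F : Cf p j) (h : g ∈ nr j (Q1 K)) (h1 : ∀ x ∈ Q1 K, ∀ y, Cj j g x y → y.a = x.a ∧ y.c = x.c)
    (h2 : ∀ x ∈ Z3 K, ∀ y, Cj j g x y → y.d = x.d) (h3 : ∀ x ∈ Z2 K, Cj j g x x) :
    ∃ s ∈ Q1 K, ∀ x ∈ Q1 K, Cj j g x (s * x * s⁻¹) := by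
  obtain ⟨s, hs⟩ := (se Z4_le1).inner F (g := g) (mem_ch5 (se Z4_le1)
    (fun x hx => let ⟨y, hy, e⟩ := nr_cj h hx; ⟨y, e, div4 (h1 x hx y e).1 (Eq.trans hy (Eq.symm hx))⟩)
    (fun x hx => let ⟨y, hy, e⟩ := nr_cj h (Z4_le1 hx)
      ⟨y, e, div3 hx ⟨(h1 x hx.2 y e).1.trans hx.1, hy⟩ (h1 x hx.2 y e).2⟩)
    (fun x hx => let ⟨y, hy, e⟩ := nr_cj (nr_Z3 F.inj h) hx; ⟨y, e, div2 hx hy (h2 x hx y e)⟩)
    (fun x hx => ⟨x, h3 x hx, by simp⟩) fun x hx => h3 x (Z1_le hx))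
  refine ⟨s, ?_, hs⟩
  have := (h1 (ga 1) rfl _ (hs _ rfl)).2
  simp [ga] at this
  exact (ι_eq_zero (J := K)).1 (by linear_combination -this)

theorem inn2 (F : Cf p j) (h : g ∈ nr j (Q2 K)) (h1 : ∀ x ∈ Q2 K, ∀ y, Cj j g x y → cV y = cV x) :
    ∃ s ∈ Q2 K, ∀ x ∈ Q2 K, Cj j g x (s * x * s⁻¹) := by
  have k : ∀ x ∈ Q2 K, ∃ y, Cj j g x y ∧ y.a = 0 ∧ y.b = x.b ∧ y.c = x.c ∧ y.d = x.d ∧ y.e = x.e :=
    fun x hx => by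
      obtain ⟨y, hy, e⟩ := nr_cj h hx
      exact ⟨y, e, hy, by simpa [cV] using h1 x hx y e⟩
  obtain ⟨s, hs⟩ := (se Z4_le2).inner F (g := g) (mem_ch5 (se Z4_le2)
    (fun x hx => let ⟨y, e, a, b, _⟩ := k x hx; ⟨y, e, div4 (a.trans (Eq.symm hx)) b⟩)
    (fun x hx => let ⟨y, e, a, b, c, _⟩ := k x hx.1; ⟨y, e, div3 hx ⟨a, b.trans hx.2⟩ c⟩)
    (fun x hx => let ⟨y, e, a, b, c, d, _⟩ := k x hx.1
      ⟨y, e, div2 hx ⟨a, b.trans hx.2.1, c.trans hx.2.2⟩ d⟩)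
    (fun x hx => let ⟨y, e, a, b, c, d, e'⟩ := k x hx.1
      ⟨y, e, div1 hx ⟨a, b.trans hx.2.1, c.trans hx.2.2.1, d.trans hx.2.2.2⟩ e'⟩) fun x hx => by
      obtain ⟨y, e, a, b, c, d, e'⟩ := k (gb x.f) rfl
      obtain ⟨z, f, a', b', c', d', f'⟩ := k (ge 1) rfl
      have m := e.comm f
      rw [comm_Q2 a a', comm_Q2 rfl rfl, b, c, d, e', b', c', d', f'] at m
      have : x = gf ((gb x.f : Wd K).b * (ge 1 : Wd K).e - (gb x.f : Wd K).e * (ge 1 : Wd K).b -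
          T ((gb x.f : Wd K).c * (ge 1 : Wd K).d) + T ((gb x.f : Wd K).d * (ge 1 : Wd K).c)) :=
        Wd.ext hx.1 hx.2.1 hx.2.2.1 hx.2.2.2.1 hx.2.2.2.2 (by simp [gb, ge, gf])
      rwa [← this] at m)
  refine ⟨s, ?_, hs⟩
  have := congrArg (·.2.1) (h1 (gb 1) rfl _ (hs _ rfl))
  simp [gb, cV] at this
  show s.a = 0
  linear_combination this

theorem innT (F : Cf p j) {f : Wd K → Wd K} (h : ∀ x, Cj j g x (f x)) (h1 : Gg f id) :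
    ∃ s, ∀ x, Cj j g x (s * x * s⁻¹) := by
  have m4 : ∀ x ∈ Z4 K, f x ∈ Z4 K := fun x hx => ⟨(h1.a x).trans hx.1, (h1.b x).trans hx.2⟩
  have m3 : ∀ x ∈ Z3 K, f x ∈ Z3 K := fun x hx =>
    ⟨(m4 x (Z3_le hx)).1, (m4 x (Z3_le hx)).2, (h1.c x (Z3_le hx)).trans hx.2.2⟩
  have m2 : ∀ x ∈ Z2 K, f x ∈ Z2 K := fun x hx => ⟨(m3 x (Z2_le hx)).1, (m3 x (Z2_le hx)).2.1,
    (m3 x (Z2_le hx)).2.2, (h1.d x (Z2_le hx)).trans hx.2.2.2⟩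
  obtain ⟨s, hs⟩ := (se le_top).inner F (g := g) (mem_ch5 (se le_top)
    (fun x _ => ⟨_, h x, div4 (h1.a x) (h1.b x)⟩) (fun x hx => ⟨_, h x, div3 hx (m4 x hx) (h1.c x hx)⟩)
    (fun x hx => ⟨_, h x, div2 hx (m3 x hx) (h1.d x hx)⟩)
    (fun x hx => ⟨_, h x, div1 hx (m2 x hx) (h1.e x hx)⟩) fun x hx => by
      have : f x = x := Wd.ext (h1.a x) (h1.b x) (h1.c x (Z3_le (Z2_le (Z1_le hx))))
        (h1.d x (Z2_le (Z1_le hx))) (h1.e x (Z1_le hx)) (h1.f x hx)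
      simpa only [this] using h x)
  exact ⟨s, fun x => hs x (mem_top x)⟩

theorem es_mv1 (F : Cf p j) (h : Es p j (Q1 K)) : Mv1 j := fun h1 =>
  (se Z4_le1).not F h (fun _ hg => nr_Z4 F.inj hg (h1 hg)) (nr_Z3 F.inj) (nr_Z2 F.inj) h1

theorem es_mv2' (F : Cf p j) (h : Es p j (Q2 K)) (h2 : nr j (Q2 K) ≤ nr j (Z2 K))
    (h3 : nr j (Q2 K) ≤ nr j (Z3 K)) : False :=
  (se Z4_le2).not F h (fun _ hg => nr_Z4' F.inj hg (h2 hg)) h3 h2 (nr_Z1 F.inj)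

end H69.T3
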