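import Mathlib
import Cfsg.Agent.Lib.T3F.Defs
import Cfsg.Agent.Lib.T3F.FL

set_option autoImplicit false
set_option linter.unusedSectionVars false
set_option linter.unusedVariables false

namespace H69.T3

open H89.D4S Subgroup
open H93.SX hiding sh
open H68 (SylowIn)
open scoped commutatorElement

variable {k K : Type*} [Field k] [Field K] [Cub k K] [Finite k] [Finite K] [Fc K]

namespace FL2

theorem quad (h2 : (2 : k) ≠ 0) {A B : k} (hA : A ≠ 0) (hB : B ≠ 0) (t : k) : ∃ a b, A * a ^ 2 + B * b ^ 2 = t := by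
  have := Fintype.ofFinite k
  obtain ⟨a, b, e⟩ := FiniteField.exists_root_sum_quadratic (f := Polynomial.C A * Polynomial.X ^ 2)
    (g := Polynomial.C B * Polynomial.X ^ 2 - Polynomial.C t) (Polynomial.degree_C_mul_X_pow 2 hA)
    (by
      rw [Polynomial.degree_sub_C (by rw [Polynomial.degree_C_mul_X_pow 2 hB]; decide)]
      exact Polynomial.degree_C_mul_X_pow 2 hB)
    (FiniteField.odd_card_of_char_ne_two fun h => h2 (by
      have := ringChar.spec k 2
      rw [h] at this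
      exact_mod_cast this.2 dvd_rfl))
  exact ⟨a, b, by simp at e; linear_combination e⟩

theorem quad2 (h2 : (2 : k) ≠ 0) {c x y : K} (hx : T (sh x * c) ≠ 0) (hy : T (sh y * c) ≠ 0)
    (h : T (cr x y * c) = 0) (t : k) : ∃ a b : k, T (sh (ι a * x + ι b * y) * c) = t := by
  obtain ⟨a, b, e⟩ := quad h2 hx hy t
  have : T (sh (ι a * x + ι b * y) * c) = T (sh x * c) * a ^ 2 + T (sh y * c) * b ^ 2 + a * b * T (cr x y * c) := by
    cbk K
  exact ⟨a, b, by rw [this, h, e, mul_zero, add_zero]⟩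

theorem θ_pow : ∃ m : ℕ, ∀ y : K, θ y = y ^ m := by
  have := Fintype.ofFinite K
  obtain ⟨p, hp⟩ := CharP.exists K
  have := Fact.mk (CharP.char_is_prime K p)
  letI := ZMod.algebra K p
  let g : K ≃ₐ[ZMod p] K := AlgEquiv.ofRingEquiv (f := RingEquiv.ofBijective (θ : K →+* K)
    (Finite.injective_iff_bijective.1 (θ : K →+* K).injective)) (fun x => by
      obtain ⟨n, rfl⟩ := ZMod.natCast_zmod_surjective x
      simp)
  obtain ⟨n, hn⟩ := FiniteField.exists_forall_apply_eq_pow (ZMod p) p K g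
  exact ⟨p ^ n, fun y => by simpa [g] using hn y⟩

theorem cyc (K : Type*) [Field K] [Finite K] : IsCyclic (K ≃+* K) := by
  obtain ⟨p, hp⟩ := CharP.exists K
  have := Fact.mk (CharP.char_is_prime K p)
  let := ZMod.algebra K p
  let A : (K ≃+* K) →* (K ≃ₐ[ZMod p] K) :=
    { toFun := fun σ => AlgEquiv.ofRingEquiv (f := σ) fun x => DFunLike.congr_fun
        (RingHom.ext_zmod ((σ : K →+* K).comp (algebraMap _ _)) (algebraMap _ _)) x
      map_one' := rfl
      map_mul' := fun _ _ => rfl }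
  exact isCyclic_of_injective A fun σ τ e => RingEquiv.ext fun a => DFunLike.congr_fun e a

theorem h90 {a : K} (h : N a = 1) : ∃ b : K, b ≠ 0 ∧ a * θ b = b := by
  have e : a * θ a * θ (θ a) = 1 := by rw [← ιN, h, map_one]
  by_contra! hc
  refine one_ne_zero (ded (x := (1 : K)) (y := a) (z := a * θ a) fun t => by_contra fun h0 => hc _ h0 ?_).1
  simp only [map_add, map_mul, map_one, θ3]
  linear_combination t * e

theorem mul_of_sq {f : K →+ K} (key : ∀ c t, f (c ^ 2 * t) = f (c ^ 2) * f t) (a b : K) :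
    f (a * b) = f a * f b := by
  by_cases h2 : ringChar K = 2
  · obtain ⟨y, hy⟩ := FiniteField.isSquare_of_char_two h2 a
    rw [hy, ← sq, key]
  · have h2' : (2 : K) ≠ 0 := Ring.two_ne_zero h2
    have : a = ((a + 1) / 2) ^ 2 - ((a - 1) / 2) ^ 2 := by field_simp; ring
    rw [this, sub_mul, map_sub, map_sub, key, key, sub_mul]

theorem hua0 {a b : K} (ha : a ≠ 0) (hb : b ≠ 0) (h : b⁻¹ - a ≠ 0) :
    a ^ 2 * b = a - (a⁻¹ + (b⁻¹ - a)⁻¹)⁻¹ := by
  have e : a⁻¹ + (b⁻¹ - a)⁻¹ = (a * (b⁻¹ - a) * b)⁻¹ := by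
    rw [inv_add_inv ha h, add_sub_cancel, div_eq_mul_inv, mul_inv (_ * _) b, mul_comm]
  rw [e, inv_inv]
  field_simp
  ring

end FL2

open FL2

theorem exists_norm_one : ∃ l : K, N l = 1 ∧ l ≠ 1 ∧ sh l ≠ 1 := by
  obtain ⟨x, hx⟩ := exists_not_fix (K := K)
  have x0 : x ≠ 0 := fun e => hx (by rw [e, map_zero])
  have h1 : N (θ x / x) = 1 := mul_right_cancel₀ (N_ne x0) (by
    rw [← map_mul, div_mul_cancel₀ _ x0, N_θ, one_mul])
  have h2 : θ x / x ≠ 1 := fun e => hx ((div_eq_one_iff_eq x0).1 e)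
  exact ⟨_, h1, h2, fun e => h2 (by simpa [e, h1] using mul_sh (θ x / x))⟩

theorem N_surj (t : k) : ∃ a : K, N a = t := by
  by_cases ht : t = 0
  · exact ⟨0, by rw [ht, N_zero]⟩
  let n : Kˣ →* kˣ := Units.map (N : K →* k)
  let f : Kˣ →* Kˣ := MonoidHom.id Kˣ / Units.map ((θ : K →+* K) : K →* K)
  let i : kˣ →* Kˣ := Units.map ((ι : k →+* K) : k →* K)
  have h1 : n.ker ≤ f.range := fun a ha => by
    obtain ⟨b, b0, e⟩ := h90 (a := (a : K)) (congrArg Units.val ha)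
    refine ⟨Units.mk0 b b0, ?_⟩
    rw [MonoidHom.div_apply, div_eq_iff_eq_mul]
    exact Units.ext e.symm
  have h2 : i.range ≤ f.ker := by
    rintro _ ⟨s, rfl⟩
    rw [MonoidHom.mem_ker, MonoidHom.div_apply, div_eq_one]
    exact Units.ext (θι (J := K) (s : k)).symm
  have h3 : Nat.card i.range = Nat.card kˣ :=
    (Nat.card_congr (MonoidHom.ofInjective (Units.map_injective ι_inj)).toEquiv).symm
  have h4 := n.ker.card_mul_index
  have h5 := f.ker.card_mul_index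
  rw [index_ker] at h4 h5
  have h6 : Nat.card n.ker * Nat.card kˣ ≤ Nat.card n.ker * Nat.card n.range := by
    rw [h4, ← h5, mul_comm, ← h3]
    exact Nat.mul_le_mul (card_le_of_le h2) (card_le_of_le h1)
  have h7 : n.range = ⊤ := eq_top_of_le_card _ (Nat.le_of_mul_le_mul_left h6 Nat.card_pos)
  obtain ⟨a, e⟩ := h7.ge (mem_top (Units.mk0 t ht))
  exact ⟨a, congrArg Units.val e⟩

theorem uni (h2 : (2 : k) ≠ 0) {d : K} (hd : d ≠ 0) (t : k) : ∃ r : K, T (d * sh r) = t := by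
  obtain ⟨r, hr⟩ := not_forall.1 fun h => hd (sh_span h)
  obtain ⟨x, y, hx, hy, hi⟩ := exists_two (cr r d)
  have e : ∀ s, T (cr r s * d) = T (s * cr r d) := fun s => by rw [cr_comm, T_cr]
  obtain ⟨s, h1, h3⟩ : ∃ s, T (s * cr r d) = 0 ∧ T (sh s * d) ≠ 0 := by
    by_contra! hc
    have := hc (x + y) (by rw [add_mul, map_add, hx, hy, add_zero])
    rw [sh_add, add_mul, add_mul, map_add, map_add, hc x hx, hc y hy, zero_add, add_zero] at this
    exact hd (perp3 hi (hc x hx) this (hc y hy))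
  obtain ⟨a, b, h⟩ := quad2 h2 hr h3 ((e s).trans h1) t
  exact ⟨_, by rw [mul_comm]; exact h⟩

theorem uni' (h2 : (2 : k) ≠ 0) {d : K} (hd : d ≠ 0) : ∃ a : K, a ≠ 0 ∧ N a + T (a * d) = 0 := by
  obtain ⟨r, h⟩ := uni h2 hd (-1)
  have r0 : r ≠ 0 := fun e => by simp [e] at h
  have n0 := N_ne r0
  refine ⟨ι (N r)⁻¹ * sh r, mul_ne_zero (fun e => inv_ne_zero n0 (ι_eq_zero.1 e)) (sh_ne r0), ?_⟩
  rw [map_mul, N_ι, N_sh, mul_assoc, T_ι_mul, mul_comm (sh r), h]
  field_simp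
  ring

theorem nu_surj (h2 : (2 : k) ≠ 0) {w c : K} (hc : ∀ a, T (a * w) = 0 → T (sh a * c) = 0 → a = 0) (t : k) :
    ∃ a, T (a * w) = 0 ∧ T (sh a * c) = t := by
  obtain ⟨x, y, hx, hy, hi⟩ := exists_two w
  have pw : ∀ {y : K}, T (y * w) = 0 → ∀ a b : k, T ((ι a * x + ι b * y) * w) = 0 := fun hy a b => by
    rw [add_mul, map_add, mul_assoc, mul_assoc, T_ι_mul, T_ι_mul, hx, hy, mul_zero, mul_zero, add_zero]
  have h1 : T (sh x * c) ≠ 0 := fun e => one_ne_zero (hi 1 0 (by simp [hc x hx e])).1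
  have h3 := pw hy (-T (cr x y * c)) (2 * T (sh x * c))
  obtain ⟨a, b, h⟩ := quad2 h2 h1 (fun e => mul_ne_zero h2 h1 (hi _ _ (hc _ h3 e)).2) (by cbk K) t
  exact ⟨_, pw h3 a b, h⟩

theorem exists_sqrt {l : K} (hl : l ≠ 0) : ∃ μ : K, μ ^ 2 = l * ι (N l) ∧ N μ = N l ^ 2 := by
  obtain ⟨m, hm⟩ := θ_pow (K := K)
  obtain ⟨j, hj⟩ := Nat.even_mul_succ_self m
  have h1 : (l * l ^ j) ^ 2 = l * ι (N l) := by
    rw [← mul_sh, sh, hm, hm, ← pow_mul, ← pow_add, show m + m * m = j + j by rw [← hj]; ring]; ring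
  have h2 := congrArg (N : K →* k) h1
  rw [map_pow, map_mul _ l (ι _), N_ι, show N l * N l ^ 3 = (N l ^ 2) ^ 2 by ring, sq_eq_sq_iff_eq_or_eq_neg] at h2
  rcases h2 with h2 | h2
  · exact ⟨_, h1, h2⟩
  · exact ⟨-(l * l ^ j), by rw [neg_sq, h1], by rw [N_neg, h2, neg_neg]⟩

theorem sh_inj2 (h2 : (2 : k) = 0) {x y : K} (h : sh x = sh y) : x = y := by
  by_cases hx : x = 0
  · rw [hx, sh_zero] at h
    exact hx.trans (by_contra fun e => sh_ne (Ne.symm e) h.symm)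
  have h1 : N x ^ 2 = N y ^ 2 := by rw [← N_sh, h, N_sh]
  have h3 : N x = N y := sub_eq_zero.1 (pow_eq_zero_iff two_ne_zero |>.1
    (by linear_combination h1 + (N y ^ 2 - N x * N y) * h2))
  have h4 := sh_sh x
  rw [h, sh_sh, ← h3] at h4
  exact (mul_left_cancel₀ (fun e => N_ne hx (ι_eq_zero.1 e)) h4).symm

theorem hua (γ γ' : K →+ K) (hi : Function.Injective γ) (h : ∀ a, γ' a⁻¹ = (γ a)⁻¹) :
    ∃ (l : K) (ρ : K ≃+* K), l ≠ 0 ∧ ∀ a, γ a = l * ρ a := by
  have h' : ∀ a, γ a⁻¹ = (γ' a)⁻¹ := fun a => by rw [← inv_inv (γ _), ← h, inv_inv]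
  have h0 : ∀ {a}, a ≠ 0 → γ a ≠ 0 := fun ha e => ha (hi (e.trans (map_zero γ).symm))
  have key : ∀ a b, γ (a ^ 2 * b) = γ a ^ 2 * γ' b := fun a b => by
    by_cases ha : a = 0
    · simp [ha]
    by_cases hb : b = 0
    · simp [hb]
    by_cases e : b⁻¹ - a = 0
    · obtain rfl : b = a⁻¹ := by rw [← sub_eq_zero.1 e, inv_inv]
      rw [h, sq, sq, mul_inv_cancel_right₀ ha, mul_inv_cancel_right₀ (h0 ha)]
    have b0 : γ' b ≠ 0 := fun e' => h0 (inv_ne_zero hb) (by rw [h', e', inv_zero])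
    have e' := h0 e
    rw [map_sub, h'] at e'
    rw [hua0 ha hb e, hua0 (h0 ha) b0 e', map_sub, h', map_add, h, h, map_sub, h']
  have l0 := h0 one_ne_zero
  let f : K →+ K := (AddMonoidHom.mulLeft (γ 1)⁻¹).comp γ
  have hf : ∀ a, γ a = γ 1 * f a := fun a => (mul_inv_cancel_left₀ l0 _).symm
  have k1 : ∀ b, γ b = γ 1 ^ 2 * γ' b := fun b => by rw [← key, one_pow, one_mul]
  have hm := mul_of_sq (f := f) fun c t => by
    show (γ 1)⁻¹ * γ (c ^ 2 * t) = (γ 1)⁻¹ * γ (c ^ 2) * ((γ 1)⁻¹ * γ t)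
    have a := key c 1
    have b := h 1
    rw [mul_one] at a
    rw [inv_one] at b
    rw [key, a, b, k1 t]
    field_simp
  let ρ : K →+* K := { f with map_one' := inv_mul_cancel₀ l0, map_mul' := hm }
  exact ⟨γ 1, RingEquiv.ofBijective ρ (Finite.injective_iff_bijective.1 ρ.injective), l0, hf⟩

theorem sub_eq {Φ Ψ : Subgroup (K ≃+* K)} (h : Nat.card Φ = Nat.card Ψ) : Φ = Ψ := by
  classical
  have := cyc K
  have : Finite (K ≃+* K) := Finite.of_injective (fun σ : K ≃+* K => (σ : K → K)) DFunLike.coe_injective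
  letI := Fintype.ofFinite (K ≃+* K)
  have key : ∀ X : Subgroup (K ≃+* K), (X : Set (K ≃+* K)).toFinset =
      Finset.univ.filter fun a => a ^ Nat.card X = 1 := fun X => by
    refine Finset.eq_of_subset_of_card_le (fun a ha => ?_)
      ((IsCyclic.card_pow_eq_one_le Nat.card_pos).trans ?_)
    · rw [Set.mem_toFinset] at ha
      exact Finset.mem_filter.2 ⟨Finset.mem_univ _,
        congrArg Subtype.val (pow_card_eq_one' (x := (⟨a, ha⟩ : X)))⟩
    · rw [Set.toFinset_card, ← Nat.card_eq_fintype_card]; rfl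
  exact SetLike.coe_injective (Set.toFinset_inj.1 (by rw [key, key, h]))

theorem exists_gen (Φ : Subgroup (K ≃+* K)) : ∃ ρ, Φ = zpowers ρ := by
  have := cyc K
  obtain ⟨ρ, h⟩ := (Subgroup.isCyclic_iff_exists_zpowers_eq_top Φ).1 inferInstance
  exact ⟨ρ, h.symm⟩

theorem pg_W (p : ℕ) [Fact p.Prime] [CharP K p] : IsPGroup p (Wd K) := by
  have := char_k (K := K) p
  have := Fintype.ofFinite k
  obtain ⟨n, -, hn⟩ := FiniteField.card k p
  refine IsPGroup.of_card (n := n * 12) ?_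
  rw [Wd.card, Fc.card (k := k) (K := K), Nat.card_eq_fintype_card, hn]
  ring

end H69.T3
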