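import Mathlib
import Cfsg.Agent.Lib.T3F.Defs
import Cfsg.Agent.Lib.T3F.FL
import Cfsg.Agent.Lib.T3F.FL2

set_option autoImplicit false
set_option linter.unusedSectionVars false
set_option linter.unusedVariables false
set_option linter.unusedSimpArgs false

namespace H69.T3

open H89.D4S Subgroup
open H93.SX hiding sh
open H68 (SylowIn)
open scoped commutatorElement

universe u

variable {k K : Type*} [Field k] [Field K] [Cub k K] [Finite k] [Finite K] [Fc K]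
  {p : ℕ} [Fact p.Prime] [CharP K p] {Γ : Type u} [Group Γ] [Finite Γ] {j : Wd K →* Γ} {g : Γ}
  {E : Subgroup (Wd K)} {Φ : Subgroup (K ≃+* K)}

namespace GA

theorem tr {W : Type*} [Group W] {A X B : Subgroup W} (hA : ∀ x, x ∈ A ↔ ∀ y ∈ X, ⁅y, x⁆ ∈ B)
    (α : W ≃* W) (hX : ∀ x, α x ∈ X ↔ x ∈ X) (hB : ∀ x, α x ∈ B ↔ x ∈ B) (x : W) :
    α x ∈ A ↔ x ∈ A := by
  rw [hA, hA]
  constructor
  · intro h y hy
    have := h (α y) ((hX y).2 hy)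
    rwa [← map_commutatorElement, hB] at this
  · intro h y hy
    obtain ⟨z, rfl⟩ := α.surjective y
    rw [← map_commutatorElement, hB]
    exact h z ((hX z).1 hy)

theorem T_nd {d : K} (h : ∀ a, T (a * d) = 0) : d = 0 := by
  by_contra hd
  obtain ⟨x, hx⟩ := T_surj hd (1 : k)
  rw [mul_comm, h] at hx
  exact zero_ne_one hx

theorem l4 {x : Wd K} (h : ∀ y : Wd K, (⁅y, x⁆).c = 0) : x ∈ Z4 K := by
  have h1 := h (ga 1)
  have h2 := h (gb 1)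
  rw [comm_c] at h1 h2
  exact ⟨by simpa [gb] using h2, by simpa [ga] using h1⟩

theorem l3 {x : Wd K} (hx : x ∈ Z4 K) (h : ∀ y : Wd K, (⁅y, x⁆).d = 0) : x ∈ Z3 K :=
  ⟨hx.1, hx.2, cr_nd fun a => by have := h (ga a); rwa [(comm_Z4 hx.1 hx.2).2.1] at this⟩

theorem l2 {x : Wd K} (hx : x ∈ Z3 K) (h : ∀ y : Wd K, (⁅y, x⁆).e = 0) : x ∈ Z2 K :=
  ⟨hx.1, hx.2.1, hx.2.2, T_nd fun a => by
    have := h (ga a); rwa [comm_Z3 hx.1 hx.2.1 hx.2.2] at this⟩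

theorem l1 {x : Wd K} (hx : x ∈ Z2 K) (h : ∀ y : Wd K, (⁅y, x⁆).f = 0) : x ∈ Z1 K :=
  ⟨hx.1, hx.2.1, hx.2.2.1, hx.2.2.2, by
    have := h (gb 1); rw [comm_Z3 hx.1 hx.2.1 hx.2.2.1] at this; simpa [gb] using this⟩

theorem c4 (x : Wd K) : x ∈ Z4 K ↔ ∀ y ∈ (⊤ : Subgroup (Wd K)), ⁅y, x⁆ ∈ Z3 K :=
  ⟨fun h y _ => comm_mem3 y h, fun h => l4 fun y => (h y trivial).2.2⟩
theorem c3 (x : Wd K) : x ∈ Z3 K ↔ ∀ y ∈ (⊤ : Subgroup (Wd K)), ⁅y, x⁆ ∈ Z2 K :=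
  ⟨fun h y _ => comm_mem2 y h, fun h => l3 ((c4 x).2 fun y hy => Z2_le (h y hy))
    fun y => (h y trivial).2.2.2⟩
theorem c2 (x : Wd K) : x ∈ Z2 K ↔ ∀ y ∈ (⊤ : Subgroup (Wd K)), ⁅y, x⁆ ∈ Z1 K :=
  ⟨fun h y _ => comm_mem1 y h, fun h => l2 ((c3 x).2 fun y hy => Z1_le (h y hy))
    fun y => (h y trivial).2.2.2.2⟩
theorem c1 (x : Wd K) : x ∈ Z1 K ↔ ∀ y ∈ (⊤ : Subgroup (Wd K)), ⁅y, x⁆ ∈ (⊥ : Subgroup (Wd K)) :=
  ⟨fun h y _ => comm_mem0 y h, fun h => l1 ((c2 x).2 fun y hy => bot_le (a := Z1 K) (h y hy))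
    fun y => by rw [mem_bot.1 (h y trivial)]; rfl⟩
theorem cq1 (x : Wd K) : x ∈ Q1 K ↔ ∀ y ∈ Z2 K, ⁅y, x⁆ ∈ (⊥ : Subgroup (Wd K)) := by
  simp only [fun y => (commutatorElement_inv x y).symm, inv_mem_iff, mem_bot]
  constructor
  · intro h y hy
    rw [comm_Z3 hy.1 hy.2.1 hy.2.2.1]
    simp [Wd.eq_one, hy.2.2.2, mem_Q1.1 h]
  · intro h
    have := h (ge 1) ⟨rfl, rfl, rfl, rfl⟩
    rw [comm_Z3 rfl rfl rfl] at this
    simpa [Wd.eq_one, ge] using this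
theorem cq2 (x : Wd K) : x ∈ Q2 K ↔ ∀ y ∈ Z3 K, ⁅y, x⁆ ∈ Z1 K := by
  simp only [fun y => (commutatorElement_inv x y).symm, inv_mem_iff]
  constructor
  · intro h y hy
    rw [comm_Z3 hy.1 hy.2.1 hy.2.2]
    simp [mem_Q2.1 h]
  · intro h
    refine T_nd fun d => ?_
    have := h (gd d) ⟨rfl, rfl, rfl⟩
    rw [comm_Z3 rfl rfl rfl] at this
    rw [mul_comm]
    exact this.2.2.2.2

end GA

theorem aut_Z1 (α : Wd K ≃* Wd K) (x : Wd K) : α x ∈ Z1 K ↔ x ∈ Z1 K :=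
  GA.tr GA.c1 α (fun _ => Iff.rfl) (fun _ => by simp) x
theorem aut_Z2 (α : Wd K ≃* Wd K) (x : Wd K) : α x ∈ Z2 K ↔ x ∈ Z2 K :=
  GA.tr GA.c2 α (fun _ => Iff.rfl) (aut_Z1 α) x
theorem aut_Z3 (α : Wd K ≃* Wd K) (x : Wd K) : α x ∈ Z3 K ↔ x ∈ Z3 K :=
  GA.tr GA.c3 α (fun _ => Iff.rfl) (aut_Z2 α) x
theorem aut_Z4 (α : Wd K ≃* Wd K) (x : Wd K) : α x ∈ Z4 K ↔ x ∈ Z4 K :=
  GA.tr GA.c4 α (fun _ => Iff.rfl) (aut_Z3 α) x
theorem aut_Q1 (α : Wd K ≃* Wd K) (x : Wd K) : α x ∈ Q1 K ↔ x ∈ Q1 K :=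
  GA.tr GA.cq1 α (aut_Z2 α) (fun _ => by simp) x
theorem aut_Q2 (α : Wd K ≃* Wd K) (x : Wd K) : α x ∈ Q2 K ↔ x ∈ Q2 K :=
  GA.tr GA.cq2 α (aut_Z3 α) (aut_Z1 α) x

namespace GA

variable (α : Wd K ≃* Wd K) {x y : Wd K}

theorem ea (h : x.a = y.a) : (α x).a = (α y).a := by
  have := (aut_Q2 α (y⁻¹ * x)).2 (by simp [h])
  rw [map_mul, map_inv] at this
  exact (neg_add_eq_zero.1 (by simpa using this)).symm
theorem eb (h : x.b = y.b) : (α x).b = (α y).b := by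
  have := (aut_Q1 α (y⁻¹ * x)).2 (by simp [h])
  rw [map_mul, map_inv] at this
  exact (neg_add_eq_zero.1 (by simpa using this)).symm
theorem ec (hx : x ∈ Z4 K) (hy : y ∈ Z4 K) (h : x.c = y.c) : (α x).c = (α y).c := by
  have := ((aut_Z3 α (y⁻¹ * x)).2 (by simp [h, hx.1, hx.2, hy.1, hy.2])).2.2
  have h1 := (aut_Z4 α x).2 hx
  have h2 := (aut_Z4 α y).2 hy
  rw [map_mul, map_inv] at this
  exact (neg_add_eq_zero.1 (by simpa [h1.1, h1.2, h2.1, h2.2] using this)).symm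
theorem ed (hx : x ∈ Z3 K) (hy : y ∈ Z3 K) (h : x.d = y.d) : (α x).d = (α y).d := by
  have := ((aut_Z2 α (y⁻¹ * x)).2
    (by simp [h, hx.1, hx.2.1, hx.2.2, hy.1, hy.2.1, hy.2.2])).2.2.2
  have h1 := (aut_Z3 α x).2 hx
  have h2 := (aut_Z3 α y).2 hy
  rw [map_mul, map_inv] at this
  exact (neg_add_eq_zero.1
    (by simpa [h1.1, h1.2.1, h1.2.2, h2.1, h2.2.1, h2.2.2] using this)).symm
theorem ee (hx : x ∈ Z2 K) (hy : y ∈ Z2 K) (h : x.e = y.e) : (α x).e = (α y).e := by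
  have := ((aut_Z1 α (y⁻¹ * x)).2
    (by simp [h, hx.1, hx.2.1, hx.2.2.1, hx.2.2.2, hy.1, hy.2.1, hy.2.2.1, hy.2.2.2])).2.2.2.2
  have h1 := (aut_Z2 α x).2 hx
  have h2 := (aut_Z2 α y).2 hy
  rw [map_mul, map_inv] at this
  exact (neg_add_eq_zero.1 (by
    simpa [h1.1, h1.2.1, h1.2.2.1, h1.2.2.2, h2.1, h2.2.1, h2.2.2.1, h2.2.2.2] using this)).symm
theorem ef (hx : x ∈ Z1 K) (hy : y ∈ Z1 K) (h : x.f = y.f) : (α x).f = (α y).f := by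
  rw [show x = y from Wd.ext (hx.1.trans hy.1.symm) (hx.2.1.trans hy.2.1.symm)
    (hx.2.2.1.trans hy.2.2.1.symm) (hx.2.2.2.1.trans hy.2.2.2.1.symm)
    (hx.2.2.2.2.trans hy.2.2.2.2.symm) h]

theorem cc (a : K) (b : k) (hx : x ∈ Z4 K) (h : x.c = ι b * a) :
    (α x).c = ι (α (gb b)).b * (α (ga a)).a := by
  have h0 : (α (ga a)).b = 0 := (aut_Q1 α _).2 rfl
  rw [ec α hx (comm_mem4 (ga a) (gb b)) (by rw [h, comm_c]; simp [ga, gb]), map_commutatorElement,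
    comm_c, h0, map_zero, zero_mul, sub_zero]

theorem exists_cr (d : K) : ∃ a c : K, cr a c = d := by
  by_cases h2 : (2 : k) = 0
  · obtain ⟨a, ha, h, -⟩ := exists_perp d d
    exact ⟨a, (cr_im2 h2 ha).2 h⟩
  · exact ⟨1, cr_surj h2 one_ne_zero d⟩

theorem map_eq {W : Type*} [Group W] {X : Subgroup W} (η : W ≃* W) (h : ∀ x, η x ∈ X ↔ x ∈ X) :
    X.map η.toMonoidHom = X := by
  ext y
  obtain ⟨x, rfl⟩ := η.surjective y
  exact (mem_map_iff_mem (f := η.toMonoidHom) η.injective).trans (h x).symm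

theorem nr_comp {X : Subgroup (Wd K)} (η : Wd K ≃* Wd K) (h : ∀ x, η x ∈ X ↔ x ∈ X) :
    nr (j.comp η.toMonoidHom) X = nr j X := by
  rw [nr, nr, ← map_map, map_eq η h]

theorem step {W : Type*} [Group W] [Finite W] {A B : Subgroup W} [B.Normal] (β : MulAut W)
    (hB : ∀ x, β x ∈ B ↔ x ∈ B) (hA : ∀ z ∈ A, β z * z⁻¹ ∈ B) (h : ∀ x, β x * x⁻¹ ∈ A) (x : W) :
    (β ^ Nat.card W) x * x⁻¹ ∈ B := by
  have hq : ∀ u v : W, (u : W ⧸ B) = v ↔ u * v⁻¹ ∈ B := fun u v => by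
    rw [QuotientGroup.eq_iff_div_mem, div_eq_mul_inv]
  have key : ∀ n : ℕ, (((β ^ n) x : W) : W ⧸ B) = ((β x * x⁻¹) ^ n * x : W) := by
    intro n
    induction n with
    | zero => simp
    | succ n ih =>
      have e1 : ((β ((β ^ n) x) : W) : W ⧸ B) = (β ((β x * x⁻¹) ^ n * x) : W) := by
        rw [hq, ← map_inv, ← map_mul, hB, ← hq]; exact ih
      rw [pow_succ', MulAut.mul_apply, e1, map_mul, map_pow, QuotientGroup.mk_mul,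
        QuotientGroup.mk_pow, (hq _ _).2 (hA _ (h x)), ← QuotientGroup.mk_pow,
        ← QuotientGroup.mk_mul, pow_succ, mul_assoc, inv_mul_cancel_right]
  have := key (Nat.card W)
  rwa [pow_card_eq_one', one_mul, hq] at this

end GA

theorem aut_b (α : Wd K ≃* Wd K) {l : K} {ρ : K ≃+* K} (h : ∀ x, (α x).a = l * ρ x.a) :
    ∃ m : k, m ≠ 0 ∧ ∀ x, (α x).b = m * rk ρ x.b := by
  have hl : l ≠ 0 := by
    rintro rfl
    have := h (α.symm (ga 1))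
    simp [ga] at this
  refine ⟨(α (gb 1)).b, fun h0 => one_ne_zero (α := k) ((aut_Q1 α (gb 1)).1 h0), fun x => ?_⟩
  have e1 := GA.cc α (x := gc (ι x.b)) 1 x.b ⟨rfl, rfl⟩ (mul_one _).symm
  have e2 := GA.cc α (x := gc (ι x.b)) (ι x.b) 1 ⟨rfl, rfl⟩ (by simp [gc])
  rw [e1, h, h] at e2
  rw [GA.eb α (x := x) (y := gb x.b) rfl]
  apply ι_inj (J := K)
  apply mul_left_cancel₀ hl
  simp only [ga, map_one, mul_one] at e2
  rw [map_mul, ι_rk]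
  linear_combination e2

theorem aut_gg (α : Wd K ≃* Wd K) {l : K} {m : k} {ρ : K ≃+* K} (h : ∀ x, (α x).a = l * ρ x.a)
    (h' : ∀ x, (α x).b = m * rk ρ x.b) : Gg α (dg l m ρ) := by
  have hc : ∀ x ∈ Z4 K, (α x).c = (dg l m ρ x).c := fun x hx => by
    rw [GA.cc α x.c 1 hx (by simp), h, h']
    simp only [ga, gb, rk_one, dg_c, mul_one]
    ring
  have hd : ∀ x ∈ Z3 K, (α x).d = (dg l m ρ x).d := fun x hx => by
    obtain ⟨a, c, e⟩ := GA.exists_cr x.d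
    have h4 : gc c ∈ Z4 K := ⟨rfl, rfl⟩
    have h5 := (aut_Z4 α _).2 h4
    rw [GA.ed α hx (comm_mem3 (ga a) h4) (by rw [(comm_Z4 h4.1 h4.2).2.1]; exact e.symm),
      map_commutatorElement, (comm_Z4 h5.1 h5.2).2.1, h, hc _ h4, dg_d, dg_c, ← e, aut_cr]
    simp only [ga, gc]
    cb
  have he : ∀ x ∈ Z2 K, (α x).e = (dg l m ρ x).e := fun x hx => by
    obtain ⟨d, e⟩ := T_surj (one_ne_zero (α := K)) x.e
    have h4 : gd d ∈ Z3 K := ⟨rfl, rfl, rfl⟩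
    have h5 := (aut_Z3 α _).2 h4
    rw [GA.ee α hx (comm_mem2 (ga 1) h4) (by rw [comm_Z3 h4.1 h4.2.1 h4.2.2]; exact e.symm),
      map_commutatorElement, comm_Z3 h5.1 h5.2.1 h5.2.2, h, hd _ h4, dg_d, dg_e, ← e, rk_T]
    simp only [ga, gd]
    cbk K
  refine ⟨h, h', hc, hd, he, fun x hx => ?_⟩
  have h4 : ge x.f ∈ Z2 K := ⟨rfl, rfl, rfl, rfl⟩
  have h5 := (aut_Z2 α _).2 h4
  rw [GA.ef α hx (comm_mem1 (gb 1) h4) (by rw [comm_Z3 h4.1 h4.2.1 h4.2.2.1]; simp [gb, ge]),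
    map_commutatorElement, comm_Z3 h5.1 h5.2.1 h5.2.2.1, h', he _ h4, h5.2.2.2, dg_e, dg_f]
  simp only [gb, ge, rk_one, mul_zero, map_zero]
  ring

theorem exists_dgE {l : K} {m : k} (hl : l ≠ 0) (hm : m ≠ 0) (ρ : K ≃+* K) :
    ∃ α : Wd K ≃* Wd K, ∀ x, α x = dg l m ρ x := by
  have hs : Function.Surjective (dg l m ρ) := fun u => ⟨dg (ρ⁻¹ l⁻¹) (rk ρ⁻¹ m⁻¹) ρ⁻¹ u, by
    rw [dg_dg, ← rk_rk, ← RingAut.mul_apply, mul_inv_cancel, rk_id, RingAut.one_apply,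
      mul_inv_cancel₀ hl, mul_inv_cancel₀ hm, dg_one]⟩
  exact ⟨MulEquiv.ofBijective _ (Finite.surjective_iff_bijective.1 hs), fun _ => rfl⟩

theorem exists_aut (i : Function.Injective j) (h : g ∈ nr j ⊤) :
    ∃ α : Wd K ≃* Wd K, ∀ x, Cj j g x (α x) := by
  choose f _ hf using fun x : Wd K => nr_cj h (mem_top x)
  let F : Wd K →* Wd K := MonoidHom.mk' f fun x y => (hf (x * y)).uniq i ((hf x).mul (hf y))
  have hi : Function.Injective F := fun x y e =>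
    (hf x).symm.uniq i ((show f x = f y from e) ▸ (hf y).symm)
  exact ⟨MulEquiv.ofBijective F (Finite.injective_iff_bijective.1 hi), hf⟩

theorem GA.top (i : Function.Injective j) {X : Subgroup (Wd K)}
    (h : ∀ (α : Wd K ≃* Wd K) x, α x ∈ X ↔ x ∈ X) : nr j ⊤ ≤ nr j X := fun g hg => by
  obtain ⟨α, hα⟩ := exists_aut i hg
  exact mem_nr fun x hx => ⟨α x, (h α x).2 hx, hα x⟩

theorem top_Z1 (i : Function.Injective j) : nr j ⊤ ≤ nr j (Z1 K) := GA.top i aut_Z1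
theorem top_Z2 (i : Function.Injective j) : nr j ⊤ ≤ nr j (Z2 K) := GA.top i aut_Z2
theorem top_Z3 (i : Function.Injective j) : nr j ⊤ ≤ nr j (Z3 K) := GA.top i aut_Z3
theorem top_Z4 (i : Function.Injective j) : nr j ⊤ ≤ nr j (Z4 K) := GA.top i aut_Z4
theorem top_Q1 (i : Function.Injective j) : nr j ⊤ ≤ nr j (Q1 K) := GA.top i aut_Q1
theorem top_Q2 (i : Function.Injective j) : nr j ⊤ ≤ nr j (Q2 K) := GA.top i aut_Q2
theorem Mv1.comp (h : Mv1 j) (η : Wd K ≃* Wd K) : Mv1 (j.comp η.toMonoidHom) := by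
  rwa [Mv1, GA.nr_comp η (aut_Q1 η), GA.nr_comp η (aut_Z1 η)]
theorem Mv2.comp (h : Mv2 j) (η : Wd K ≃* Wd K) : Mv2 (j.comp η.toMonoidHom) := by
  rwa [Mv2, GA.nr_comp η (aut_Q2 η), GA.nr_comp η (aut_Z2 η)]

namespace GA

/-- the automorphisms that are trivial on the factors -/
def PP {k : Type*} (K : Type*) [Field k] [Field K] [Cub k K] [Finite k] [Finite K] [Fc K] :
    Subgroup (MulAut (Wd K)) where
  carrier := {α | Gg α id}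
  one_mem' := ⟨fun _ => rfl, fun _ => rfl, fun _ _ => rfl, fun _ _ => rfl, fun _ _ => rfl,
    fun _ _ => rfl⟩
  mul_mem' := fun {α β} a b => ⟨fun x => (a.a (β x)).trans (b.a x),
    fun x => (a.b (β x)).trans (b.b x),
    fun x hx => (a.c (β x) ((aut_Z4 β x).2 hx)).trans (b.c x hx),
    fun x hx => (a.d (β x) ((aut_Z3 β x).2 hx)).trans (b.d x hx),
    fun x hx => (a.e (β x) ((aut_Z2 β x).2 hx)).trans (b.e x hx),
    fun x hx => (a.f (β x) ((aut_Z1 β x).2 hx)).trans (b.f x hx)⟩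
  inv_mem' := fun {α} a => by
    have e : ∀ x, α (α⁻¹ x) = x := fun x => α.apply_symm_apply x
    exact ⟨fun x => (a.a (α⁻¹ x)).symm.trans (by rw [e]; rfl),
      fun x => (a.b (α⁻¹ x)).symm.trans (by rw [e]; rfl),
      fun x hx => (a.c _ ((aut_Z4 α⁻¹ x).2 hx)).symm.trans (by rw [e]; rfl),
      fun x hx => (a.d _ ((aut_Z3 α⁻¹ x).2 hx)).symm.trans (by rw [e]; rfl),
      fun x hx => (a.e _ ((aut_Z2 α⁻¹ x).2 hx)).symm.trans (by rw [e]; rfl),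
      fun x hx => (a.f _ ((aut_Z1 α⁻¹ x).2 hx)).symm.trans (by rw [e]; rfl)⟩

theorem PP_normal : (PP K).Normal := ⟨fun α a η => by
  have e : ∀ x, η (η⁻¹ x) = x := fun x => η.apply_symm_apply x
  have h4 := fun x hx => (aut_Z4 η⁻¹ x).2 hx
  have h3 := fun x hx => (aut_Z3 η⁻¹ x).2 hx
  have h2 := fun x hx => (aut_Z2 η⁻¹ x).2 hx
  have h1 := fun x hx => (aut_Z1 η⁻¹ x).2 hx
  exact ⟨fun x => (ea η (a.a (η⁻¹ x))).trans (by rw [id, e]; rfl),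
    fun x => (eb η (a.b (η⁻¹ x))).trans (by rw [id, e]; rfl),
    fun x hx => (ec η ((aut_Z4 α _).2 (h4 x hx)) (h4 x hx) (a.c _ (h4 x hx))).trans (by rw [e]; rfl),
    fun x hx => (ed η ((aut_Z3 α _).2 (h3 x hx)) (h3 x hx) (a.d _ (h3 x hx))).trans (by rw [e]; rfl),
    fun x hx => (ee η ((aut_Z2 α _).2 (h2 x hx)) (h2 x hx) (a.e _ (h2 x hx))).trans (by rw [e]; rfl),
    fun x hx => (ef η ((aut_Z1 α _).2 (h1 x hx)) (h1 x hx) (a.f _ (h1 x hx))).trans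
      (by rw [e]; rfl)⟩⟩

variable {α : MulAut (Wd K)}

theorem s5 (a : α ∈ PP K) (x : Wd K) : α x * x⁻¹ ∈ Z4 K := by simp [a.a x, a.b x]
theorem s4 (a : α ∈ PP K) (z : Wd K) (hz : z ∈ Z4 K) : α z * z⁻¹ ∈ Z3 K := by
  simp [a.a z, a.b z, a.c z hz, hz.1, hz.2]
theorem s3 (a : α ∈ PP K) (z : Wd K) (hz : z ∈ Z3 K) : α z * z⁻¹ ∈ Z2 K := by
  simp [a.a z, a.b z, a.c z (Z3_le hz), a.d z hz, hz.1, hz.2.1, hz.2.2]
theorem s2 (a : α ∈ PP K) (z : Wd K) (hz : z ∈ Z2 K) : α z * z⁻¹ ∈ Z1 K := by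
  simp [a.a z, a.b z, a.c z (Z3_le (Z2_le hz)), a.d z (Z2_le hz), a.e z hz, hz.1, hz.2.1, hz.2.2.1,
    hz.2.2.2]
theorem s1 (a : α ∈ PP K) (z : Wd K) (hz : z ∈ Z1 K) : α z * z⁻¹ ∈ (⊥ : Subgroup (Wd K)) := by
  rw [mem_bot, mul_inv_eq_one]
  exact Wd.ext (a.a z) (a.b z) (a.c z (Z3_le (Z2_le (Z1_le hz)))) (a.d z (Z2_le (Z1_le hz)))
    (a.e z (Z1_le hz)) (a.f z hz)

end GA

/-- the automorphisms that are trivial on the factors of the upper central series -/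
theorem exists_P (p : ℕ) [Fact p.Prime] [CharP K p] : ∃ P : Subgroup (MulAut (Wd K)), P.Normal ∧ IsPGroup p P ∧
    ∀ α, α ∈ P ↔ Gg α id := by
  refine ⟨GA.PP K, GA.PP_normal, fun ⟨α, a⟩ => ?_, fun _ => Iff.rfl⟩
  obtain ⟨n, hn⟩ := (pg_W (K := K) p).exists_card_eq
  have a1 := pow_mem a (Nat.card (Wd K))
  have a2 := pow_mem a1 (Nat.card (Wd K))
  have a3 := pow_mem a2 (Nat.card (Wd K))
  have t1 := GA.step α (aut_Z3 α) (GA.s4 a) (GA.s5 a)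
  have t2 := GA.step _ (aut_Z2 _) (GA.s3 a1) t1
  have t3 := GA.step _ (aut_Z1 _) (GA.s2 a2) t2
  have t4 := GA.step _ (fun _ => by simp) (GA.s1 a3) t3
  refine ⟨n + n + n + n, Subtype.ext (MulEquiv.ext fun x => ?_)⟩
  have := t4 x
  rw [mem_bot, mul_inv_eq_one, hn, ← pow_mul, ← pow_mul, ← pow_mul, ← mul_assoc, ← mul_assoc,
    ← pow_add, ← pow_add, ← pow_add] at this
  exact this

end H69.T3
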