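import Mathlib
import Cfsg.Agent.Lib.T3F.Defs
import Cfsg.Agent.Lib.T3F.GA
import Cfsg.Agent.Lib.T3F.EX
import Cfsg.Agent.Lib.T3F.FL2

set_option autoImplicit false
set_option linter.unusedSectionVars false
set_option linter.unusedVariables false

namespace H69.T3

open H89.D4S Subgroup
open H93.SX hiding sh
open H68 (SylowIn)
open scoped commutatorElement

universe u

variable {k K : Type*} [Field k] [Field K] [Cub k K] [Finite k] [Finite K] [Fc K]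
  {p : ℕ} [Fact p.Prime] [CharP K p] {Γ : Type u} [Group Γ] [Finite Γ] {j : Wd K →* Γ} {g : Γ}
  {E : Subgroup (Wd K)} {Φ : Subgroup (K ≃+* K)}

namespace CT

theorem co (i : Function.Injective j) : Co j ⊤ fun x : Wd K => x.a :=
  ⟨fun _ _ _ _ => rfl, fun m => ⟨ga m, trivial, rfl⟩, fun _ hg _ _ _ _ e hx =>
    mem_Q2.1 (e.mem i (top_Q2 i hg) (mem_Q2.2 hx))⟩

/-- the semilinear map `a ↦ l * ρ a` -/
def lin (l : Kˣ) (ρ : K ≃+* K) : K ≃ₗ[ℤ] K := AddEquiv.toIntLinearEquiv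
  { toFun := fun a => l * ρ a
    invFun := fun a => ρ.symm (↑l⁻¹ * a)
    left_inv := fun a => by simp
    right_inv := fun a => by simp
    map_add' := fun a b => by rw [map_add, mul_add] }

theorem lin_smul (l : Kˣ) (ρ : K ≃+* K) (a : K) : lin l ρ • a = l * ρ a := rfl

theorem card_au (i : Function.Injective j) (h : Ta j Φ) :
    Nat.card (au i ⊤ (fun x : Wd K => x.a) ⊤) = (Nat.card K - 1) * Nat.card Φ := by
  have hm : ∀ v : Kˣ × Φ, lin v.1 v.2 ∈ au i ⊤ (fun x : Wd K => x.a) ⊤ := fun v => by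
    obtain ⟨g, h1, h2⟩ := h.ex v.1 v.1.ne_zero v.2 v.2.2
    exact ⟨g, trivial, h1, fun x _ y _ e => (h2 x y e).symm⟩
  rw [← Nat.card_units, ← Nat.card_prod]
  symm
  refine Nat.card_congr (Equiv.ofBijective (fun v => ⟨lin v.1 v.2, hm v⟩) ⟨?_, ?_⟩)
  · rintro ⟨l, ρ⟩ ⟨l', ρ'⟩ e
    have e1 : ∀ a : K, (l : K) * ρ.1 a = l' * ρ'.1 a := fun a =>
      congrArg (fun φ : au i ⊤ (fun x : Wd K => x.a) ⊤ => φ.1 • a) e
    have e2 : l = l' := Units.ext (by simpa using e1 1)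
    subst e2
    exact Prod.ext rfl (Subtype.ext (RingEquiv.ext fun a => mul_left_cancel₀ l.ne_zero (e1 a)))
  · rintro ⟨φ, g, -, hg⟩
    obtain ⟨l, hl, ρ, hρ, h1, h2⟩ := h.top g hg.1
    exact ⟨(Units.mk0 l hl, ⟨ρ, hρ⟩), Subtype.ext
      ((co i).uniq ⟨h1, fun x _ y _ e => (h2 x y e).symm⟩ hg)⟩

theorem ia_au (i : Function.Injective j) : ia j = Nat.card (au i ⊤ (fun x : Wd K => x.a) ⊤) := by
  have o := co i
  choose f hf using fun g : nr j ⊤ => o.exists_ac g.2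
  let ρ : nr j ⊤ →* K ≃ₗ[ℤ] K := MonoidHom.mk' f fun a b => o.uniq (hf _) ((hf a).mul (hf b))
  have h1 : (Ka j).subgroupOf (nr j ⊤) = ρ.ker := by
    ext g
    rw [mem_subgroupOf, MonoidHom.mem_ker]
    constructor
    · intro hg
      refine o.uniq (hf g) ⟨g.2, fun x _ y _ e => ?_⟩
      obtain ⟨z, hz, e'⟩ := hg.2.2 (j x) ⟨x, trivial, rfl⟩
      have e2 : z = y * x⁻¹ := i (by rw [e', map_mul, map_inv, ← e]; rfl)
      have e3 : (y * x⁻¹).a = 0 := mem_Q2.1 (e2 ▸ hz)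
      rw [Wd.mul_a, Wd.inv_a, add_neg_eq_zero] at e3
      exact e3.symm
    · intro hg
      refine ⟨g.2, mem_rc_map (top_Q2 i g.2) fun x hx => ?_⟩
      obtain ⟨y, hy, e⟩ := nr_cj g.2 hx
      have e1 := (hf g).2 x hx y hy e
      rw [show f g = 1 from hg, one_smul] at e1
      exact ⟨y, e, mem_Q2.2 (by rw [Wd.mul_a, Wd.inv_a, add_neg_eq_zero]; exact e1.symm)⟩
  have h2 : au i ⊤ (fun x : Wd K => x.a) ⊤ = ρ.range := by
    ext φ
    exact ⟨fun ⟨g, _, a⟩ => ⟨⟨g, a.1⟩, o.uniq (hf _) a⟩, fun ⟨g, e⟩ => ⟨g, trivial, e ▸ hf g⟩⟩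
  rw [ia, relIndex, h1, h2, index_ker]

variable {Γ' : Type*} [Group Γ'] {ψ : Wd K →* Γ'}

theorem top (i : Function.Injective j) (S : Ex j Φ) (S' : Ex ψ Φ) (hg : g ∈ nr j ⊤) :
    ∃ g', ∀ x y, Cj j g x y → Cj ψ g' x y := by
  obtain ⟨s, l, hl, m, hm, ρ, hρ, h⟩ := S.top g hg
  obtain ⟨g', h'⟩ := S'.ex l hl m hm ρ hρ
  refine ⟨ψ s * g', fun x y e => ?_⟩
  rw [e.uniq i (h x)]
  exact (Cj.self _ _).trans (h' x)

theorem bq (i : Function.Injective j) (S : Ex j Φ) (S' : Ex ψ Φ) {Q : Subgroup (Wd K)}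
    {w : Wd K → Wd K} (hQ : nr j ⊤ ≤ nr j Q) (b : Bq j Q w) (b' : Bq ψ Q w) : Eqv j ψ Q := by
  intro g hg
  obtain ⟨n, hn, h⟩ := b
  obtain ⟨n', hn', -⟩ := b'
  obtain ⟨c, hc, h1⟩ := h g (mem_nr hg)
  obtain ⟨c', hc'⟩ := top i S S' hc
  rcases h1 with h1 | ⟨s, h1⟩
  · exact ⟨c', fun x hx y _ e => hc' x y (h1 x hx y e)⟩
  · refine ⟨ψ s * n' * c', fun x hx y _ e => ?_⟩
    obtain ⟨z, hz, e'⟩ := nr_cj (hQ hc) hx
    rw [(h1 x hx y e).uniq i (((Cj.self s _).trans (hn z hz)).trans e')]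
    exact ((Cj.self s _).trans (hn' z hz)).trans (hc' x z e')

end CT

theorem ia_comp (η : Wd K ≃* Wd K) : ia (j.comp η.toMonoidHom) = ia j := by
  have h1 : (⊤ : Subgroup (Wd K)).map (j.comp η.toMonoidHom) = (⊤ : Subgroup (Wd K)).map j := by
    rw [← map_map, map_top_of_surjective _ η.surjective]
  have h2 : (Q2 K).map (j.comp η.toMonoidHom) = (Q2 K).map j := by
    rw [← map_map]
    congr 1
    ext x
    refine ⟨?_, fun hx => ⟨η.symm x, (aut_Q2 η.symm x).2 hx, η.apply_symm_apply x⟩⟩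
    rintro ⟨y, hy, rfl⟩
    exact (aut_Q2 η y).2 hy
  unfold ia Ka nr
  rw [h1, h2]

theorem Ta.ia_eq (i : Function.Injective j) (h : Ta j Φ) : ia j = (Nat.card K - 1) * Nat.card Φ :=
  (CT.ia_au i).trans (CT.card_au i h)

theorem Ex.ta (i : Function.Injective j) (h : Ex j Φ) : Ta j Φ := by
  refine ⟨fun g hg => ?_, fun l hl ρ hρ => ?_⟩
  · obtain ⟨s, l, hl, m, hm, ρ, hρ, e⟩ := h.top g hg
    refine ⟨l, hl, ρ, hρ, hg, fun x y e' => ?_⟩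
    rw [e'.uniq i (e x)]
    simp
  · obtain ⟨g, e⟩ := h.ex l hl 1 one_ne_zero ρ hρ
    refine ⟨g, mem_nr fun x _ => ⟨_, trivial, e x⟩, fun x y e' => ?_⟩
    rw [e'.uniq i (e x)]
    rfl

theorem Ex.cop (F : Cf p j) (h : Ex j Φ) : ¬ p ∣ Nat.card Φ := by
  intro hp
  have s := (CT.co F.inj).syl F (fn_of fun _ _ _ => trivial)
  have hb : au F.inj ⊤ (fun x : Wd K => x.a) j.range = ⊥ := by
    rw [eq_bot_iff]
    rintro φ ⟨_, ⟨t, rfl⟩, a⟩
    refine (CT.co F.inj).uniq a ⟨a.1, fun x _ y _ e => ?_⟩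
    rw [e.uniq F.inj (Cj.self t x)]
    simp
  have : Finite (K ≃+* K) := Finite.of_injective _ DFunLike.coe_injective
  obtain ⟨ρ, hρ⟩ := exists_prime_orderOf_dvd_card' p hp
  obtain ⟨g, h1, h2⟩ := (h.ta F.inj).ex 1 one_ne_zero ρ ρ.2
  have hm : CT.lin 1 ρ.1 ∈ au F.inj ⊤ (fun x : Wd K => x.a) ⊤ :=
    ⟨g, trivial, h1, fun x _ y _ e => (h2 x y e).symm⟩
  have hn : ∀ (n : ℕ) (a : K), (CT.lin 1 ρ.1 ^ n) • a = (ρ ^ n).1 a := fun n => by
    induction n with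
    | zero => intro a; rfl
    | succ n ih => intro a; rw [pow_succ, pow_succ, mul_smul, ih, CT.lin_smul]; simp
  have hz : IsPGroup p (zpowers (CT.lin 1 ρ.1)) := by
    refine H70.isPGroup_zpowers (k := 1) (eq_of_smul_eq_smul fun a : K => ?_)
    rw [pow_one, hn, ← hρ, pow_orderOf_eq_one]
    rfl
  have e := s.2.2 _ hz (hb ▸ bot_le) (zpowers_le.2 hm)
  rw [hb, zpowers_eq_bot] at e
  have e1 : ρ = 1 := Subtype.ext (RingEquiv.ext fun a => by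
    have := hn 1 a
    rw [pow_one, pow_one, e] at this
    exact this.symm)
  rw [e1, orderOf_one] at hρ
  exact (Fact.out : p.Prime).one_lt.ne hρ

theorem Sd.eqv {Γ' : Type*} [Group Γ'] [Finite Γ'] {ψ : Wd K →* Γ'} (i : Function.Injective j)
    (i' : Function.Injective ψ) (S : Sd j Φ) (S' : Sd ψ Φ) :
    Eqv j ψ ⊤ ∧ Eqv j ψ (Q1 K) ∧ Eqv j ψ (Q2 K) :=
  ⟨fun g hg => let ⟨c, hc⟩ := CT.top i S.ex S'.ex (mem_nr hg); ⟨c, fun x _ y _ => hc x y⟩,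
    CT.bq i S.ex S'.ex (top_Q1 i) S.q1 S'.q1, CT.bq i S.ex S'.ex (top_Q2 i) S.q2 S'.q2⟩

end H69.T3
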