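import Mathlib
import Cfsg.Agent.Lib.T3F.Defs
import Cfsg.Agent.Lib.T3F.EX
import Cfsg.Agent.Lib.T3F.GA
import Cfsg.Agent.Lib.SpX.Sl2

/-! The Levi factor `SL₂(q)` of the automizer of `Q1`. -/

set_option autoImplicit false
set_option linter.unusedSectionVars false
set_option linter.unusedVariables false

namespace H69.T3

open H89.D4S Subgroup
open H93.SX hiding sh
open H68 (SylowIn)
open scoped commutatorElement

universe u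

variable {k K : Type*} [Field k] [Field K] [Cub k K] [Finite k] [Finite K] [Fc K]
  {p : ℕ} [Fact p.Prime] [CharP K p] {Γ : Type u} [Group Γ] [Finite Γ] {j : Wd K →* Γ} {g : Γ}
  {E : Subgroup (Wd K)} {Φ : Subgroup (K ≃+* K)}

namespace L1

/-- coordinates on `Z2` -/
def c2 (x : Wd K) : k × k := (x.f, x.e)

theorem co2 (i : Function.Injective j) : Co j (Z2 K) c2 :=
  ⟨fun x hx y hy => by
      obtain ⟨a1, a2, a3, a4⟩ := hx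
      obtain ⟨b1, b2, b3, b4⟩ := hy
      simp [c2, a1, a2, a3, a4, b1, b2, b3, b4],
    fun v => ⟨⟨0, 0, 0, 0, v.2, v.1⟩, ⟨rfl, rfl, rfl, rfl⟩, rfl⟩,
    fun g _ x hx y _ e h => by
      obtain ⟨h1, h2⟩ := Prod.mk_eq_zero.1 h
      obtain rfl : x = 1 := Wd.eq_one.2 ⟨hx.1, hx.2.1, hx.2.2.1, hx.2.2.2, h2, h1⟩
      rw [e.uniq i (z := 1) (by simp [Cj])]; rfl⟩

theorem ac2 (i : Function.Injective j) (w : Wd K) : Ac j (Z2 K) c2 (j w) (uS w.b) :=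
  ⟨self_nr fun x hx => Z1_le (comm_mem1 w hx), fun x hx y _ e => by
    obtain rfl := e.uniq i (Cj.self w x)
    obtain ⟨a1, a2, a3, a4⟩ := hx
    have e1 : w * x * w⁻¹ = ⁅w, x⁆ * x := by simp [commutatorElement_def]
    rw [e1, comm_Z3 a1 a2 a3]
    show (_, _) = (_, _)
    simp [c2, a1, a2, a3, a4, add_comm]⟩

theorem hax (x : Wd K) (hx : x ∈ Z2 K) : c2 x ∈ ax k ↔ x ∈ Z1 K :=
  ⟨fun h => ⟨hx.1, hx.2.1, hx.2.2.1, hx.2.2.2, h⟩, fun h => h.2.2.2.2⟩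

theorem rng_le : j.range ≤ nr j (Q1 K) := le_nr fun t x _ => Z4_le1 (comm_mem4 t x)

theorem shear (F : Cf p j) :
    Sh p (au F.inj (Z2 K) c2 (nr j (Q1 K))) (au F.inj (Z2 K) c2 j.range) uS :=
  ⟨((co2 F.inj).syl F (fn_of fun t x hx => Z1_le (comm_mem1 t hx))).mono
      (fun _ ⟨g, hg, a⟩ => ⟨g, rng_le hg, a⟩) fun _ ⟨g, _, a⟩ => ⟨g, trivial, a⟩,
    fun _ => ⟨fun ⟨_, ⟨w, rfl⟩, a⟩ => ⟨_, (co2 F.inj).uniq a (ac2 F.inj w)⟩,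
      fun ⟨s, e⟩ => ⟨_, ⟨_, rfl⟩, e ▸ ac2 F.inj (gb s)⟩⟩, fun _ _ _ => rfl⟩

theorem c2_comm (x : Wd K) {z : Wd K} (hz : z ∈ Z3 K) :
    c2 ⁅x, z⁆ = (x.b * z.e + x.b * T (x.a * z.d) - T (x.c * z.d), T (x.a * z.d)) := by
  rw [comm_Z3 hz.1 hz.2.1 hz.2.2]; rfl

/-- the image of `Z1` is a line -/
theorem line (F : Cf p j) {ψ : (k × k) ≃ₗ[ℤ] (k × k)} (hg : g ∈ nr j (Q1 K)) (a : Ac j (Z2 K) c2 g ψ)
    (hn : ψ ∉ sb _ (ax k)) : ∃ μ : k, ∀ x : k, ((uS μ * ψ) • ((x, 0) : k × k)).1 = 0 := by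
  haveI := char_k (K := K) p
  have S := shear F
  obtain ⟨y, hy, e⟩ := nr_cj hg (x := gc 1) rfl
  have hy : y.b = 0 := hy
  have key : ∀ z ∈ Z3 K, ∀ z' ∈ Z3 K, Cj j g z z' →
      ψ • ((-T z.d, 0) : k × k) = (-T (y.c * z'.d), T (y.a * z'.d)) := fun z hz z' hz' e' => by
    have := a.2 _ (comm_mem2 _ hz) _ (comm_mem2 _ hz') (e.comm e')
    rw [c2_comm _ hz, c2_comm _ hz', hy] at this
    simpa [gc] using this
  have k1 : ∀ x : k, ∃ d, ψ • ((x, 0) : k × k) = (-T (y.c * d), T (y.a * d)) := fun x => by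
    obtain ⟨d, hd⟩ := T_surj (one_ne_zero (α := K)) (-x)
    obtain ⟨z', hz', e'⟩ := nr_cj (nr_Z3 F.inj hg) (x := gd d) ⟨rfl, rfl, rfl⟩
    have := key _ ⟨rfl, rfl, rfl⟩ _ hz' e'
    rw [one_mul] at hd
    exact ⟨_, by simpa [gd, hd] using this⟩
  have ti : ∀ x : k, (ψ • ((x, 0) : k × k)).2 = 0 → x = 0 := fun x h => by_contra fun h0 =>
    hn (S.ti ⟨g, hg, a⟩ h0 h)
  have ha : y.a ≠ 0 := fun h => by
    obtain ⟨d, hd⟩ := k1 1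
    exact one_ne_zero (ti 1 (by rw [hd, h]; simp))
  obtain ⟨t, ht⟩ := perp_perp (d' := y.c) ha fun d hd => by
    obtain ⟨z, hz, e'⟩ := nr_cj' (nr_Z3 F.inj hg) (y := gd d) ⟨rfl, rfl, rfl⟩
    have := key _ hz _ ⟨rfl, rfl, rfl⟩ e'
    have h0 := ti _ (by rw [this]; simpa [gd, mul_comm] using hd)
    rw [h0, Prod.mk_zero_zero, smul_zero] at this
    simpa [gd, mul_comm] using congrArg Prod.fst this
  refine ⟨t, fun x => ?_⟩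
  obtain ⟨d, hd⟩ := k1 x
  rw [mul_smul, hd, S.act, ht, mul_assoc, T_ι_mul]; simp

variable (j) in
/-- the elements that are trivial on `Z3 / Z2` -/
def L0 (i : Function.Injective j) : Subgroup Γ where
  carrier := {g | g ∈ nr j (Q1 K) ∧ ∀ x ∈ Z3 K, ∀ y, Cj j g x y → y.d = x.d}
  one_mem' := ⟨one_mem _, fun x _ y e => by rw [e.uniq i .one]⟩
  mul_mem' := fun {g h} hg hh => ⟨mul_mem hg.1 hh.1, fun x hx y e => by
    obtain ⟨z, hz, e'⟩ := nr_cj (nr_Z3 i hh.1) hx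
    rw [hg.2 z hz y (by simpa using e.trans e'.symm), hh.2 x hx z e']⟩
  inv_mem' := fun {g} hg => ⟨inv_mem hg.1, fun x hx y e =>
    (hg.2 y (e.mem i (nr_Z3 i (inv_mem hg.1)) hx) x (by simpa using e.symm)).symm⟩

theorem cj_L0 (i : Function.Injective j) (hg : g ∈ nr j (Q1 K)) (w : Wd K) : g * j w * g⁻¹ ∈ L0 j i :=
  ⟨mul_mem (mul_mem hg (rng_le ⟨w, rfl⟩)) (inv_mem hg), fun x hx y e => by
    obtain ⟨x', hx', e1⟩ := nr_cj' (nr_Z3 i hg) hx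
    obtain ⟨z, hz, e2⟩ := nr_cj (nr_Z2 i hg) (comm_mem2 w hx')
    have e3 := (e2.mul e1).trans (h := j w * g⁻¹) (x := x) (by
      simpa [commutatorElement_def] using (Cj.self w x').trans e1.symm)
    obtain rfl := e.uniq i (by simpa [mul_assoc] using e3)
    simp [hz.1, hz.2.2.2]⟩

theorem exists_sl2 (F : Cf p j) (h : Mv1 j) {α β γ δ : k} (e : α * δ - β * γ = 1) :
    ∃ g ∈ L0 j F.inj, ∀ x ∈ Z2 K, ∀ y, Cj j g x y → y.f = α * x.f + β * x.e ∧ y.e = γ * x.f + δ * x.e := by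
  haveI := char_k (K := K) p
  have S := shear F
  obtain ⟨g, hg, hn⟩ := SetLike.not_le_iff_exists.1 h
  obtain ⟨ψ, a⟩ := (co2 F.inj).exists_ac (nr_Z2 F.inj hg)
  obtain ⟨μ, hμ⟩ := line F hg a fun h => hn (a.nr Z1_le hax h)
  obtain ⟨v, ⟨⟨g', hg', a'⟩, -⟩, l⟩ := S.sl2 (φ := 0) (L := au F.inj (Z2 K) c2 (L0 j F.inj))
    ⟨_, mul_mem (S.mem_H μ) ⟨g, hg, a⟩, hμ⟩
    (fun h ⟨g, hg, a⟩ s => ⟨_, cj_L0 F.inj hg (gb s), (a.mul (ac2 F.inj (gb s))).mul a.inv⟩) e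
  refine ⟨g', hg', fun x hx y e' => ?_⟩
  have := a'.2 x hx y (e'.mem F.inj a'.1 hx) e'
  rw [c2, l.apply] at this
  simpa [c2, eq_comm] using this

theorem key {α β γ δ : k} (h3 : ∀ z ∈ Z3 K, ∃ z' ∈ Z3 K, Cj j g z z' ∧ z'.d = z.d)
    (h2 : ∀ x ∈ Z2 K, ∀ y, Cj j g x y → y.f = α * x.f + β * x.e ∧ y.e = γ * x.f + δ * x.e)
    {x y : Wd K} (e : Cj j g x y) : y.a = ι γ * (ι x.b * x.a - x.c) + ι δ * x.a ∧
      (y.b = 0 → y.c = ι α * (x.c - ι x.b * x.a) - ι β * x.a) := by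
  have : ∀ d, ∃ e', y.b * e' + y.b * T (y.a * d) - T (y.c * d) =
      α * (x.b * T (x.a * d) - T (x.c * d)) + β * T (x.a * d) ∧
      T (y.a * d) = γ * (x.b * T (x.a * d) - T (x.c * d)) + δ * T (x.a * d) := fun d => by
    obtain ⟨z', hz', e', hd⟩ := h3 (gd d) ⟨rfl, rfl, rfl⟩
    have := h2 _ (comm_mem2 x (y := gd d) ⟨rfl, rfl, rfl⟩) _ (e.comm e')
    rw [comm_Z3 (y := gd d) rfl rfl rfl, comm_Z3 hz'.1 hz'.2.1 hz'.2.2, hd] at this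
    exact ⟨z'.e, by simpa [gd] using this⟩
  refine ⟨sub_eq_zero.1 (nd _ fun d => ?_), fun hb => sub_eq_zero.1 (nd _ fun d => ?_)⟩ <;>
    obtain ⟨e', h1, h2⟩ := this d <;>
    simp only [sub_mul, add_mul, mul_sub, mul_assoc, map_sub, map_add, T_ι_mul]
  · linear_combination h2
  · rw [hb] at h1; linear_combination -h1

theorem h3_of (i : Function.Injective j) (hg : g ∈ L0 j i) :
    ∀ z ∈ Z3 K, ∃ z' ∈ Z3 K, Cj j g z z' ∧ z'.d = z.d := fun z hz =>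
  let ⟨z', hz', e⟩ := nr_cj (nr_Z3 i hg.1) hz
  ⟨z', hz', e, hg.2 z hz z' e⟩

end L1

open L1

theorem l1_n (F : Cf p j) (h : Mv1 j) : ∃ g, Nb j g := by
  obtain ⟨g, hg, h2⟩ := exists_sl2 F h (α := 0) (β := 1) (γ := -1) (δ := 0) (by ring)
  refine ⟨g, hg.1, fun x hx y e => ?_, hg.2, fun x hx y e => ?_⟩
  · have := key (h3_of F.inj hg) h2 e
    have hy : y.b = 0 := e.mem F.inj hg.1 hx
    simpa [mem_Q1.1 hx, hy] using this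
  · simpa [and_comm] using h2 x hx y e

theorem l1_h (F : Cf p j) (h : Mv1 j) {t : k} (ht : t ≠ 0) : ∃ g, Ab j g (ι t⁻¹) (t ^ 2) := by
  obtain ⟨g, hg, h2⟩ := exists_sl2 F h (α := t) (β := 0) (γ := 0) (δ := t⁻¹) (by field_simp; ring)
  obtain ⟨b, hb, hb'⟩ := ext1 F hg.1 (mem_nr_of (nr_Z2 F.inj hg.1) Z1_le fun x hx y hy e =>
    ⟨hy.1, hy.2.1, hy.2.2.1, hy.2.2.2, by simpa [hx.2.2.2.2] using (h2 x (Z1_le hx) y e).2⟩)
  have h3 : ∀ z ∈ Z3 K, ∃ z' ∈ Z3 K, Cj j b z z' ∧ z'.d = z.d := fun z hz =>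
    let ⟨z', hz', e, hd⟩ := h3_of F.inj hg z hz
    ⟨z', hz', hb' z (Z4_le1 (Z3_le hz)) z' e, hd⟩
  have h2' : ∀ x ∈ Z2 K, ∀ y, Cj j b x y → y.f = t * x.f + 0 * x.e ∧ y.e = 0 * x.f + t⁻¹ * x.e :=
    fun x hx y e => by
      obtain ⟨y', -, e'⟩ := nr_cj (nr_Z2 F.inj hg.1) hx
      rw [e.uniq F.inj (hb' x (Z4_le1 (Z3_le (Z2_le hx))) y' e')]
      exact h2 x hx y' e'
  refine ⟨b, hb, fun x y e => ⟨by simpa using (key h3 h2' e).1, ?_⟩⟩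
  obtain ⟨z, hz, e'⟩ := nr_cj hg.1 (x := ga 1) rfl
  have e1 := hb' _ rfl _ e'
  have h4 := (key h3 h2' e1).1
  have h5 := (key h3 h2' (e1.comm e)).2 (comm_b _ _)
  rw [comm_c, comm_c, comm_a, comm_b, h4, mem_Q1.1 hz] at h5
  apply ι_inj (J := K)
  have : (ι t : K) ≠ 0 := by simpa using ht
  simp only [ga, map_zero, map_inv₀, map_mul, map_pow] at h5 ⊢
  field_simp at h5
  linear_combination h5

theorem l1_br (F : Cf p j) {n : Γ} (hn : Nb j n) (hg : g ∈ nr j (Q1 K)) :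
    g ∈ nr j (Z1 K) ∨ ∃ s, n⁻¹ * j s * g ∈ nr j (Z1 K) := by
  refine or_iff_not_imp_left.2 fun h => ?_
  obtain ⟨ψ, a⟩ := (co2 F.inj).exists_ac (nr_Z2 F.inj hg)
  obtain ⟨ν, a'⟩ := (co2 F.inj).exists_ac (nr_Z2 F.inj hn.mem)
  obtain ⟨μ, hμ⟩ := line F hg a fun h' => h (a.nr Z1_le hax h')
  refine ⟨gb μ, ((a'.inv.mul (ac2 F.inj (gb μ))).mul a).nr Z1_le hax (mem_sb fun ⟨x, y⟩ hv => ?_)⟩
  obtain rfl : y = 0 := hv
  obtain ⟨u, v, e⟩ : ∃ u v, (uS μ * ψ) • ((x, 0) : k × k) = (u, v) := ⟨_, _, rfl⟩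
  obtain rfl : u = 0 := by simpa [e] using hμ x
  obtain ⟨z, hz, e'⟩ := nr_cj a'.1 (x := gf (-v)) ⟨rfl, rfl, rfl, rfl⟩
  have h1 := a'.2 _ ⟨rfl, rfl, rfl, rfl⟩ _ hz e'
  have h2 := hn.ef _ ⟨rfl, rfl, rfl, rfl⟩ _ e'
  rw [show c2 z = (0, v) by simpa [c2, gf, and_comm] using h2] at h1
  rw [mul_assoc, mul_smul]
  show ν⁻¹ • (uS μ * ψ) • _ ∈ _
  rw [e, ← h1, inv_smul_smul]
  rfl

end H69.T3
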