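import Mathlib
import Cfsg.Agent.Lib.T3F.Defs
import Cfsg.Agent.Lib.T3F.L1
import Cfsg.Agent.Lib.T3F.FL2

set_option autoImplicit false
set_option linter.unusedSectionVars false
set_option linter.unusedVariables false

namespace H69.T3

open H89.D4S Subgroup
open H93.SX hiding sh
open H68 (SylowIn)
open scoped commutatorElement

universe u

variable {k K : Type*} [Field k] [Field K] [Cub k K] [Finite k] [Finite K] [Fc K]
  {p : ℕ} [Fact p.Prime] [CharP K p] {Γ : Type u} [Group Γ] [Finite Γ] {j : Wd K →* Γ} {g : Γ}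
  {E : Subgroup (Wd K)} {Φ : Subgroup (K ≃+* K)}

namespace K1

theorem zero_of_inv {l : K} (hl : l ≠ 1) (φ : K → k) (h1 : ∀ x y, φ (x + y) = φ x + φ y)
    (h2 : ∀ x, φ (l * x) = φ x) (x : K) : φ x = 0 := by
  have h0 : l - 1 ≠ 0 := sub_ne_zero.2 hl
  have := h2 (x / (l - 1))
  rw [show l * (x / (l - 1)) = x + x / (l - 1) by field_simp; ring, h1] at this
  simpa using this

theorem cj_eq {u v x : Wd K} (hu : u.b = 0) (hv : v.b = 0) (hx : x.b = 0) (ha : u.a = v.a) (hc : u.c = v.c)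
    (hd : u.d = v.d) : u * x * u⁻¹ = v * x * v⁻¹ := by wdw [hu, hv, hx, ha, hc, hd]

theorem comm_ef {x y : Wd K} {a c : K} (x1 : x.a = 0) (x2 : x.b = 0) (x3 : x.c = -a) (y1 : y.a = c) (y2 : y.b = 0)
    (y3 : y.c = 0) : (⁅x, y⁆).e = (⁅gc (-a), ga c⁆ : Wd K).e - T (x.d * c) ∧
      (⁅x, y⁆).f = (⁅gc (-a), ga c⁆ : Wd K).f + T (y.d * a) := by
  refine ⟨ι_inj (J := K) ?_, ι_inj (J := K) ?_⟩ <;> wds <;> simp only [x1, x2, x3, y1, y2, y3, gc, ga] <;> cb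

theorem uniq {l : K} (h1 : l ≠ 1) (h2 : sh l ≠ 1) (hN : N l = 1) {f : Wd K → Wd K}
    (b : ∀ x ∈ Q1 K, (f x).b = 0) (mul : ∀ x ∈ Q1 K, ∀ y ∈ Q1 K, f (x * y) = f x * f y)
    (ac : ∀ x ∈ Q1 K, (f x).a = x.c ∧ (f x).c = -x.a) (d : ∀ x ∈ Z3 K, (f x).d = x.d)
    (ef : ∀ x ∈ Z2 K, (f x).e = -x.f ∧ (f x).f = x.e)
    (cm : ∀ x ∈ Q1 K, f (dg l 1 1 x) = dg l 1 1 (f x)) : ∀ x ∈ Q1 K, f x = nb x := by
  have z2 : ∀ x ∈ Z2 K, f x = nb x := fun x hx => by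
    have q := Z4_le1 (Z3_le (Z2_le hx))
    obtain ⟨k1, k2, k3, k4⟩ := id hx
    ext <;> simp [nb, b x q, ac x q, d x (Z2_le hx), ef x hx, k1, k3, k4]
  have inv : ∀ (g : K → Wd K) (m : K), m ≠ 1 → (∀ t, g t ∈ Q1 K) → (∀ s t, g (s + t) = g s * g t) →
      (∀ t, g (m * t) = dg l 1 1 (g t)) → (∀ s t, (f (g s) * f (g t)).e = (f (g s)).e + (f (g t)).e) →
      (∀ s t, (f (g s) * f (g t)).f = (f (g s)).f + (f (g t)).f) → ∀ t, (f (g t)).e = 0 ∧ (f (g t)).f = 0 :=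
    fun g m hm q a c e1 e2 t =>
      ⟨zero_of_inv hm (fun t => (f (g t)).e) (fun s t => by rw [a, mul _ (q s) _ (q t), e1])
        (fun t => by rw [c, cm _ (q t)]; simp [hN]) t,
      zero_of_inv hm (fun t => (f (g t)).f) (fun s t => by rw [a, mul _ (q s) _ (q t), e2])
        (fun t => by rw [c, cm _ (q t)]; simp [hN]) t⟩
  have qa : ∀ t : K, ga t ∈ Q1 K := fun _ => rfl
  have qc : ∀ t : K, gc t ∈ Q1 K := fun _ => rfl
  have qd : ∀ t : K, gd t ∈ Q1 K := fun _ => rfl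
  have a1 : ∀ t : K, (f (ga t)).a = 0 := fun t => (ac _ (qa t)).1
  have a2 : ∀ t : K, (f (ga t)).b = 0 := fun t => b _ (qa t)
  have a3 : ∀ t : K, (f (ga t)).c = -t := fun t => (ac _ (qa t)).2
  have c1 : ∀ t : K, (f (gc t)).a = t := fun t => (ac _ (qc t)).1
  have c2 : ∀ t : K, (f (gc t)).b = 0 := fun t => b _ (qc t)
  have c3 : ∀ t : K, (f (gc t)).c = 0 := fun t => (ac _ (qc t)).2.trans neg_zero
  have d1 : ∀ t : K, (f (gd t)).a = 0 := fun t => (ac _ (qd t)).1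
  have d2 : ∀ t : K, (f (gd t)).b = 0 := fun t => b _ (qd t)
  have d3 : ∀ t : K, (f (gd t)).c = 0 := fun t => (ac _ (qd t)).2.trans neg_zero
  have hd : ∀ t : K, f (gd t) = nb (gd t) := fun t => by
    have := inv gd (sh l) h2 qd (fun s t => by ext <;> simp [gd]) (fun t => by ext <;> simp [gd])
      (fun s t => by simp [d1, d2]) (fun s t => by simp [d1, d2, d3]) t
    have d4 : (f (gd t)).d = t := d _ ⟨rfl, rfl, rfl⟩
    ext
    exacts [d1 t, d2 t, (d3 t).trans neg_zero.symm, d4.trans (by simp [nb, gd]), this.1.trans (by simp [nb, gd]),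
      this.2.trans (by simp [nb, gd])]
  have z3 : ∀ x ∈ Z3 K, f x = nb x := fun x hx => by
    have e : x = gd x.d * ⟨0, 0, 0, 0, x.e, x.f⟩ := by ext <;> simp [gd, hx.1, hx.2.1, hx.2.2]
    rw [e, mul _ (qd _) _ rfl, nb_mul (qd _) rfl, hd, z2 _ ⟨rfl, rfl, rfl, rfl⟩]
  have key : ∀ s t : K, T ((f (ga s)).d * t) = 0 ∧ T ((f (gc t)).d * s) = 0 := fun s t => by
    have fc : f ⁅ga s, gc t⁆ = ⁅f (ga s), f (gc t)⁆ := by
      have one : f 1 = 1 := by simpa using mul 1 (one_mem _) 1 (one_mem _)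
      have iv : ∀ x ∈ Q1 K, f x⁻¹ = (f x)⁻¹ := fun x hx =>
        eq_inv_of_mul_eq_one_left (by rw [← mul _ (inv_mem hx) _ hx, inv_mul_cancel, one])
      rw [commutatorElement_def, commutatorElement_def,
        mul _ (mul_mem (mul_mem (qa s) (qc t)) (inv_mem (qa s))) _ (inv_mem (qc t)),
        mul _ (mul_mem (qa s) (qc t)) _ (inv_mem (qa s)), mul _ (qa s) _ (qc t), iv _ (qa s), iv _ (qc t)]
    have e1 : nb (ga s) = gc (-s) := by ext <;> simp [nb, ga, gc]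
    have e2 : nb (gc t) = ga t := by ext <;> simp [nb, ga, gc]
    rw [z3 _ (comm_memQ1 (qa s) (qc t)), au_nb.comm (qa s) (qc t), e1, e2] at fc
    have := comm_ef (a1 s) (a2 s) (a3 s) (c1 t) (c2 t) (c3 t)
    rw [← fc] at this
    exact ⟨by linear_combination this.1, by linear_combination -this.2⟩
  have a4 : ∀ t : K, (f (ga t)).d = 0 := fun t => nd _ fun s => (key t s).1
  have c4 : ∀ t : K, (f (gc t)).d = 0 := fun t => nd _ fun s => (key s t).2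
  have ha : ∀ t : K, f (ga t) = nb (ga t) := fun t => by
    have := inv ga l h1 qa (fun s t => by ext <;> simp [ga]) (fun t => by ext <;> simp [ga])
      (fun s t => by simp [a1, a2]) (fun s t => by simp [a1, a2, a4]) t
    ext
    exacts [a1 t, a2 t, a3 t, (a4 t).trans (by simp [nb, ga]), this.1.trans (by simp [nb, ga]),
      this.2.trans (by simp [nb, ga])]
  have hc : ∀ t : K, f (gc t) = nb (gc t) := fun t => by
    have := inv gc l h1 qc (fun s t => by ext <;> simp [gc]) (fun t => by ext <;> simp [gc])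
      (fun s t => by simp [c2, c3, c4]) (fun s t => by simp [c2, c3, c4]) t
    ext
    exacts [c1 t, c2 t, (c3 t).trans neg_zero.symm, (c4 t).trans (by simp [nb, gc]),
      this.1.trans (by simp [nb, gc]), this.2.trans (by simp [nb, gc])]
  intro x hx
  have e : x = gc x.c * ⟨0, 0, 0, x.d, x.e, x.f⟩ * ga x.a := by ext <;> simp [ga, gc, mem_Q1.1 hx]
  have q : (⟨0, 0, 0, x.d, x.e, x.f⟩ : Wd K) ∈ Q1 K := rfl
  rw [e, mul _ (mul_mem (qc _) q) _ (qa _), mul _ (qc _) _ q, nb_mul (mul_mem (qc _) q) (qa _), nb_mul (qc _) q,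
    ha, hc, z3 _ ⟨rfl, rfl, rfl⟩]

end K1
open K1

theorem k1 (F : Cf p j) (e : Ex j Φ) (h : Nb j g) : ∃ n, ∀ x ∈ Q1 K, Cj j n x (nb x) := by
  obtain ⟨l, hN, h1, h2⟩ := exists_norm_one (k := k) (K := K)
  have l0 : l ≠ 0 := by rintro rfl; simp at hN
  have s0 : sh l ≠ 0 := sh_ne l0
  obtain ⟨t, ht⟩ := e.ex l l0 1 one_ne_zero 1 (one_mem _)
  choose! f fq fc using fun x (hx : x ∈ Q1 K) => nr_cj h.mem hx
  have tq : ∀ x ∈ Q1 K, dg l 1 1 x ∈ Q1 K := fun x hx => by simp [mem_Q1.1 hx]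
  have tn : t ∈ nr j (Q1 K) := mem_nr fun x hx => ⟨_, tq x hx, ht x⟩
  have u : ∀ x ∈ Q1 K, Cj j (t * (g * (t⁻¹ * g⁻¹))) (f (dg l 1 1 x)) (dg l 1 1 (f x)) := fun x hx =>
    (ht _).trans ((fc x hx).trans ((ht x).symm.trans (fc _ (tq x hx)).symm))
  have sj : ∀ x ∈ Q1 K, ∃ y ∈ Q1 K, x = f (dg l 1 1 y) := fun x hx => by
    obtain ⟨x0, q0, e0⟩ := nr_cj' h.mem hx
    obtain ⟨y, qy, e1⟩ := nr_cj' tn q0
    exact ⟨y, qy, by rw [(ht y).uniq F.inj e1]; exact e0.uniq F.inj (fc _ q0)⟩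
  have ac := fun x hx => h.ac x hx _ (fc x hx)
  have z3 : ∀ x ∈ Q1 K, f x ∈ Z3 K ↔ x ∈ Z3 K := fun x hx => by
    simp [ac x hx, mem_Q1.1 hx, mem_Q1.1 (fq x hx), and_comm]
  have q3 : Z3 K ≤ Q1 K := Z3_le.trans Z4_le1
  have q2 : Z2 K ≤ Q1 K := Z2_le.trans q3
  have d := fun x hx => h.d x hx _ (fc x (q3 hx))
  have ef := fun x hx => h.ef x hx _ (fc x (q2 hx))
  have t3 : ∀ x, dg l 1 1 x ∈ Z3 K ↔ x ∈ Z3 K := fun x => by simp [l0]
  have z2 : ∀ x ∈ Z2 K, f x ∈ Z2 K := fun x hx =>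
    let ⟨a, b, c⟩ := (z3 x (q2 hx)).2 (Z2_le hx); ⟨a, b, c, (d x (Z2_le hx)).trans hx.2.2.2⟩
  have t2 : ∀ x ∈ Z2 K, dg l 1 1 x = x := fun x hx => by
    ext <;> simp [hN, hx.1, hx.2.1, hx.2.2.1, hx.2.2.2]
  obtain ⟨s, hs, es⟩ := inn1 F (mul_mem tn (mul_mem h.mem (mul_mem (inv_mem tn) (inv_mem h.mem))))
    (fun x hx y e => by
      obtain ⟨z, hz, rfl⟩ := sj x hx
      rw [e.uniq F.inj (u z hz)]
      simp [ac _ hz, ac _ (tq z hz)])
    (fun x hx y e => by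
      obtain ⟨z, hz, rfl⟩ := sj x (q3 hx)
      have k1 := (z3 _ (tq z hz)).1 hx
      rw [e.uniq F.inj (u z hz), d _ k1]
      simp [d _ ((t3 z).1 k1)])
    fun x hx => by
      obtain ⟨z, hz, rfl⟩ := sj x (q2 hx)
      have k1 := (z3 _ (tq z hz)).1 (Z2_le hx)
      have k2 := (t3 z).1 k1
      have k3 : z ∈ Z2 K := ⟨k2.1, k2.2.1, k2.2.2, by simpa [s0] using (d _ k1).symm.trans hx.2.2.2⟩
      have := u z hz
      rwa [t2 _ (z2 z k3), t2 z k3, ← t2 z k3] at this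
  have n1 : 1 - l ≠ 0 := sub_ne_zero.2 h1.symm
  have n2 : 1 - sh l ≠ 0 := sub_ne_zero.2 h2.symm
  obtain ⟨r, hr, er⟩ : ∃ r ∈ Q1 K, ∀ x ∈ Q1 K, dg l 1 1 r * s * x * (dg l 1 1 r * s)⁻¹ = r * x * r⁻¹ :=
    ⟨⟨s.a / (1 - l), 0, s.c / (1 - l), (s.d + cr (l * (s.a / (1 - l))) s.c) / (1 - sh l), 0, 0⟩, rfl,
      fun x hx => cj_eq (by simp [mem_Q1.1 hs]) rfl hx (by simp; field_simp; ring)
        (by simp [mem_Q1.1 hs]; field_simp; ring) (by simp [mem_Q1.1 hs]; field_simp; ring)⟩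
  refine ⟨j r * g, fun x hx => ?_⟩
  rw [← uniq h1 h2 hN (f := fun x => r * f x * r⁻¹) (fun x hx => by simp [mem_Q1.1 (fq x hx)])
    (fun x hx y hy => by rw [(fc _ (mul_mem hx hy)).uniq F.inj ((fc x hx).mul (fc y hy))]; group)
    (fun x hx => by simp [mem_Q1.1 (fq x hx), mem_Q1.1 hr, ac x hx])
    (fun x hx => by
      rw [← d x hx]
      have := (comm_mem2 r ((z3 x (q3 hx)).2 hx))
      rw [show r * f x * r⁻¹ = ⁅r, f x⁆ * f x by simp [commutatorElement_def]]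
      simp only [Wd.mul_d, this.1, this.2.2.2]
      simp)
    (fun x hx => by
      have k := z2 x hx
      have : ⁅r, f x⁆ = 1 := by
        rw [comm_Z3 k.1 k.2.1 k.2.2.1]; simp [Wd.eq_one, k.2.2.2, mem_Q1.1 hr]
      rw [mul_inv_eq_one.1 this]
      exact ef x hx)
    (fun x hx => by
      rw [map_mul, map_mul, map_inv, (u x hx).uniq F.inj (es _ (fq _ (tq x hx))), ← er _ (fq _ (tq x hx))]
      group) x hx]
  exact (Cj.self r _).trans (fc x hx)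
theorem bq1 (F : Cf p j) (e : Ex j Φ) (h : Mv1 j) : Bq j (Q1 K) nb := by
  obtain ⟨g0, h0⟩ := l1_n F h
  obtain ⟨n, hn⟩ := k1 F e h0
  have nq : n ∈ nr j (Q1 K) := mem_nr fun x hx => ⟨_, nb_mem x, hn x hx⟩
  have hb : Nb j n := ⟨nq, fun x hx y e => by rw [e.uniq F.inj (hn x hx)]; exact ⟨rfl, rfl⟩,
    fun x hx y e => by rw [e.uniq F.inj (hn x hx.2.1)]; simp [nb, hx.1],
    fun x hx y e => by rw [e.uniq F.inj (hn x hx.2.1)]; simp [nb, hx.1, hx.2.2.1]⟩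
  refine ⟨n, hn, fun g hg => ?_⟩
  rcases l1_br F hb hg with h1 | ⟨s, h1⟩
  · obtain ⟨b, hb, e⟩ := ext1 F hg h1
    exact ⟨b, hb, Or.inl e⟩
  · have q : n⁻¹ * j s * g ∈ nr j (Q1 K) :=
      mul_mem (mul_mem (inv_mem nq) (self_nr fun x _ => Z4_le1 (comm_mem4 s x))) hg
    obtain ⟨b, hb, e⟩ := ext1 F q h1
    refine ⟨b, hb, Or.inr ⟨s⁻¹, fun x hx y e' => ?_⟩⟩
    obtain ⟨z, -, e1⟩ := nr_cj q hx
    have e2 := e x hx z e1
    rw [Cj] at *
    rw [← e', map_inv]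
    calc _ = (j s)⁻¹ * n * (b * j x * b⁻¹) * ((j s)⁻¹ * n)⁻¹ := by group
      _ = _ := by rw [e2, ← e1]; group

end H69.T3
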