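import Mathlib
import Cfsg.Agent.Lib.T3F.Defs
import Cfsg.Agent.Lib.T3F.FL

set_option autoImplicit false
set_option linter.unusedSectionVars false
set_option linter.unusedVariables false

namespace H69.T3

open H89.D4S Subgroup
open H93.SX hiding sh
open H68 (SylowIn)
open scoped commutatorElement

variable {k K : Type*} [Field k] [Field K] [Cub k K] [Finite k] [Finite K] [Fc K]

variable {p : ℕ} [Fact p.Prime] [CharP K p] {G : Type*} [Group G] [DistribMulAction G (K × K)]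
  [FaithfulSMul G (K × K)] [Finite G] {H U : Subgroup G} {u : K → G}

namespace SF

theorem le (S : Sf p H U u) : U ≤ st G ⊥ (ax K) := fun g hg => by
  obtain ⟨s, rfl⟩ := (S.mem g).1 hg
  refine ⟨fun ⟨x, y⟩ => by simp [S.act, mem_ax], fun ⟨x, y⟩ hy => ?_, fun x hx => ?_⟩
  · obtain rfl : y = 0 := hy
    simp [S.act]
  · rw [AddSubgroup.mem_bot.1 hx, smul_zero]

theorem mem_U (S : Sf p H U u) (s : K) : u s ∈ U := (S.mem _).2 ⟨s, rfl⟩

theorem mem_H (S : Sf p H U u) (s : K) : u s ∈ H := S.syl.le (mem_U S s)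

theorem sb_bot (g : G) : g ∈ sb G (⊥ : AddSubgroup (K × K)) :=
  mem_sb fun x hx => by rw [AddSubgroup.mem_bot.1 hx, smul_zero]; exact zero_mem _

theorem act' (S : Sf p H U u) (s : K) (v : K × K) : u s • v = v + (cr s v.2, 0) :=
  (S.act s v.1 v.2).trans (Prod.ext rfl (add_zero _).symm)

theorem cact (S : Sf p H U u) (g : G) (s : K) (v : K × K) :
    (g * u s * g⁻¹) • v = v + g • ((cr s (g⁻¹ • v).2, 0) : K × K) := by
  rw [mul_smul, mul_smul, act' S, smul_add, smul_inv_smul]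

theorem z0 (g : G) : g • (((0 : K), (0 : K)) : K × K) = 0 := smul_zero g

theorem fixD (S : Sf p H U u) {g : G} (hg : g ∈ H) {s : K} (h : g⁻¹ * u s * g ∈ sb G (ax K)) (x : K) :
    cr s (g • ((x, 0) : K × K)).2 = 0 := by
  obtain ⟨t, ht⟩ := (S.mem _).1 (conj_mem_of_sb hM2 S.syl (le S) hg (mem_U S s) (sb_bot _) h)
  have := congrArg (fun a : G => (g • a • ((x, 0) : K × K)).1) ht
  simpa [mul_smul, act' S, z0] using this

theorem ti (S : Sf p H U u) (h2 : (2 : k) ≠ 0) {h : G} (hh : h ∈ H) {x : K} (h0 : x ≠ 0)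
    (e : (h • ((x, 0) : K × K)).2 = 0) : h ∈ sb G (ax K) := by
  by_contra hn
  refine h0 (congrArg Prod.fst (AddSubgroup.mem_bot.1 (H93.SX.ti hM2 S.syl (le S) bot_le
    (fun g _ => sb_bot g) (fun ⟨x, y⟩ hy ⟨z, w⟩ hw => ?_) hh hn (x := (x, 0)) ⟨rfl, e⟩)))
  obtain rfl : w = 0 := hw
  obtain ⟨s, hs⟩ := cr_surj h2 (show y ≠ 0 from hy) z
  exact ⟨u s, mem_U S _, by simp [S.act, cr_comm s y, hs]⟩

theorem inv_form {X y d : K} (hX : X ≠ 0) (e : cr X⁻¹ y = d) :
    2 * X * y = X * θ (θ X) * θ d + X * θ X * θ (θ d) - θ X * θ (θ X) * d := by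
  have h1 : θ X ≠ 0 := (map_ne_zero _).2 hX
  have h2 : θ (θ X) ≠ 0 := (map_ne_zero _).2 h1
  subst e
  simp only [cr, map_add, map_mul, map_inv₀, θ3]
  field_simp
  ring

theorem alg (h2 : (2 : k) ≠ 0) (τ : K → K → K) (ha : ∀ t t' x, τ (t + t') x = τ t x + τ t' x)
    (h1 : ∀ t, (∀ x, τ t x = 0) ∨ ∃ s, ∀ x, cr s (τ t x) = x) (h3 : ∀ s, s ≠ 0 → ∃ t, ∀ x, cr s (τ t x) = x) :
    False := by
  obtain ⟨X, hX⟩ := exists_not_fix (K := K)
  have X0 : X ≠ 0 := fun e => hX (by rw [e, map_zero])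
  obtain ⟨t1, e1⟩ := h3 1 one_ne_zero
  obtain ⟨t2, e2⟩ := h3 X⁻¹ (inv_ne_zero X0)
  have f1 : ∀ x, 2 * τ t1 x = θ x + θ (θ x) - x := fun x => by
    simpa using inv_form one_ne_zero (y := τ t1 x) (d := x) (by rw [inv_one, e1])
  have f2 := fun x => inv_form X0 (e2 x)
  rcases h1 (t1 + t2) with h | ⟨r, h⟩
  · obtain ⟨-, a, -⟩ := ded (x := -X - θ X * θ (θ X)) (y := X * (1 + θ (θ X))) (z := X * (1 + θ X)) fun x => by
      have := h x
      rw [ha] at this
      linear_combination 2 * X * this - X * f1 x - f2 x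
    have b : θ (θ X) = -1 := by linear_combination (mul_eq_zero.1 a).resolve_left X0
    have c : X = -1 := by simpa using congrArg θ b
    exact hX (by rw [c]; simp)
  have r0 : r⁻¹ ≠ 0 := inv_ne_zero fun e => one_ne_zero ((h 1).symm.trans (by rw [e, zero_cr]))
  rw [← inv_inv r] at h
  generalize r⁻¹ = R at h r0
  obtain ⟨a, b, -⟩ := ded (x := R * X + R * θ X * θ (θ X) - X * θ R * θ (θ R))
    (y := X * R * (θ (θ R) - 1 - θ (θ X))) (z := X * R * (θ R - 1 - θ X)) fun x => by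
      have := inv_form r0 (h x)
      rw [ha] at this
      linear_combination R * X * f1 x + R * f2 x - X * this
  have c : θ (θ R) = 1 + θ (θ X) := by linear_combination (mul_eq_zero.1 b).resolve_left (mul_ne_zero X0 r0)
  have d : R = 1 + X := by simpa using congrArg θ c
  subst d
  simp only [map_add, map_one] at a
  have : (θ X - X) * (θ (θ X) - X) = 0 := by linear_combination a
  rcases mul_eq_zero.1 this with e | e
  · exact hX (sub_eq_zero.1 e)
  · exact hX (by simpa using (congrArg θ (sub_eq_zero.1 e)).symm)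

end SF

open SF

theorem Sf.odd (S : Sf p H U u) (h2 : (2 : k) ≠ 0) : H ≤ sb G (ax K) := fun h hh => by
  by_contra hn
  have hi : ∀ x : K, (h • ((x, 0) : K × K)).2 = 0 → x = 0 := fun x e => by_contra fun h0 =>
    hn (SF.ti S h2 hh h0 e)
  have hs := surj_of hi
  have ad : ∀ x x' : K, h • ((x + x', 0) : K × K) = h • (x, 0) + h • (x', 0) := fun x x' => by
    rw [← smul_add]; simp
  -- the action of the conjugate shears on the axis
  have act : ∀ t x : K, (h * u t * h⁻¹) • ((x, 0) : K × K) =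
      (x, 0) + h • ((cr t (h⁻¹ • ((x, 0) : K × K)).2, 0) : K × K) := fun t x => cact S h t _
  have key : ∀ t s x0 : K, (h • ((cr t (h⁻¹ • ((x0, 0) : K × K)).2, 0) : K × K)).2 ≠ 0 →
      cr s (h • ((cr t (h⁻¹ • ((x0, 0) : K × K)).2, 0) : K × K)).2 = x0 →
      ∀ x, cr s (h • ((cr t (h⁻¹ • ((x, 0) : K × K)).2, 0) : K × K)).2 = x := fun t s x0 y0 e x => by
    have hv := H.mul_mem (H.mul_mem hh (mem_H S t)) (H.inv_mem hh)
    have a : ∀ z w : K, cr s (h • ((z, 0) : K × K)).2 = w → (u s * h) • ((z, 0) : K × K) = (w, 0) + h • (z, 0) :=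
      fun z w e => by rw [mul_smul, act' S, e, add_comm]
    have x00 : x0 ≠ 0 := fun e' => y0 (by simp [e', z0])
    have b := SF.ti S h2 (H.mul_mem (H.inv_mem (H.mul_mem (mem_H S s) hh)) hv) x00 (by
      rw [mul_smul, act, ← a _ _ e, inv_smul_smul])
    obtain ⟨z, w, c⟩ : ∃ z w : K, ((u s * h)⁻¹ * (h * u t * h⁻¹)) • ((x, 0) : K × K) = (z, w) := ⟨_, _, rfl⟩
    obtain rfl : w = 0 := by
      have := sb_mem b (x := (x, 0)) rfl
      rwa [c] at this
    rw [mul_smul, inv_smul_eq_iff, act, a z _ rfl] at c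
    generalize cr t (h⁻¹ • ((x, 0) : K × K)).2 = z' at c
    have c2 : (h • ((z', 0) : K × K)).2 = (h • ((z, 0) : K × K)).2 := by simpa using congrArg Prod.snd c
    obtain rfl : z' = z := sub_eq_zero.1 (hi _ (by
      have := congrArg Prod.snd (ad (z' - z) z)
      rw [sub_add_cancel, Prod.snd_add, c2] at this
      exact add_eq_right.1 this.symm))
    exact (congrArg Prod.fst (add_right_cancel c)).symm
  refine alg h2 (fun t x => (h • ((cr t (h⁻¹ • ((x, 0) : K × K)).2, 0) : K × K)).2)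
    (fun t t' x => by simp only [add_cr, ad, Prod.snd_add]) (fun t => ?_) fun s s0 => ?_
  · refine or_iff_not_imp_left.2 fun e => ?_
    obtain ⟨x0, e⟩ := not_forall.1 e
    obtain ⟨s, hs⟩ := cr_surj h2 e x0
    exact ⟨s, key t s x0 e ((cr_comm _ _).trans hs)⟩
  · obtain ⟨x1, e1⟩ := hs 1
    have x0 : cr s 1 ≠ 0 := fun e => one_ne_zero (cr_eq_zero h2 s0 e)
    have n0 : (h⁻¹ • ((cr s 1, 0) : K × K)).2 ≠ 0 := fun e =>
      hn (by simpa using inv_mem (SF.ti S h2 (H.inv_mem hh) x0 e))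
    obtain ⟨t, ht⟩ := cr_surj h2 n0 x1
    rw [cr_comm] at ht
    exact ⟨t, key t s (cr s 1) (by rw [ht, e1]; exact one_ne_zero) (by rw [ht, e1])⟩

theorem Sf.two (S : Sf p H U u) (h2 : (2 : k) = 0)
    (ho : ∀ h ∈ H, ∀ v w : K × K, T (v.1 * w.2) = T (v.2 * w.1) →
      T ((h • v).1 * (h • w).2) = T ((h • v).2 * (h • w).1)) : H ≤ sb G (ax K) := by
  have A : ∀ g ∈ H, ∀ x0 : K, x0 ≠ 0 → (g • ((x0, 0) : K × K)).2 = 0 → g ∈ sb G (ax K) := fun g hg x0 h0 e => by
    have d0 : (g • ((x0, 0) : K × K)).1 ≠ 0 := fun e' =>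
      h0 (congrArg Prod.fst ((smul_eq_zero_iff_eq g).1 (Prod.ext e' e)))
    have pp : ∀ x : K, T ((g • ((x, 0) : K × K)).2 * (g • ((x0, 0) : K × K)).1) = 0 := fun x => by
      have := ho g hg (x, 0) (x0, 0) (by simp)
      rw [e, mul_zero, map_zero] at this
      exact this.symm
    generalize (g • ((x0, 0) : K × K)).1 = d at d0 pp
    have st : ∀ s, T (s * d) = 0 → ∀ x : K, cr s (g • ((x, 0) : K × K)).2 = 0 := fun s hs => by
      refine fixD S hg (mem_sb fun ⟨x, y⟩ hy => ?_)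
      obtain rfl : y = 0 := hy
      have a : (g⁻¹ * u s * g) • ((x, 0) : K × K) =
          (x, 0) + g⁻¹ • ((cr s (g • ((x, 0) : K × K)).2, 0) : K × K) := by
        simpa only [inv_inv] using cact S g⁻¹ s (x, 0)
      rw [a, mem_ax, Prod.snd_add, zero_add]
      refine nd _ fun x' => ?_
      have := ho g⁻¹ (H.inv_mem hg) (cr s (g • ((x, 0) : K × K)).2, 0) (g • (x', 0))
        (by rw [alt_plane h2 d0 hs (pp x) (pp x')]; simp)
      rw [inv_smul_smul, mul_zero, map_zero] at this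
      exact this.symm
    obtain ⟨s1, s2, a1, a2, hi⟩ := exists_two d
    refine mem_sb fun ⟨x, y⟩ hy => ?_
    obtain rfl : y = 0 := hy
    by_contra y0
    obtain ⟨t1, e1⟩ := (cr_ker2 h2 y0).1 ((cr_comm _ _).trans (st s1 a1 x))
    obtain ⟨t2, e2⟩ := (cr_ker2 h2 y0).1 ((cr_comm _ _).trans (st s2 a2 x))
    have := (hi t2 (-t1) (by rw [e1, e2, map_neg]; ring)).2
    exact one_ne_zero (hi 1 0 (by rw [e1, neg_eq_zero.1 this]; simp)).1
  intro h hh
  by_contra hn
  have hs := surj_of (h := h) fun x e => by_contra fun h0 => hn (A h hh x h0 e)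
  obtain ⟨x, e⟩ := hs 1
  have x0 : x ≠ 0 := fun e' => one_ne_zero (e.symm.trans (by simp [e', z0]))
  have c : cr (1 : K) 1 = 0 := by rw [cr_self', two_iff.2 h2, zero_mul]
  have b := A _ (H.mul_mem (H.mul_mem (H.inv_mem hh) (mem_H S 1)) hh) x x0 (by
    rw [mul_smul, mul_smul, act' S, e, c, Prod.mk_zero_zero, add_zero, inv_smul_smul])
  refine one_ne_zero (cr_nd (c := (1 : K)) fun a => ?_)
  obtain ⟨z, rfl⟩ := hs a
  exact (cr_comm _ _).trans (fixD S hh b z)

end H69.T3
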