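import Mathlib
import Cfsg.Agent.Lib.T3F.Defs
import Cfsg.Agent.Lib.T3F.FL

set_option autoImplicit false
set_option linter.unusedSectionVars false
set_option linter.unusedVariables false

namespace H69.T3

open H89.D4S Subgroup
open H93.SX hiding sh
open H68 (SylowIn)
open scoped commutatorElement

variable {k K : Type*} [Field k] [Field K] [Cub k K] [Finite k] [Finite K] [Fc K]
  {p : ℕ} [Fact p.Prime] [CharP K p] {H : Subgroup (G8 K)} {g h z : G8 K}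

namespace VA

theorem fin : Finite (G8 K) := DFunLike.finite _

theorem bf_sub_l (u v w : V8 K) : Bf (u - v) w = Bf u w - Bf v w := by
  simp only [Bf, Prod.fst_sub, Prod.snd_sub]; cbk K
theorem bf_sub_r (u v w : V8 K) : Bf u (v - w) = Bf u v - Bf u w := by
  simp only [Bf, Prod.fst_sub, Prod.snd_sub]; cbk K
theorem bf_sm_l (t : k) (v w : V8 K) : Bf (sm t v) w = t * Bf v w := by
  simp only [Bf, sm]; cbk K
theorem bf_sm_r (t : k) (v w : V8 K) : Bf v (sm t w) = t * Bf v w := by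
  simp only [Bf, sm]; cbk K
theorem bf_yv (v : V8 K) : Bf v (yv K) = v.1 := by simp [Bf, yv]
theorem yv_ne : yv K ≠ 0 := fun e => one_ne_zero (congrArg (fun v : V8 K => v.2.2.2) e)
theorem yv_mem : yv K ∈ Y1 K := ⟨rfl, rfl, rfl⟩
theorem eq_sm {v : V8 K} (hv : v ∈ Y1 K) : v = sm v.2.2.2 (yv K) := by
  obtain ⟨b, c, d, e⟩ := v
  obtain ⟨h1, h2, h3⟩ := hv
  simp only at h1 h2 h3
  simp [sm, yv, h1, h2, h3]
theorem sm_mem {v : V8 K} (hv : v ∈ Y1 K) (t : k) : sm t v ∈ Y1 K := by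
  obtain ⟨h1, h2, h3⟩ := hv
  exact ⟨by simp [sm, h1], by simp [sm, h2], by simp [sm, h3]⟩

theorem nd' {v : V8 K} (h : ∀ w, Bf v w = 0) : v = 0 := by
  obtain ⟨b, c, d, e⟩ := v
  have h1 := h (0, 0, 0, 1)
  have h2 := h (1, 0, 0, 0)
  have h3 : c = 0 := nd c fun x => by simpa [Bf] using h (0, 0, x, 0)
  have h4 : d = 0 := nd d fun x => by simpa [Bf] using h (0, x, 0, 0)
  simp [Bf] at h1 h2
  simp [h1, h2, h3, h4]

theorem pp' {v w : V8 K} (hv : v ≠ 0) (h : ∀ x, Bf v x = 0 → Bf w x = 0) : ∃ t, w = sm t v := by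
  obtain ⟨x0, hx⟩ : ∃ x0, Bf v x0 ≠ 0 := by
    by_contra! hh
    exact hv (nd' hh)
  refine ⟨Bf w x0 / Bf v x0, sub_eq_zero.1 (nd' fun x => ?_)⟩
  have := h (x - sm (Bf v x / Bf v x0) x0) (by rw [bf_sub_r, bf_sm_r]; field_simp; ring)
  rw [bf_sub_r, bf_sm_r, sub_eq_zero] at this
  rw [bf_sub_l, bf_sm_l, this]
  field_simp
  ring

theorem uu_nsmul (a : K) (n : ℕ) : uu a ^ n = uu (n • a) := by
  induction n with
  | zero => rw [pow_zero, zero_smul, uu_zero]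
  | succ n ih => rw [pow_succ, ih, succ_nsmul, uu_add]

end VA

open VA

theorem Cu.perp (C : Cu p H) (hh : h ∈ H) (v w : V8 K) : Bf (h • v) (h • w) = 0 ↔ Bf v w = 0 := by
  obtain ⟨ρ, h1, -⟩ := C.sim h hh
  rw [h1, EmbeddingLike.map_eq_zero_iff]
theorem Cu.semi (C : Cu p H) (hh : h ∈ H) : ∃ (σ : k ≃+* k) (s : k), s ≠ 0 ∧
    (∀ (t : k) (v : V8 K), h • sm t v = sm (σ t) (h • v)) ∧
    (∀ v w : V8 K, Bf (h • v) (h • w) = s * σ (Bf v w)) ∧
    ((2 : k) = 0 → ∀ v : V8 K, Qf (h • v) = s * σ (Qf v)) := by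
  obtain ⟨ρ, h1, h2⟩ := C.sim h hh
  have s0 : ρ 1 ≠ 0 := by rw [Ne, EmbeddingLike.map_eq_zero_iff]; exact one_ne_zero
  have key : ∀ t u : k, ρ (t * u) = ρ t / ρ 1 * ρ u := fun t => by
    obtain ⟨τ, hτ⟩ := pp' (v := h • yv K) (w := h • sm t (yv K))
      (fun e => yv_ne ((smul_eq_zero_iff_eq h).1 e)) fun x hx => by
        rw [← smul_inv_smul h x] at hx ⊢
        rw [C.perp hh] at hx ⊢
        rw [bf_sm_l, hx, mul_zero]
    have e : ∀ u : k, ρ (t * u) = τ * ρ u := fun u => by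
      have e1 : Bf (yv K) ((-u, 0, 0, 0) : V8 K) = u := by simp [Bf, yv]
      have := h1 (sm t (yv K)) (-u, 0, 0, 0)
      rw [hτ, bf_sm_l, bf_sm_l, h1, e1] at this
      exact this.symm
    intro u
    have e1 := e 1
    rw [mul_one] at e1
    rw [e u, e1, mul_div_cancel_right₀ _ s0]
  let σ : k ≃+* k :=
    { toFun := fun t => ρ t / ρ 1
      invFun := fun t => ρ.symm (t * ρ 1)
      left_inv := fun t => by simp only [div_mul_cancel₀ _ s0, AddEquiv.symm_apply_apply]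
      right_inv := fun t => by simp only [AddEquiv.apply_symm_apply, mul_div_cancel_right₀ _ s0]
      map_mul' := fun t u => by rw [key]; ring
      map_add' := fun t u => by rw [map_add, add_div] }
  have hσ : ∀ t, ρ t = ρ 1 * σ t := fun t => (mul_div_cancel₀ _ s0).symm
  refine ⟨σ, ρ 1, s0, fun t v => sub_eq_zero.1 (nd' fun x => ?_), fun v w => by rw [h1, hσ],
    fun e v => by rw [h2 e, hσ]⟩
  rw [← smul_inv_smul h x, bf_sub_l, bf_sm_l, h1, h1, bf_sm_l, key]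
  exact sub_self _
theorem Cu.sb1 (C : Cu p H) (hh : h ∈ H) : h ∈ sb (G8 K) (Y1 K) ↔ h • yv K ∈ Y1 K := by
  refine ⟨fun e => sb_mem e yv_mem, fun e => ?_⟩
  have := fin (K := K)
  obtain ⟨σ, s, -, h1, -⟩ := C.semi hh
  exact mem_sb fun x hx => by rw [eq_sm hx, h1]; exact sm_mem e _
theorem Cu.sb4 (C : Cu p H) (hh : h ∈ H) (h1 : h ∈ sb (G8 K) (Y1 K)) : h ∈ sb (G8 K) (Y4 K) := by
  have := fin (K := K)
  refine mem_sb fun x hx => ?_
  have e := (C.perp (inv_mem hh) (h • x) (yv K)).1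
  rw [inv_smul_smul, eq_sm (sb_mem (inv_mem h1) yv_mem), bf_sm_r, bf_yv, bf_yv] at e
  exact e (by rw [show x.1 = 0 from hx, mul_zero])
theorem Cu.yne (hh : h ∈ H) : h • yv K ≠ 0 := fun e => yv_ne ((smul_eq_zero_iff_eq h).1 e)
theorem Cu.sing (C : Cu p H) (h2 : (2 : k) = 0) (hh : h ∈ H) : Qf (h • yv K) = 0 := by
  obtain ⟨ρ, -, h1⟩ := C.sim h hh
  rw [h1 h2, show Qf (yv K) = 0 by simp [Qf, yv], map_zero]
theorem li_uu (a : K) : Li (uu a) 1 := by
  refine ⟨fun t v => ?_, fun v w => ?_, fun h2 v => ?_⟩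
  · apply ext8 <;> simp only [uu_smul, uF, sm] <;> cb
  · simp only [uu_smul, uF, Bf]; cbk K
  · have : Qf (uu a • v) = 1 * Qf v + 2 * (v.1 * T (a * v.2.2.1) + 2 * v.1 * T (sh a * v.2.1) +
        2 * v.1 ^ 2 * N a + T (sh v.2.1 * a)) := by
      simp only [uu_smul, uF, Qf]; cbk K
    rw [this, h2, zero_mul, add_zero]
theorem uu_sb (a : K) : uu a ∈ sb (G8 K) (Y1 K) ⊓ sb (G8 K) (Y3 K) ⊓ sb (G8 K) (Y4 K) := by
  have := fin (K := K)
  refine ⟨⟨mem_sb fun x hx => ?_, mem_sb fun x hx => ?_⟩, mem_sb fun x hx => ?_⟩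
  · obtain ⟨h1, h2, h3⟩ := hx
    rw [uu_smul]
    simp [uF, h1, h2, h3]
  · obtain ⟨h1, h2⟩ := hx
    rw [uu_smul]
    simp [uF, h1, h2]
  · exact hx
theorem Cu.uu_mem (C : Cu p H) (a : K) : uu a ∈ H := C.syl.1 ⟨a, rfl⟩
theorem uu_pow (p : ℕ) [CharP K p] (a : K) : uu a ^ p = 1 := by
  rw [uu_nsmul, nsmul_eq_mul, CharP.cast_eq_zero, zero_mul, uu_zero]
theorem Li.one : Li (1 : G8 K) 1 :=
  ⟨fun _ _ => by simp only [one_smul], fun _ _ => by simp only [one_smul, one_mul],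
    fun _ _ => by simp only [one_smul, one_mul]⟩
theorem Li.mul {s t : k} (a : Li g s) (b : Li h t) : Li (g * h) (s * t) :=
  ⟨fun r v => by rw [mul_smul, mul_smul, b.lin, a.lin],
    fun v w => by rw [mul_smul, mul_smul, a.bf, b.bf, mul_assoc],
    fun e v => by rw [mul_smul, a.qf e, b.qf e, mul_assoc]⟩
theorem Li.ne {s : k} (a : Li g s) : s ≠ 0 := by
  rintro rfl
  refine yv_ne (K := K) ((smul_eq_zero_iff_eq g).1 (nd' (v := g • yv K) fun w => ?_))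
  rw [← smul_inv_smul g w, a.bf, zero_mul]
theorem Li.inv {s : k} (a : Li g s) : Li g⁻¹ s⁻¹ := by
  refine ⟨fun r v => ?_, fun v w => ?_, fun e v => ?_⟩
  · rw [inv_smul_eq_iff, a.lin, smul_inv_smul]
  · rw [eq_inv_mul_iff_mul_eq₀ a.ne, ← a.bf, smul_inv_smul, smul_inv_smul]
  · rw [eq_inv_mul_iff_mul_eq₀ a.ne, ← a.qf e, smul_inv_smul]
theorem Cu.li_conj (C : Cu p H) (hh : h ∈ H) {s : k} (a : Li g s) :
    ∃ σ : k ≃+* k, Li (h⁻¹ * g * h) (σ s) ∧ ∀ (t : k) (v : V8 K), g • h • v = sm t (h • v) →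
      (h⁻¹ * g * h) • v = sm (σ t) v := by
  obtain ⟨σ, r, r0, h1, h2, h3⟩ := C.semi hh
  have e : ∀ v : V8 K, h • (h⁻¹ * g * h) • v = g • h • v := fun v => by
    rw [mul_smul, mul_smul, smul_inv_smul]
  refine ⟨σ.symm, ⟨fun t v => ?_, fun v w => ?_, fun e2 v => ?_⟩, fun t v ht => ?_⟩
  · refine smul_left_cancel h ?_
    rw [e, h1, h1, a.lin, e]
  · refine σ.injective (mul_left_cancel₀ r0 ?_)
    rw [← h2, e, e, a.bf, h2, map_mul, RingEquiv.apply_symm_apply]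
    ring
  · refine σ.injective (mul_left_cancel₀ r0 ?_)
    rw [← h3 e2, e, a.qf e2, h3 e2, map_mul, RingEquiv.apply_symm_apply]
    ring
  · refine smul_left_cancel h ?_
    rw [e, h1, RingEquiv.apply_symm_apply, ht]
theorem Bf_nd {v : V8 K} (h : ∀ w, Bf v w = 0) : v = 0 := nd' h
theorem Bf_pp {v w : V8 K} (hv : v ≠ 0) (h : ∀ x, Bf v x = 0 → Bf w x = 0) : ∃ t, w = sm t v :=
  pp' hv h

end H69.T3
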