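import Mathlib
import Cfsg.Agent.Lib.T3F.Defs
import Cfsg.Agent.Lib.T3F.VA
import Cfsg.Agent.Lib.T3F.SF

set_option autoImplicit false
set_option linter.unusedSectionVars false
set_option linter.unusedVariables false

namespace H69.T3

open H89.D4S Subgroup
open H93.SX hiding sh
open H68 (SylowIn)
open scoped commutatorElement

variable {k K : Type*} [Field k] [Field K] [Cub k K] [Finite k] [Finite K] [Fc K]
  {p : ℕ} [Fact p.Prime] [CharP K p] {H : Subgroup (G8 K)} {g h z : G8 K}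

namespace VS

section gen
variable {G M : Type*} [Group G] [AddCommGroup M] [DistribMulAction G M] {A B D : AddSubgroup M}

variable (G) in
/-- the stabiliser of the chain `M ≥ D ≥ B ≥ A ≥ 0` -/
def st3 (A : AddSubgroup M) (hB : B ≤ D) : Subgroup G where
  carrier := {α | (∀ x, α • x - x ∈ D) ∧ (∀ x ∈ D, α • x - x ∈ B) ∧ (∀ x ∈ B, α • x - x ∈ A) ∧
    ∀ x ∈ A, α • x = x}
  one_mem' := ⟨fun x => by simp, fun x _ => by simp, fun x _ => by simp, fun x _ => one_smul _ x⟩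
  mul_mem' := by
    rintro α β ⟨a1, a2, a3, a4⟩ ⟨b1, b2, b3, b4⟩
    refine ⟨fun x => ?_, fun x hx => ?_, fun x hx => ?_,
      fun x hx => by rw [mul_smul, b4 x hx, a4 x hx]⟩
    · simpa [mul_smul] using add_mem (a1 (β • x)) (b1 x)
    · simpa [mul_smul] using add_mem (a2 (β • x) (by simpa using add_mem (b1 x) hx)) (b2 x hx)
    · simpa [mul_smul] using
        add_mem (a3 (β • x) (by simpa using add_mem (b2 x (hB hx)) hx)) (b3 x hx)
  inv_mem' := by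
    rintro α ⟨a1, a2, a3, a4⟩
    have k : ∀ x ∈ D, α⁻¹ • x ∈ D := fun x hx => by simpa using sub_mem hx (a1 (α⁻¹ • x))
    refine ⟨fun x => ?_, fun x hx => ?_, fun x hx => ?_,
      fun x hx => by rw [inv_smul_eq_iff, a4 x hx]⟩
    · simpa using neg_mem (a1 (α⁻¹ • x))
    · simpa using neg_mem (a2 (α⁻¹ • x) (k x hx))
    · simpa using neg_mem (a3 (α⁻¹ • x) (by simpa using sub_mem hx (a2 _ (k x (hB hx)))))

theorem conj_st3 {hB : B ≤ D} {g h : G} (h1 : h ∈ sb G A) (h2 : h ∈ sb G B) (h3 : h ∈ sb G D)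
    (hg : g ∈ st3 G A hB) : h * g * h⁻¹ ∈ st3 G A hB := by
  refine ⟨fun x => ?_, fun x hx => ?_, fun x hx => ?_, fun x hx => ?_⟩
  · simpa [mul_smul, smul_sub] using sb_mem h3 (hg.1 (h⁻¹ • x))
  · simpa [mul_smul, smul_sub] using sb_mem h2 (hg.2.1 (h⁻¹ • x) (sb_mem (inv_mem h3) hx))
  · simpa [mul_smul, smul_sub] using sb_mem h1 (hg.2.2.1 (h⁻¹ • x) (sb_mem (inv_mem h2) hx))
  · rw [mul_smul, mul_smul, hg.2.2.2 _ (sb_mem (inv_mem h1) hx), smul_inv_smul]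

theorem pg_st3 [FaithfulSMul G M] {q : ℕ} (hn : ∀ x : M, q • x = 0) (hB : B ≤ D) :
    IsPGroup q (st3 G A hB) := by
  rintro ⟨g, hg⟩
  refine ⟨3, Subtype.ext (eq_of_smul_eq_smul fun x : M => ?_)⟩
  have h1 : ∀ y ∈ B, g ^ q • y = y := fun y hy => by
    rw [pow_smul_of_fix (hg.2.2.2 _ (hg.2.2.1 y hy)), hn, add_zero]
  have h2 : ∀ y ∈ D, (g ^ q) ^ q • y = y := fun y hy => by
    rw [pow_smul_of_fix (h1 _ ((pow_mem hg q).2.1 y hy)), hn, add_zero]
  show g ^ q ^ 3 • x = (1 : G) • x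
  rw [pow_succ, pow_two, pow_mul, pow_mul,
    pow_smul_of_fix (h2 _ ((pow_mem (pow_mem hg q) q).1 x)), hn, add_zero, one_smul]

end gen

theorem fin8 : Finite (G8 K) := DFunLike.finite _

theorem y34 : Y3 K ≤ Y4 K := fun _ hv => hv.1

theorem uu_st (a : K) : uu a ∈ st3 (G8 K) (Y1 K) y34 := by
  refine ⟨fun v => ?_, fun v hv => ?_, fun v hv => ?_, fun v hv => ?_⟩
  · rw [uu_smul]
    simp [uF]
  · rw [mem_Y4] at hv
    rw [uu_smul]
    simp [uF, hv]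
  · rw [mem_Y3] at hv
    rw [uu_smul]
    simp [uF, hv.1, hv.2]
  · rw [mem_Y1] at hv
    rw [uu_smul]
    ext <;> simp [uF, hv.1, hv.2.1, hv.2.2]

/-- the coordinates `(d, c)` -/
def pr (v : V8 K) : K × K := (v.2.2.1, v.2.1)
def inc (x : K × K) : V8 K := (0, x.2, x.1, 0)

theorem pr_smul (h1 : h ∈ sb (G8 K) (Y1 K)) {v : V8 K} (hv : v ∈ Y4 K) :
    pr (h • inc (pr v)) = pr (h • v) := by
  have e : v - inc (pr v) ∈ Y1 K := by
    rw [mem_Y4] at hv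
    simp [inc, pr, hv]
  have e2 := sb_mem h1 e
  rw [smul_sub, mem_Y1] at e2
  exact Prod.ext (sub_eq_zero.1 e2.2.2).symm (sub_eq_zero.1 e2.2.1).symm

/-- the action on `Y4 / Y1` -/
def pi0 (B : Subgroup (G8 K)) (h1 : B ≤ sb (G8 K) (Y1 K)) (h4 : B ≤ sb (G8 K) (Y4 K)) :
    B →* AddMonoid.End (K × K) where
  toFun b := AddMonoidHom.mk' (fun x => pr ((b : G8 K) • inc x)) fun x y => by
    have : inc (x + y) = inc x + inc y := by simp [inc]
    rw [this, smul_add]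
    rfl
  map_one' := AddMonoidHom.ext fun x => rfl
  map_mul' a b := AddMonoidHom.ext fun x =>
    (pr_smul (h1 a.2) (sb_mem (h4 b.2) (show inc x ∈ Y4 K from rfl))).symm

end VS

open VS in
theorem Cu.sb3 (C : Cu p H) (hh : h ∈ H) (h1 : h ∈ sb (G8 K) (Y1 K)) : h ∈ sb (G8 K) (Y3 K) := by
  haveI : Finite (G8 K) := fin8
  haveI : Finite (AddMonoid.End (K × K)) := DFunLike.finite _
  let B : Subgroup (G8 K) := H ⊓ sb (G8 K) (Y1 K)
  have b4 : B ≤ sb (G8 K) (Y4 K) := fun x hx => C.sb4 hx.1 hx.2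
  have hU : UU K ≤ B := by
    rintro _ ⟨a, rfl⟩
    exact ⟨C.uu_mem a, (uu_sb a).1.1⟩
  let π := (pi0 B inf_le_right b4).toHomUnits
  have ev : ∀ (b : B) (x : K × K), π b • x = pr ((b : G8 K) • inc x) := fun b x => rfl
  have S : Sf p ((⊤ : Subgroup B).map π) (((UU K).subgroupOf B).map π)
      fun s => π ⟨uu s, hU ⟨s, rfl⟩⟩ := by
    refine ⟨(H68.sylowIn_top (C.syl.mono hU inf_le_left).toSylow).map π, fun g => ⟨?_, ?_⟩,
      fun s x y => ?_⟩
    · rintro ⟨⟨_, hb⟩, ⟨s, rfl⟩, rfl⟩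
      exact ⟨s, rfl⟩
    · rintro ⟨s, rfl⟩
      exact ⟨_, ⟨s, rfl⟩, rfl⟩
    · rw [ev, uu_smul]
      simp [uF, pr, inc]
  have key : (⊤ : Subgroup B).map π ≤ sb _ (ax K) := by
    by_cases h2 : (2 : k) = 0
    · refine S.two h2 ?_
      rintro _ ⟨b, -, rfl⟩ v w e
      have e0 : Bf (inc v) (inc w) = 0 := by simp [Bf, inc, e]
      have e1 := (C.perp b.2.1 _ _).2 e0
      have e2 : ((b : G8 K) • inc v).1 = 0 := sb_mem (b4 b.2) (show inc v ∈ Y4 K from rfl)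
      have e3 : ((b : G8 K) • inc w).1 = 0 := sb_mem (b4 b.2) (show inc w ∈ Y4 K from rfl)
      rw [ev, ev]
      simp only [Bf, e2, e3, zero_mul, mul_zero, sub_zero, zero_sub] at e1
      simp only [pr]
      linear_combination e1
    · exact S.odd h2
  refine mem_sb fun v hv => ⟨sb_mem (C.sb4 hh h1) (y34 hv), ?_⟩
  have := sb_mem (key ⟨⟨h, hh, h1⟩, mem_top _, rfl⟩) (show pr v ∈ ax K from hv.2)
  rw [ev, pr_smul h1 (y34 hv)] at this
  exact this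

theorem VS.mem_st (C : Cu p H) (hh : h ∈ H) (e : h ∈ VS.st3 (G8 K) (Y1 K) VS.y34) : h ∈ UU K := by
  haveI := char_k (k := k) (K := K) p
  have hn : ∀ x : V8 K, p • x = 0 := fun x => by ext <;> simp
  refine (C.syl.eq_of_le ((VS.pg_st3 hn VS.y34 (A := Y1 K)).to_inf_left (K := H))
    (le_inf ?_ C.syl.le) inf_le_right).le ⟨e, hh⟩
  rintro _ ⟨a, rfl⟩
  exact VS.uu_st a

theorem VS.conj (C : Cu p H) (hh : h ∈ H) (h1 : h ∈ sb (G8 K) (Y1 K)) (hg : g ∈ UU K) :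
    h * g * h⁻¹ ∈ UU K := by
  obtain ⟨a, rfl⟩ := hg
  exact VS.mem_st C (mul_mem (mul_mem hh (C.uu_mem a)) (inv_mem hh))
    (VS.conj_st3 h1 (C.sb3 hh h1) (C.sb4 hh h1) (VS.uu_st a))

theorem Cu.normU (C : Cu p H) (hh : h ∈ H) (h1 : h ∈ sb (G8 K) (Y1 K)) :
    ∃ γ : K ≃+ K, ∀ a, h * uu a * h⁻¹ = uu (γ a) := by
  choose f hf using fun a : K => VS.conj C hh h1 ⟨a, rfl⟩
  have add : ∀ a b, f (a + b) = f a + f b := fun a b => uu_inj (by
    rw [uu_add, ← hf, ← hf, ← hf, uu_add]; group)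
  have inj : Function.Injective f := fun a b e => uu_inj (by
    have := (hf a).trans (e ▸ (hf b).symm)
    exact mul_left_cancel (mul_right_cancel this))
  exact ⟨AddEquiv.ofBijective (AddMonoidHom.mk' f add) (Finite.injective_iff_bijective.1 inj), hf⟩
theorem Cu.memU (C : Cu p H) (hh : h ∈ H) (h1 : h ∈ sb (G8 K) (Y1 K)) {n : ℕ} (e : h ^ p ^ n = 1) : h ∈ UU K := by
  haveI : Finite (G8 K) := VS.fin8
  exact C.syl.le_of_normalizes (H68.isPGroup_zpowers e) (zpowers_le.2 hh) (zpowers_le.2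
    (H90.mem_normalizer_of_conj_mem fun _ => VS.conj C hh h1)) (mem_zpowers h)
/-- elements that are trivial on the factors of the flag -/
theorem Cu.memU' (C : Cu p H) (hh : h ∈ H) (e1 : ∀ v, h • v - v ∈ Y4 K) (e2 : ∀ v ∈ Y4 K, h • v - v ∈ Y3 K)
    (e3 : ∀ v ∈ Y3 K, h • v - v ∈ Y1 K) (e4 : ∀ v ∈ Y1 K, h • v = v) : h ∈ UU K :=
  VS.mem_st C hh ⟨e1, e2, e3, e4⟩
theorem T1.li (C : Cu p H) (hh : h ∈ H) {t : k} (ht : t ≠ 0) (a : T1 h t) :
    Li h t ∧ h ∈ sb (G8 K) (Y1 K) ∧ ∀ x, h * uu x * h⁻¹ = uu (ι t⁻¹ * x) := by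
  obtain ⟨σ, s, hs, l1, l2, l3⟩ := C.semi hh
  have hσ : ∀ r, σ r = r := fun r => by
    have e := congrArg Prod.fst (l1 r ((1, 0, 0, 0) : V8 K))
    rw [a.b] at e
    simp only [sm, a.b, mul_one] at e
    exact mul_right_cancel₀ (pow_ne_zero 2 ht) (by rw [← e, mul_comm])
  have y1 : (h • yv K).1 = 0 := by rw [a.b]; simp [yv]
  have y2 : (h • yv K).2.1 = 0 := by rw [a.c _ (by simp [yv])]; simp [yv]
  have y3 : (h • yv K).2.2.1 = 0 := by rw [a.d _ (by simp [yv])]; simp [yv]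
  have y4 : (h • yv K).2.2.2 = t⁻¹ := by rw [a.e _ (by simp [yv])]; simp [yv]
  have h1 : h ∈ sb (G8 K) (Y1 K) := (C.sb1 hh).2 ⟨y1, y2, y3⟩
  have hst : s = t := by
    have e := l2 ((1, 0, 0, 0) : V8 K) (yv K)
    have e0 : Bf ((1, 0, 0, 0) : V8 K) (yv K) = 1 := by simp [Bf, yv]
    rw [hσ, e0] at e
    simp only [Bf, y1, y2, y3, y4, a.b, mul_one, mul_zero, map_zero, sub_zero, add_zero] at e
    rw [← e]
    field_simp
  subst hst
  refine ⟨⟨fun r v => by rw [l1, hσ], fun v w => by rw [l2, hσ], fun h2 v => by rw [l3 h2, hσ]⟩,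
    h1, fun x => ?_⟩
  obtain ⟨y, hy⟩ := VS.conj C hh h1 (⟨x, rfl⟩ : uu x ∈ UU K)
  rw [hy]
  congr 1
  have e : h * uu x = uu y * h := by rw [← hy]; group
  have e1 := congrArg (fun g : G8 K => (g • ((1, 0, 0, 0) : V8 K)).2.1) e
  have e2 : uu x • ((1, 0, 0, 0) : V8 K) = (1, 0, 0, 0) + (0, x, sh x, N x) := by
    rw [uu_smul]; ext <;> simp [uF]
  simp only [mul_smul] at e1
  rw [e2, smul_add, Prod.snd_add, Prod.fst_add, a.c (0, x, sh x, N x) rfl, uu_smul] at e1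
  simp only [uF, a.b, mul_one, add_right_inj, map_pow] at e1
  have hι : (ι s : K) ≠ 0 := by simpa using hs
  rw [map_inv₀]
  field_simp
  apply mul_left_cancel₀ hι
  linear_combination -e1

end H69.T3
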