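import Mathlib
import Cfsg.Agent.Lib.T3F.Defs
import Cfsg.Agent.Lib.T3F.VS
import Cfsg.Agent.Lib.T3F.EX
import Cfsg.Agent.Lib.T3F.GA

set_option autoImplicit false
set_option linter.unusedSectionVars false
set_option linter.unusedVariables false

namespace H69.T3

open H89.D4S Subgroup
open H93.SX hiding sh
open H68 (SylowIn)
open scoped commutatorElement

universe u

variable {k K : Type*} [Field k] [Field K] [Cub k K] [Finite k] [Finite K] [Fc K]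
  {p : ℕ} [Fact p.Prime] [CharP K p] {Γ : Type u} [Group Γ] [Finite Γ] {j : Wd K →* Γ} {g : Γ}
  {E : Subgroup (Wd K)} {Φ : Subgroup (K ≃+* K)}

namespace VW

theorem y1 : ∀ x ∈ Q2 K, cV x ∈ Y1 K ↔ x ∈ Z2 K := fun x hx => by simp_all [cV]

theorem y3 : ∀ x ∈ Q2 K, cV x ∈ Y3 K ↔ x ∈ Z3 K := fun x hx => by simp_all [cV]

theorem gf_mul (s t : k) : (gf (s + t) : Wd K) = gf s * gf t := by
  ext <;> simp [gf]

theorem eq_gf {y : Wd K} (hy : y ∈ Z1 K) : y = gf y.f := by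
  obtain ⟨a, b, c, d, e⟩ := hy
  ext <;> simp [gf, a, b, c, d, e]

theorem exists_rho (i : Function.Injective j) (hg : g ∈ nr j (Z1 K)) :
    ∃ ρ : k ≃+ k, ∀ s t, Cj j g (gf s) (gf t) → t = ρ s := by
  have h0 : ∀ t : k, ∃ r : k, Cj j g (gf t) (gf r) := fun t => by
    obtain ⟨y, hy, e⟩ := nr_cj hg (x := gf t) (by simp [gf])
    exact ⟨y.f, eq_gf hy ▸ e⟩
  choose r hr using h0
  have u : ∀ s t, Cj j g (gf s) (gf t) → t = r s := fun s t e =>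
    congrArg Wd.f (e.uniq i (hr s))
  let f : k →+ k := AddMonoidHom.mk' r fun s t => (u _ _ (by
    rw [gf_mul, gf_mul]; exact (hr s).mul (hr t))).symm
  have hf : Function.Injective f := fun s t e =>
    congrArg Wd.f ((hr s).symm.uniq i (z := gf t) (by rw [show r s = r t from e]; exact (hr t).symm))
  exact ⟨AddEquiv.ofBijective f (Finite.injective_iff_bijective.1 hf), u⟩

theorem sq_gf (h2 : (2 : k) = 0) {x : Wd K} (hx : x ∈ Q2 K) : x * x = gf (Qf (cV x)) := by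
  have h3 : (2 : K) = 0 := by
    have := congrArg (ι : k → K) h2
    rwa [map_ofNat, map_zero] at this
  have ha : x.a = 0 := hx
  ext
  · simp [gf, ha]
  · simp [gf, ← two_mul, h2]
  · simp [gf, ha, ← two_mul, h3]
  · simp [gf, ha, ← two_mul, h3]
  · simp [gf, ha, ← two_mul, h2]
  · simp only [gf, Qf, cV, Wd.mul_f, ha]
    simp
    rw [mul_comm x.d x.c]
    linear_combination (x.f - x.e * x.b) * h2

end VW

open VW

theorem coV8 (i : Function.Injective j) : Co j (Q2 K) cV :=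
  ⟨fun x hx y hy => by simp_all [cV], fun v => ⟨⟨0, v.1, v.2.1, v.2.2.1, v.2.2.2, 0⟩, rfl, rfl⟩,
    fun g hg x hx y _ e h => by
      have := e.mem i (nr_Z1 i hg) (by simp_all [cV])
      simp_all [cV]⟩
theorem acV8 (i : Function.Injective j) (w : Wd K) : Ac j (Q2 K) cV (j w) (uu w.a) :=
  ⟨self_nr fun x _ => Z4_le2 (comm_mem4 w x), fun x hx y _ e => by
    obtain rfl := e.uniq i (Cj.self w x)
    have ha : x.a = 0 := hx
    rw [uu_smul]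
    apply ext8 <;> simp only [uF, cV] <;> wds <;> (try simp only [ha]) <;> cb⟩
theorem cuV (F : Cf p j) : Cu p (HV F.inj) := by
  have o := coV8 F.inj
  refine ⟨?_, ?_⟩
  · have e : UU K = au F.inj (Q2 K) cV j.range := by
      ext h
      exact ⟨fun ⟨s, e⟩ => ⟨_, ⟨ga s, rfl⟩, e ▸ acV8 F.inj (ga s)⟩,
        fun ⟨_, ⟨w, rfl⟩, a⟩ => ⟨_, o.uniq a (acV8 F.inj w)⟩⟩
    rw [e]
    exact o.syl F (fn_of fun t x _ => Z4_le2 (comm_mem4 t x))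
  · rintro h ⟨g, -, a⟩
    obtain ⟨ρ, hρ⟩ := exists_rho F.inj (nr_Z1 F.inj a.1)
    refine ⟨ρ, fun v w => ?_, fun h2 v => ?_⟩
    · obtain ⟨x, hx, rfl⟩ := o.surj v
      obtain ⟨y, hy, rfl⟩ := o.surj w
      obtain ⟨x', hx', e⟩ := nr_cj a.1 hx
      obtain ⟨y', hy', e'⟩ := nr_cj a.1 hy
      rw [a.2 x hx x' hx' e, a.2 y hy y' hy' e']
      have := e.comm e'
      rw [comm_Q2 hx hy, comm_Q2 hx' hy'] at this
      exact hρ _ _ this
    · obtain ⟨x, hx, rfl⟩ := o.surj v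
      obtain ⟨x', hx', e⟩ := nr_cj a.1 hx
      rw [a.2 x hx x' hx' e]
      have := e.mul e
      rw [sq_gf h2 hx, sq_gf h2 hx'] at this
      exact hρ _ _ this
theorem mvV (F : Cf p j) (h : Mv2 j) : ¬ HV F.inj ≤ sb (G8 K) (Y1 K) := fun e =>
  h ((coV8 F.inj).nr_le (Z2_le.trans (Z3_le.trans Z4_le2)) y1 e)
theorem toV (i : Function.Injective j) (hg : g ∈ nr j ⊤) : ∃ h ∈ HV i, Ac j (Q2 K) cV g h ∧
    h ∈ sb (G8 K) (Y1 K) ∧ ∀ x y, Cj j g x y → h * uu x.a * h⁻¹ = uu y.a := by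
  obtain ⟨h, a⟩ := (coV8 i).exists_ac (top_Q2 i hg)
  refine ⟨h, ⟨g, trivial, a⟩, a, a.sb i (coV8 i) y1 (top_Z2 i hg), fun x y e => ?_⟩
  have b := (a.mul (acV8 i x)).mul a.inv
  rw [show g * j x * g⁻¹ = j y from e] at b
  exact (coV8 i).uniq b (acV8 i y)
theorem ofV (F : Cf p j) {h : G8 K} (a : Ac j (Q2 K) cV g h) (h1 : h ∈ sb (G8 K) (Y1 K)) :
    ∃ b ∈ nr j ⊤, Ac j (Q2 K) cV b h ∧ ∀ x ∈ Q2 K, ∀ y, Cj j g x y → Cj j b x y := by
  have h3 := (cuV F).sb3 ⟨g, trivial, a⟩ h1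
  obtain ⟨b, hb, e⟩ := ext2 F a.1 (a.nr (Z2_le.trans (Z3_le.trans Z4_le2)) y1 h1)
    (a.nr (Z3_le.trans Z4_le2) y3 h3)
  refine ⟨b, hb, ⟨top_Q2 F.inj hb, fun x hx y hy e' => ?_⟩, e⟩
  obtain ⟨y', hy', e2⟩ := nr_cj a.1 hx
  obtain rfl := e'.uniq F.inj (e x hx y' e2)
  exact a.2 x hx y hy e2
theorem es_mv2 (F : Cf p j) (h : Es p j (Q2 K)) : Mv2 j := fun h2 => es_mv2' F h h2 fun g hg => by
  obtain ⟨φ, a⟩ := (coV8 F.inj).exists_ac hg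
  exact a.nr (Z3_le.trans Z4_le2) y3
    ((cuV F).sb3 ⟨g, trivial, a⟩ (a.sb F.inj (coV8 F.inj) y1 (h2 hg)))
theorem Ab.t1 (i : Function.Injective j) {t : k} (ht : t ≠ 0) (a : Ab j g (ι t⁻¹) (t ^ 2)) :
    ∃ h ∈ HV i, T1 h t := by
  obtain ⟨α, hα⟩ := exists_aut i a.1
  have G := aut_gg α (l := ι t⁻¹) (m := t ^ 2) (ρ := 1) (fun x => (a.2 x _ (hα x)).1)
    fun x => by rw [rk_id]; exact (a.2 x _ (hα x)).2
  obtain ⟨h, hh, b, -, -⟩ := toV i a.1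
  have key : ∀ v : V8 K, ∃ x ∈ Q2 K, cV x = v ∧ h • v = cV (α x) := fun v => by
    obtain ⟨x, hx, rfl⟩ := (coV8 i).surj v
    exact ⟨x, hx, rfl, b.2 x hx _ ((aut_Q2 α x).2 hx) (hα x)⟩
  have e1 : (ι t⁻¹ : K) * ι t = 1 := by rw [← map_mul, inv_mul_cancel₀ ht, map_one]
  refine ⟨h, hh, fun v => ?_, fun v hv => ?_, fun v hv => ?_, fun v hv => ?_⟩
  · obtain ⟨x, hx, rfl, e⟩ := key v
    rw [e]; exact (a.2 x _ (hα x)).2
  · obtain ⟨x, hx, rfl, e⟩ := key v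
    have := G.c x ⟨hx, hv⟩
    rw [e]
    change (α x).c = ι t * x.c
    rw [this, dg_c, map_pow]
    change ι t⁻¹ * ι t ^ 2 * x.c = ι t * x.c
    linear_combination (ι t * x.c) * e1
  · obtain ⟨x, hx, rfl, e⟩ := key v
    have := G.d x ((y3 x hx).1 hv)
    rw [e]
    change (α x).d = x.d
    rw [this, dg_d, map_pow]
    change sh (ι t⁻¹) * ι t ^ 2 * x.d = x.d
    have e2 : sh (ι t⁻¹ : K) = ι t⁻¹ ^ 2 := by cb
    rw [e2]
    linear_combination (x.d * (ι t⁻¹ * ι t + 1)) * e1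
  · obtain ⟨x, hx, rfl, e⟩ := key v
    have := G.e x ((y1 x hx).1 hv)
    rw [e]
    change (α x).e = t⁻¹ * x.e
    rw [this, dg_e, rk_id]
    have e2 : N (ι t⁻¹ : K) = t⁻¹ ^ 3 := by cbk K
    rw [e2]
    field_simp
theorem has_tau (i : Function.Injective j) {l : K} {m : k} (a : ∀ x, Cj j g x (dg l m 1 x)) :
    Has (HV i) (tauF l m) := by
  have q : ∀ x ∈ Q2 K, dg l m 1 x ∈ Q2 K := fun x hx => by simp_all
  obtain ⟨h, b⟩ := (coV8 i).exists_ac (g := g) (mem_nr fun x hx => ⟨_, q x hx, a x⟩)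
  refine ⟨h, ⟨g, trivial, b⟩, fun v => ?_⟩
  obtain ⟨x, hx, rfl⟩ := (coV8 i).surj v
  rw [b.2 x hx _ (q x hx) (a x)]
  simp only [cV, tauF, dg_b, dg_c, dg_d, dg_e, rk_id]
  rfl
theorem Sl.aa (F : Cf p j) (h : Sl (HV F.inj)) :
    ∀ g ∈ nr j ⊤, ∃ (l : K) (ρ : K ≃+* K), l ≠ 0 ∧ Aa j g fun a => l * ρ a := fun g hg => by
  obtain ⟨f, hf, -, h1, e⟩ := toV F.inj hg
  obtain ⟨l, ρ, hl, e'⟩ := h f hf h1
  exact ⟨l, ρ, hl, hg, fun x y c => uu_inj ((e x y c).symm.trans (e' _))⟩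
theorem To.ab (F : Cf p j) (h : To (HV F.inj)) {l : K} (hl : l ≠ 0) : ∃ g, Ab j g (l ^ 2) (N l)⁻¹ := by
  obtain ⟨f, ⟨g, -, a⟩, h1, e1, e2⟩ := h l hl
  obtain ⟨b, hb, a', -⟩ := ofV F a h1
  obtain ⟨f', -, a'', -, e⟩ := toV F.inj hb
  obtain rfl := (coV8 F.inj).uniq a' a''
  refine ⟨b, hb, fun x y c => ⟨uu_inj ((e x y c).symm.trans (e1 _)), ?_⟩⟩
  obtain ⟨z, hz, c1⟩ := nr_cj (top_Q1 F.inj hb) (x := ga x.a) rfl
  have c2 := c.mul c1.inv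
  have hx : x * (ga x.a)⁻¹ ∈ Q2 K := by simp [ga]
  have := e2 (cV (x * (ga x.a)⁻¹))
  rw [a'.2 _ hx _ (c2.mem F.inj a'.1 hx) c2] at this
  have hz' : z.b = 0 := hz
  simpa [cV, ga, hz'] using this
theorem Ab.mul {g' : Γ} {l l' : K} {m m' : k} (a : Ab j g l m) (b : Ab j g' l' m') :
    Ab j (g * g') (l * l') (m * m') := by
  refine ⟨mul_mem a.1 b.1, fun x y e => ?_⟩
  obtain ⟨z, -, e1⟩ := nr_cj b.1 (mem_top x)
  have e2 : Cj j g z y := by simpa using e.trans e1.symm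
  rw [(a.2 z y e2).1, (a.2 z y e2).2, (b.2 x z e1).1, (b.2 x z e1).2]
  exact ⟨(mul_assoc _ _ _).symm, (mul_assoc _ _ _).symm⟩

end H69.T3
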