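import Mathlib
import Cfsg.Agent.Lib.T3F.Defs
import Cfsg.Agent.Lib.T3F.VW
import Cfsg.Agent.Lib.T3F.FL2

set_option autoImplicit false
set_option linter.unusedSectionVars false
set_option linter.unusedVariables false

namespace H69.T3

open H89.D4S Subgroup
open H93.SX hiding sh
open H68 (SylowIn)
open scoped commutatorElement

universe u

variable {k K : Type*} [Field k] [Field K] [Cub k K] [Finite k] [Finite K] [Fc K]
  {p : ℕ} [Fact p.Prime] [CharP K p] {Γ : Type u} [Group Γ] [Finite Γ] {j : Wd K →* Γ} {g : Γ}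
  {E : Subgroup (Wd K)} {Φ : Subgroup (K ≃+* K)}

namespace K2

theorem gf_mul (x y : Wd K) (s t : k) : x * gf s * (y * gf t) = x * y * gf (s + t) := by
  apply Wd.ext' <;> wds <;> simp only [gf] <;> cb

theorem gf_gf (x : Wd K) (s t : k) : x * gf s * gf t = x * gf (s + t) := by
  apply Wd.ext' <;> wds <;> simp only [gf] <;> cb

theorem gf_cancel {x : Wd K} {s t : k} (h : x * gf s = x * gf t) : s = t :=
  congrArg Wd.f (mul_left_cancel h)

theorem gf_mem (x : Wd K) (t : k) : na x * gf t ∈ Q2 K := mul_mem (na_mem x) rfl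

theorem cV_gf (x : Wd K) (hx : x ∈ Q2 K) (t : k) : cV (x * gf t) = cV x := by
  rw [mem_Q2] at hx
  simp [cV, gf, hx]

theorem conj_Q2 {s y : Wd K} (hs : s ∈ Q2 K) (hy : y ∈ Q2 K) :
    s * y * s⁻¹ = y * gf (Bf (cV s) (cV y)) := by
  rw [mem_Q2] at hs hy
  apply Wd.ext' <;> wds <;> simp only [gf, Bf, cV, hs, hy] <;> cb

theorem eq_gf {x y : Wd K} (hy : y ∈ Q2 K) (h : n0F (cV x) = cV y) :
    y = na x * gf (y.f - (na x).f) := by
  rw [mem_Q2] at hy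
  simp only [n0F, cV, Prod.mk.injEq] at h
  obtain ⟨h1, h2, h3, h4⟩ := h
  ext <;> simp [na, gf, hy, ← h1, ← h2, ← h3, ← h4]

theorem dg_na {l : K} (hl : l ≠ 0) (m : k) {x : Wd K} (t : k) :
    dg l⁻¹ (N l * m) 1 (na x * gf t) = na (dg l m 1 x) * gf (N l * m ^ 2 * t) := by
  have h1 : θ l ≠ 0 := (map_ne_zero _).2 hl
  have h2 : θ (θ l) ≠ 0 := (map_ne_zero _).2 h1
  have h3 : (ι (N l⁻¹) : K) = (l * θ l * θ (θ l))⁻¹ := by
    rw [ιN, map_inv₀, map_inv₀, mul_inv, mul_inv]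
  apply Wd.ext' <;>
    simp only [dg_a, dg_b, dg_c, dg_d, dg_e, dg_f, rk_id, RingAut.one_apply, Wd.mul_a, Wd.mul_b, Wd.mul_c,
      Wd.mul_d, Wd.mul_e, Wd.mul_f, na, gf] <;>
    (try simp only [map_add, map_sub, map_neg, map_mul, map_pow, map_one, map_zero, map_inv₀, h3, ιT, ιN, θι,
      θ3, sh, cr]) <;> (try field_simp) <;> (try ring)

/-- the defect of `g` against `na` -/
structure Df (j : Wd K →* Γ) (g : Γ) (ψ : Wd K → k) : Prop where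
  mem : g ∈ nr j (Q2 K)
  cj : ∀ x ∈ Q2 K, Cj j g x (na x * gf (ψ x))

variable {ψ : Wd K → k}

theorem Df.add (i : Function.Injective j) (D : Df j g ψ) {x y : Wd K} (hx : x ∈ Q2 K) (hy : y ∈ Q2 K) :
    ψ (x * y) = ψ x + ψ y := by
  have h := (D.cj _ (mul_mem hx hy)).uniq i ((D.cj x hx).mul (D.cj y hy))
  rw [gf_mul, ← na_mul hx hy] at h
  exact gf_cancel h

theorem Df.gf (i : Function.Injective j) (D : Df j g ψ) (t : k) : ψ (gf t) = 0 := by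
  have h1 := D.add i (x := gb 1) (y := ge t) rfl rfl
  have h2 := D.add i (x := ge t) (y := gb 1) rfl rfl
  have h3 := D.add i (x := ge t * gb 1) (y := T3.gf t) (mul_mem rfl rfl) rfl
  have h4 : (ge t * gb 1 * T3.gf t : Wd K) = gb 1 * ge t := by
    apply Wd.ext' <;> wds <;> simp only [T3.gf, gb, ge] <;> cb
  rw [h4, h1, h2] at h3
  linear_combination -h3

theorem Df.prod (i : Function.Injective j) (D : Df j g ψ) {x : Wd K} (hx : x ∈ Q2 K) :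
    ψ x = ψ (gb x.b) + ψ (gc x.c) + ψ (gd x.d) + ψ (ge x.e) := by
  have h : x = gb x.b * gc x.c * gd x.d * ge x.e * T3.gf x.f := by
    have := eq_prod x
    rwa [mem_Q2.1 hx, show (ga 0 : Wd K) = 1 from rfl, mul_one] at this
  have b : (gb x.b : Wd K) ∈ Q2 K := rfl
  have c : (gc x.c : Wd K) ∈ Q2 K := rfl
  have d : (gd x.d : Wd K) ∈ Q2 K := rfl
  have e : (ge x.e : Wd K) ∈ Q2 K := rfl
  conv_lhs => rw [h]
  rw [D.add i (mul_mem (mul_mem (mul_mem b c) d) e) rfl, D.add i (mul_mem (mul_mem b c) d) e,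
    D.add i (mul_mem b c) d, D.add i b c, D.gf i, add_zero]

theorem Df.tor (F : Cf p j) (e : Ex j Φ) (D : Df j g ψ) {l : K} (hl : l ≠ 0) {m : k} (hm : m ≠ 0) :
    ∃ s : V8 K, ∀ x ∈ Q2 K, ψ (dg l m 1 x) = N l * m ^ 2 * ψ x + Bf s (n0F (cV (dg l m 1 x))) := by
  have i := F.inj
  have q : ∀ (l : K) (m : k), ∀ x ∈ Q2 K, dg l m 1 x ∈ Q2 K := fun l m x hx => by
    rw [mem_Q2] at hx ⊢; simp [hx]
  obtain ⟨t, ht⟩ := e.ex l hl m hm 1 (one_mem _)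
  obtain ⟨t', ht'⟩ := e.ex l⁻¹ (inv_ne_zero hl) (N l * m) (mul_ne_zero (N_ne hl) hm) 1 (one_mem _)
  have n1 : t ∈ nr j (Q2 K) := mem_nr fun x hx => ⟨_, q _ _ x hx, ht x⟩
  have n2 : t' ∈ nr j (Q2 K) := mem_nr fun x hx => ⟨_, q _ _ x hx, ht' x⟩
  have k1 : ∀ x ∈ Q2 K, Cj j (t' * g) x (na (dg l m 1 x) * T3.gf (N l * m ^ 2 * ψ x)) := fun x hx => by
    rw [← dg_na hl]; exact (ht' _).trans (D.cj x hx)
  have k2 : ∀ x ∈ Q2 K, Cj j (g * t * (t' * g)⁻¹) (na (dg l m 1 x) * T3.gf (N l * m ^ 2 * ψ x))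
      (na (dg l m 1 x) * T3.gf (ψ (dg l m 1 x))) := fun x hx =>
    ((D.cj _ (q l m x hx)).trans (ht x)).trans (k1 x hx).symm
  obtain ⟨s, hs, h⟩ := inn2 F (g := g * t * (t' * g)⁻¹)
    (mul_mem (mul_mem D.mem n1) (inv_mem (mul_mem n2 D.mem))) (fun y hy z hz => by
      obtain ⟨x, hx, e1⟩ := nr_cj' (mul_mem n2 D.mem) hy
      obtain rfl := e1.uniq i (k1 x hx)
      obtain rfl := hz.uniq i (k2 x hx)
      rw [cV_gf _ (na_mem _), cV_gf _ (na_mem _)])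
  refine ⟨cV s, fun x hx => ?_⟩
  have := (k2 x hx).uniq i (h _ (gf_mem _ _))
  rw [conj_Q2 hs (gf_mem _ _), gf_gf, cV_gf _ (na_mem _)] at this
  exact gf_cancel this

theorem Df.cd (F : Cf p j) (e : Ex j Φ) (D : Df j g ψ) :
    ∃ u v : K, (∀ c, ψ (gc c) = T (u * c)) ∧ ∀ d, ψ (gd d) = T (v * d) := by
  obtain ⟨l, h1, h2, h3⟩ := exists_norm_one (K := K)
  have hl : l ≠ 0 := by rintro rfl; simp at h1
  obtain ⟨s, hs⟩ := D.tor F e hl one_ne_zero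
  have h4 : l - 1 ≠ 0 := sub_ne_zero.2 h2
  have h5 : sh l - 1 ≠ 0 := sub_ne_zero.2 h3
  refine ⟨-(s.2.1 * l * (l - 1)⁻¹), -(s.2.2.1 * sh l * (sh l - 1)⁻¹), fun c => ?_, fun d => ?_⟩
  · obtain ⟨c, rfl⟩ : ∃ c', c = (l - 1) * c' := ⟨(l - 1)⁻¹ * c, by field_simp⟩
    have a1 := hs (gc c) rfl
    have a2 := D.add F.inj (x := gc ((l - 1) * c)) (y := gc c) rfl rfl
    have a3 : dg l (1 : k) 1 (gc c) = gc ((l - 1) * c) * gc c := by
      ext <;> simp [gc]; ring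
    have a4 : Bf s (n0F (cV (dg l (1 : k) 1 (gc c)))) = T (-(s.2.1 * l * (l - 1)⁻¹) * ((l - 1) * c)) := by
      rw [show -(s.2.1 * l * (l - 1)⁻¹) * ((l - 1) * c) = -(s.2.1 * (l * c)) by field_simp]
      simp [Bf, n0F, cV, gc]
    rw [a4, a3, a2, h1] at a1
    linear_combination a1
  · obtain ⟨d, rfl⟩ : ∃ d', d = (sh l - 1) * d' := ⟨(sh l - 1)⁻¹ * d, by field_simp⟩
    have a1 := hs (gd d) rfl
    have a2 := D.add F.inj (x := gd ((sh l - 1) * d)) (y := gd d) rfl rfl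
    have a3 : dg l (1 : k) 1 (gd d) = gd ((sh l - 1) * d) * gd d := by
      ext <;> simp [gd]; ring
    have a4 : Bf s (n0F (cV (dg l (1 : k) 1 (gd d)))) =
        T (-(s.2.2.1 * sh l * (sh l - 1)⁻¹) * ((sh l - 1) * d)) := by
      rw [show -(s.2.2.1 * sh l * (sh l - 1)⁻¹) * ((sh l - 1) * d) = -(s.2.2.1 * (sh l * d)) by field_simp]
      simp [Bf, n0F, cV, gd]
    rw [a4, a3, a2, h1] at a1
    linear_combination a1

theorem Df.be (F : Cf p j) (e : Ex j Φ) (D : Df j g ψ) :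
    ∃ u v : k, (∀ b, ψ (gb b) = u * b) ∧ ∀ t, ψ (ge t) = v * t := by
  by_cases h : ∃ t : k, t ≠ 0 ∧ t ≠ 1
  · obtain ⟨t, h0, h1⟩ := h
    obtain ⟨l, hl⟩ := N_surj (K := K) t
    obtain ⟨l', hl'⟩ := N_surj (K := K) t⁻¹
    have n : l ≠ 0 := by rintro rfl; exact h0 (by simpa using hl.symm)
    have n' : l' ≠ 0 := by rintro rfl; exact h0 (by simpa using hl'.symm)
    obtain ⟨s, hs⟩ := D.tor F e n one_ne_zero
    obtain ⟨s', hs'⟩ := D.tor F e n' h0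
    have h2 : 1 - t ≠ 0 := sub_ne_zero.2 h1.symm
    refine ⟨-s.1 / (1 - t), -s'.2.2.2 / (1 - t), fun b => ?_, fun b => ?_⟩
    · have a1 := hs (gb b) rfl
      have a3 : dg l (1 : k) 1 (gb b) = gb b := by ext <;> simp [gb]
      have a4 : Bf s (n0F (cV (gb b : Wd K))) = -s.1 * b := by simp [Bf, n0F, cV, gb]
      rw [a3, a4, hl] at a1
      field_simp
      linear_combination a1
    · have a1 := hs' (ge b) rfl
      have a3 : dg l' t 1 (ge b) = ge b := by ext <;> simp [ge, hl', h0]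
      have a4 : Bf s' (n0F (cV (ge b : Wd K))) = -s'.2.2.2 * b := by simp [Bf, n0F, cV, ge]
      rw [a3, a4, hl', show t⁻¹ * t ^ 2 = t by field_simp] at a1
      field_simp
      linear_combination a1
  · push Not at h
    have z : ψ 1 = 0 := D.gf F.inj 0
    refine ⟨ψ (gb 1), ψ (ge 1), fun b => ?_, fun b => ?_⟩ <;> by_cases hb : b = 0
    · rw [hb, mul_zero]; exact z
    · rw [h b hb, mul_one]
    · rw [hb, mul_zero]; exact z
    · rw [h b hb, mul_one]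

end K2

open K2

theorem k2 (F : Cf p j) (e : Ex j Φ) {h : G8 K} (a : Ac j (Q2 K) cV g h) (hn : ∀ v : V8 K, h • v = n0F v) :
    ∃ n, Ac j (Q2 K) cV n h ∧ ∀ x ∈ Q2 K, Cj j n x (na x) := by
  have h0 : ∀ x : Wd K, ∃ t, x ∈ Q2 K → Cj j g x (na x * gf t) := fun x => by
    by_cases hx : x ∈ Q2 K
    · obtain ⟨y, hy, e⟩ := nr_cj a.1 hx
      exact ⟨_, fun _ => eq_gf hy (hn _ ▸ a.2 x hx y hy e) ▸ e⟩
    · exact ⟨0, fun h => (hx h).elim⟩
  choose ψ hψ using h0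
  have D : Df j g ψ := ⟨a.1, hψ⟩
  obtain ⟨uc, ud, hc, hd⟩ := D.cd F e
  obtain ⟨ub, ue, hb, he⟩ := D.be F e
  refine ⟨j ⟨0, ub, uc, ud, ue, 0⟩ * g, ?_, fun x hx => ?_⟩
  · have := (acV8 F.inj ⟨0, ub, uc, ud, ue, 0⟩).mul a
    rwa [uu_zero, one_mul] at this
  · have := (Cj.self (ι := j) ⟨0, ub, uc, ud, ue, 0⟩ _).trans (hψ x hx)
    rw [conj_Q2 rfl (gf_mem _ _), gf_gf, cV_gf _ (na_mem _), D.prod F.inj hx, hb, hc, hd, he] at this
    convert this using 1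
    rw [eq_comm, mul_eq_left]
    ext <;> simp [gf, Bf, cV, na]
    ring

theorem bq2 (F : Cf p j) (e : Ex j Φ) (h : Br (HV F.inj)) : Bq j (Q2 K) na := by
  obtain ⟨n0, ⟨g0, -, a0⟩, hn, hd⟩ := h
  obtain ⟨n, an, hc⟩ := k2 F e a0 hn
  refine ⟨n, hc, fun g hg => ?_⟩
  obtain ⟨φ, a⟩ := (coV8 F.inj).exists_ac hg
  rcases hd φ ⟨g, trivial, a⟩ with h1 | ⟨t, h1⟩
  · obtain ⟨b, hb, -, h2⟩ := ofV F a h1
    exact ⟨b, hb, Or.inl h2⟩
  · obtain ⟨b, hb, -, h2⟩ := ofV F ((an.inv.mul (acV8 F.inj (ga t))).mul a) h1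
    refine ⟨b, hb, Or.inr ⟨(ga t)⁻¹, fun x hx y e1 => ?_⟩⟩
    have hy := e1.mem F.inj hg hx
    obtain ⟨z, hz, e2⟩ := nr_cj' an.1 ((inferInstance : (Q2 K).Normal).conj_mem y hy (ga t))
    have e3 := h2 x hx z ((e2.symm.trans (Cj.self (ga t) y)).trans e1)
    have e4 := (Cj.self (ι := j) (ga t) y).symm
    rw [← map_inv] at e4
    exact (e4.trans e2).trans e3

end H69.T3
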