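import Mathlib
import Cfsg.Agent.Lib.T3F.Defs
import Cfsg.Agent.Lib.Twist.MultD4b
import Cfsg.Agent.Lib.Twist.D4Mat
import Cfsg.Agent.Lib.Twist.AutMat

/-! # The unipotent group of `³D₄(q)` inside `D₄(q³)`: interfaces -/

set_option autoImplicit false
set_option linter.unusedSectionVars false
set_option linter.unusedVariables false

namespace H69.T3

open H89.D4S Subgroup H93.SX
open scoped commutatorElement

/-- the sums of two positive roots, numbered as in `H39.vtD4` -/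
def l16 : List (Fin 12 × Fin 12 × Fin 12) :=
  [(8, 11, 5), (9, 11, 6), (10, 11, 7), (9, 7, 2), (10, 6, 2), (8, 7, 3), (10, 5, 3), (8, 6, 4), (9, 5, 4),
    (8, 2, 1), (9, 3, 1), (10, 4, 1), (11, 1, 0), (2, 5, 0), (3, 6, 0), (4, 7, 0)]

/-- the commutator relations of the positive root elements of type `D₄` -/
structure Y12 {K G : Type*} [Field K] [Group G] (y : Fin 12 → K → G) : Prop where
  add : ∀ i t u, y i (t + u) = y i t * y i u
  cm : ∀ i j, (∀ l, (i, j, l) ∉ l16 ∧ (j, i, l) ∉ l16) → ∀ t u, Commute (y i t) (y j u)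
  nc : ∀ i j l, (i, j, l) ∈ l16 → ∀ t u, ⁅y i t, y j u⁆ = y l (t * u)

/-- the values of `φ` on the root elements -/
structure Ph {k K G : Type*} [Field k] [Field K] [Cub k K] [Group G] (y : Fin 12 → K → G) (φ : Wd K → G) : Prop where
  a : ∀ t, φ (ga t) = y 8 t * (y 9 (θ t) * y 10 (θ (θ t)))
  b : ∀ t, φ (gb t) = y 11 (ι t)
  c : ∀ t, φ (gc t) = y 5 t * (y 6 (θ t) * y 7 (θ (θ t)))
  d : ∀ t, φ (gd t) = y 2 t * (y 3 (θ t) * y 4 (θ (θ t)))
  e : ∀ t, φ (ge t) = y 1 (ι t)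
  f : ∀ t, φ (gf t) = y 0 (ι t)

/-- positive roots with signs -/
structure Sg {I : Type} {R : H38.RS I (Fin 4)} {K G : Type*} [Field K] [Group G] (El : H38.Elts R K G)
    (r : Fin 12 → I) (ε : Fin 12 → K) : Prop where
  rt : ∀ i, R.rt (r i) = H39.vtD4 i
  sgn : ∀ i, ε i = 1 ∨ ε i = -1
  sim : ε 8 = 1 ∧ ε 9 = 1 ∧ ε 10 = 1 ∧ ε 11 = 1
  rel : Y12 fun i t => El.x (r i) (ε i * t)

/-- the embedding of `Wd K` in the twisted group -/
structure Mo {I : Type} [Finite I] {R : H38.RS I (Fin 4)} {k K G : Type*} [Field k] [Field K] [Cub k K] [Group G]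
    {El : H38.Elts R K G} (Tw : H39.Tw El) (r : Fin 12 → I) (ε : Fin 12 → K) (φ : Wd K →* Tw.Γ) : Prop where
  sg : Sg El r ε
  ph : Ph (fun i t => El.x (r i) (ε i * t)) fun x => (φ x : G)
  inj : Function.Injective φ
  rng : ∀ g : Tw.Γ, g ∈ φ.range ↔ (g : G) ∈ El.U

theorem auto_lemmas_T3M : True := by
  have := @l16.eq_1
  trivial

end H69.T3
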