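import Mathlib
import Cfsg.Agent.Lib.T3F.Defs
import Cfsg.Agent.Lib.T3F.MDefs

set_option autoImplicit false
set_option linter.unusedSectionVars false
set_option linter.unusedVariables false

namespace H69.T3

open H89.D4S Subgroup
open H93.SX hiding sh
open H68 (SylowIn)
open scoped commutatorElement

namespace MA

section
variable {G : Type*} [Group G]

theorem cj {a w p : G} (h : ⁅a, w⁆ = p) : a * w * a⁻¹ = p * w := by
  rw [← h, commutatorElement_def]; group

theorem two {a b w p q m m' : G} (c : Commute a b) (h1 : ⁅a, w⁆ = p) (h2 : ⁅b, w⁆ = q)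
    (h3 : ⁅a, q⁆ = m) (h4 : ⁅b, p⁆ = m') (d : Commute p q) : m' = m := by
  have e1 : a * (b * w * b⁻¹) * a⁻¹ = m * q * (p * w) := by
    rw [cj h2, ← conj_mul, cj h3, cj h1]
  have e2 : b * (a * w * a⁻¹) * b⁻¹ = m' * p * (q * w) := by
    rw [cj h1, ← conj_mul, cj h4, cj h2]
  have e3 : a * (b * w * b⁻¹) * a⁻¹ = b * (a * w * a⁻¹) * b⁻¹ := by
    calc a * (b * w * b⁻¹) * a⁻¹ = (a * b) * w * (a * b)⁻¹ := by group
      _ = (b * a) * w * (b * a)⁻¹ := by rw [c.eq]
      _ = _ := by group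
  rw [e1, e2, mul_assoc, mul_assoc, ← mul_assoc q, ← mul_assoc p, d.eq] at e3
  exact (mul_right_cancel e3).symm

theorem thr {a v w n p z z' : G} (c : Commute v w) (h1 : ⁅a, v⁆ = n) (h2 : ⁅a, w⁆ = p)
    (h3 : ⁅w, n⁆ = z) (h4 : ⁅v, p⁆ = z') (d : Commute n p) (d1 : Commute n z') (d2 : Commute p z) :
    z' = z := by
  have e1 : n * v * (p * w) = p * w * (n * v) := by
    rw [← cj h1, ← cj h2, conj_mul, conj_mul, c.eq]
  have e2 : v * p = z' * p * v := by rw [← cj h4]; group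
  have e3 : w * n = z * n * w := by rw [← cj h3]; group
  have e4 : n * z' * p * (v * w) = p * z * n * (v * w) := by
    calc n * z' * p * (v * w) = n * (z' * p * v) * w := by group
      _ = n * v * (p * w) := by rw [← e2]; group
      _ = p * (w * n) * v := by rw [e1]; group
      _ = p * z * n * (w * v) := by rw [e3]; group
      _ = _ := by rw [c.eq]
  have e5 := mul_right_cancel e4
  rw [d1.eq, d2.eq, mul_assoc, mul_assoc, d.eq] at e5
  exact mul_right_cancel e5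

end

theorem y12 {K G : Type*} [Field K] [Group G] {y : Fin 12 → K → G}
    (add : ∀ i t u, y i (t + u) = y i t * y i u) (inj : ∀ i t u, y i t = y i u → t = u)
    (cm : ∀ i j, (∀ l, (i, j, l) ∉ l16 ∧ (j, i, l) ∉ l16) → ∀ t u, Commute (y i t) (y j u))
    (s : Fin 12 → Fin 12 → K) (nc : ∀ i j l, (i, j, l) ∈ l16 → ∀ t u, ⁅y i t, y j u⁆ = y l (s i j * (t * u)))
    (s5 : s 8 11 = 1) (s6 : s 9 11 = 1) (s7 : s 10 11 = 1) (s2 : s 9 7 = 1) (s3 : s 8 7 = 1)
    (s4 : s 8 6 = 1) (s1 : s 8 2 = 1) (s0 : s 11 1 = 1) : Y12 y := by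
  have n1 : ∀ i j l, (i, j, l) ∈ l16 → ⁅y i 1, y j 1⁆ = y l (s i j) := fun i j l h => by
    rw [nc i j l h, mul_one, mul_one]
  have n2 : ∀ i j l, (i, j, l) ∈ l16 → s i j = 1 → ⁅y i 1, y j 1⁆ = y l 1 := fun i j l h e => by
    rw [n1 i j l h, e]
  have a5 := n2 8 11 5 (by decide) s5
  have a6 := n2 9 11 6 (by decide) s6
  have a7 := n2 10 11 7 (by decide) s7
  have a2 := n2 9 7 2 (by decide) s2
  have a3 := n2 8 7 3 (by decide) s3
  have a4 := n2 8 6 4 (by decide) s4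
  have a1 := n2 8 2 1 (by decide) s1
  have a0 := n2 11 1 0 (by decide) s0
  have t2 : s 10 6 = 1 := inj 2 _ _
    (two (cm 9 10 (by decide) 1 1) a6 a7 a2 (n1 10 6 2 (by decide)) (cm 6 7 (by decide) 1 1))
  have t3 : s 10 5 = 1 := inj 3 _ _
    (two (cm 8 10 (by decide) 1 1) a5 a7 a3 (n1 10 5 3 (by decide)) (cm 5 7 (by decide) 1 1))
  have t4 : s 9 5 = 1 := inj 4 _ _
    (two (cm 8 9 (by decide) 1 1) a5 a6 a4 (n1 9 5 4 (by decide)) (cm 5 6 (by decide) 1 1))
  have u3 : s 9 3 = 1 := inj 1 _ _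
    (two (cm 8 9 (by decide) 1 1) a3 a2 a1 (n1 9 3 1 (by decide)) (cm 3 2 (by decide) 1 1))
  have u4 : s 10 4 = 1 := inj 1 _ _
    (two (cm 8 10 (by decide) 1 1) a4 (n2 10 6 2 (by decide) t2) a1 (n1 10 4 1 (by decide))
      (cm 4 2 (by decide) 1 1))
  have v2 : s 2 5 = 1 := inj 0 _ _
    (thr (cm 2 11 (by decide) 1 1) a1 a5 a0 (n1 2 5 0 (by decide)) (cm 1 5 (by decide) 1 1)
      (cm 1 0 (by decide) _ _) (cm 5 0 (by decide) _ _))
  have v3 : s 3 6 = 1 := inj 0 _ _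
    (thr (cm 3 11 (by decide) 1 1) (n2 9 3 1 (by decide) u3) a6 a0 (n1 3 6 0 (by decide))
      (cm 1 6 (by decide) 1 1) (cm 1 0 (by decide) _ _) (cm 6 0 (by decide) _ _))
  have v4 : s 4 7 = 1 := inj 0 _ _
    (thr (cm 4 11 (by decide) 1 1) (n2 10 4 1 (by decide) u4) a7 a0 (n1 4 7 0 (by decide))
      (cm 1 7 (by decide) 1 1) (cm 1 0 (by decide) _ _) (cm 7 0 (by decide) _ _))
  refine ⟨add, cm, fun i j l h t u => ?_⟩
  have e : s i j = 1 := by
    simp only [l16, List.mem_cons, Prod.mk.injEq, List.not_mem_nil, or_false] at h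
    rcases h with h | h | h | h | h | h | h | h | h | h | h | h | h | h | h | h <;>
      obtain ⟨rfl, rfl, rfl⟩ := h <;> assumption
  rw [nc i j l h, e, one_mul]

theorem pm_mul {K : Type*} [Field K] {a b : K} (ha : a = 1 ∨ a = -1) (hb : b = 1 ∨ b = -1) :
    a * b = 1 ∨ a * b = -1 := by
  rcases ha with rfl | rfl <;> rcases hb with rfl | rfl <;> simp

theorem pm_sq {K : Type*} [Field K] {a : K} (ha : a = 1 ∨ a = -1) : a * a = 1 := by
  rcases ha with rfl | rfl <;> simp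

end MA

open MA H39 in
theorem exists_sg {I : Type} [Finite I] {R : H38.RS I (Fin 4)} {K G : Type*} [Field K] [Fintype K] [Group G]
    {El : H38.Elts R K G} {Tw : H39.Tw El} {q : ℕ} (h : H39.IsD4 Tw q) : ∃ r ε, Sg El r ε := by
  set r := rD4 Tw with hr
  have rt : ∀ i, R.rt (r i) = vtD4 i := fun i => by
    fin_cases i <;> simp only [hr, rD4, Fin.reduceFinMk, Matrix.cons_val, h.wo0, h.wo1, h.rt_s, R.rt_sim] <;>
      decide +kernel
  set η : Fin 12 → Fin 12 → K := fun i j => (El.η (r i) (r j) : K) with hη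
  have ηs : ∀ i j, η i j = 1 ∨ η i j = -1 := fun i j => by
    rcases El.η_sign (r i) (r j) with e | e <;> simp [hη, e]
  have nc : ∀ i j l, (i, j, l) ∈ l16 → ∀ t u, ⁅El.x (r i) t, El.x (r j) u⁆ = El.x (r l) (η i j * t * u) := by
    intro i j l hl t u
    have hp : pr aD4 (vtD4 i) (vtD4 j) = -1 ∧ vtD4 l = vtD4 i + vtD4 j := by
      revert i j l
      decide +kernel
    have h1 : R.pair (r i) (r j) = -1 := by rw [h.pair_eq, rt, rt, hp.1]
    have h2 := comm_x h.len_eq Tw.hF h1 t u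
    rwa [show R.refl (r i) (r j) = r l from R.rt_inj (by
      rw [R.rt_refl, h1, rt, rt, rt, hp.2]; module)] at h2
  let ε : Fin 12 → K := ![η 11 1 * (η 8 2 * (η 9 7 * η 10 11)), η 8 2 * (η 9 7 * η 10 11), η 9 7 * η 10 11,
    η 8 7 * η 10 11, η 8 6 * η 9 11, η 8 11, η 9 11, η 10 11, 1, 1, 1, 1]
  have εs : ∀ i, ε i = 1 ∨ ε i = -1 := fun i => by
    fin_cases i
    · exact pm_mul (ηs _ _) (pm_mul (ηs _ _) (pm_mul (ηs _ _) (ηs _ _)))
    · exact pm_mul (ηs _ _) (pm_mul (ηs _ _) (ηs _ _))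
    · exact pm_mul (ηs _ _) (ηs _ _)
    · exact pm_mul (ηs _ _) (ηs _ _)
    · exact pm_mul (ηs _ _) (ηs _ _)
    · exact ηs _ _
    · exact ηs _ _
    · exact ηs _ _
    all_goals exact Or.inl rfl
  let tg : Fin 12 → Fin 12 → Fin 12 := fun i j => ((l16.find? fun x => x.1 = i ∧ x.2.1 = j).map fun x => x.2.2).getD 0
  have htg : ∀ i j l, (i, j, l) ∈ l16 → tg i j = l := by decide +kernel
  have key : ∀ i j l, (i, j, l) ∈ l16 → ε l = η i j * (ε i * ε j) → ε (tg i j) * (η i j * (ε i * ε j)) = 1 :=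
    fun i j l hl e => by rw [htg i j l hl, ← e, pm_sq (εs l)]
  refine ⟨r, ε, rt, εs, ⟨rfl, rfl, rfl, rfl⟩, y12 (fun i t u => by rw [mul_add, El.x_add])
    (fun i t u e => ?_) (fun i j hij t u => commute_x h.len_eq El (by
      rw [h.pair_eq, rt, rt]
      revert i j
      decide +kernel) _ _) (fun i j => ε (tg i j) * (η i j * (ε i * ε j))) (fun i j l hl t u => ?_)
    (key 8 11 5 (by decide) ?_) (key 9 11 6 (by decide) ?_) (key 10 11 7 (by decide) ?_)
    (key 9 7 2 (by decide) ?_) (key 8 7 3 (by decide) ?_) (key 8 6 4 (by decide) ?_)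
    (key 8 2 1 (by decide) ?_) (key 11 1 0 (by decide) ?_)⟩
  · have e1 := Tw.hF.x_inj _ e
    have e2 : ε i ≠ 0 := fun e0 => by
      have := pm_sq (εs i)
      rw [e0, mul_zero] at this
      exact zero_ne_one this
    exact mul_left_cancel₀ e2 e1
  · rw [nc i j l hl, htg i j l hl]
    congr 1
    linear_combination (-(η i j * (ε i * t) * (ε j * u))) * pm_sq (εs l)
  all_goals simp [ε]

end H69.T3
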