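import Mathlib
import Cfsg.Agent.Lib.T3F.Defs
import Cfsg.Agent.Lib.T3F.MDefs

set_option autoImplicit false
set_option linter.unusedSectionVars false
set_option linter.unusedVariables false

namespace H69.T3

open H89.D4S Subgroup
open H93.SX hiding sh
open H68 (SylowIn)
open scoped commutatorElement

namespace MB

variable {K G : Type*} [Field K] [Group G] {y : Fin 12 → K → G} (h : Y12 y)

theorem ext12 {a0 a1 a2 a3 a4 a5 a6 a7 a8 a9 a10 a11 b0 b1 b2 b3 b4 b5 b6 b7 b8 b9 b10 b11 : K}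
    (e11 : a11 = b11) (e5 : a5 = b5) (e6 : a6 = b6) (e7 : a7 = b7) (e2 : a2 = b2) (e3 : a3 = b3) (e4 : a4 = b4)
    (e1 : a1 = b1) (e0 : a0 = b0) (e8 : a8 = b8) (e9 : a9 = b9) (e10 : a10 = b10) :
    y 11 a11 * (y 5 a5 * (y 6 a6 * (y 7 a7 * (y 2 a2 * (y 3 a3 * (y 4 a4 * (y 1 a1 * (y 0 a0 * (y 8 a8 *
      (y 9 a9 * (y 10 a10 * 1))))))))))) =
    y 11 b11 * (y 5 b5 * (y 6 b6 * (y 7 b7 * (y 2 b2 * (y 3 b3 * (y 4 b4 * (y 1 b1 * (y 0 b0 * (y 8 b8 *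
      (y 9 b9 * (y 10 b10 * 1))))))))))) := by
  subst_vars; rfl

include h

theorem zr (i : Fin 12) : y i 0 = 1 := by
  have := h.add i 0 0
  rw [add_zero] at this
  exact (mul_eq_left.1 this.symm)

theorem ad (i : Fin 12) (t u : K) (z : G) : y i t * (y i u * z) = y i (t + u) * z := by
  rw [h.add, mul_assoc]

theorem sw (i j : Fin 12) (hp : ∀ l, (i, j, l) ∉ l16 ∧ (j, i, l) ∉ l16 := by decide +kernel) (t u : K) (z : G) :
    y i t * (y j u * z) = y j u * (y i t * z) :=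
  (h.cm i j hp t u).left_comm z

theorem n1 (i j l : Fin 12) (hp : (i, j, l) ∈ l16 := by decide +kernel) (t u : K) (z : G) :
    y i t * (y j u * z) = y l (t * u) * (y j u * (y i t * z)) := by
  rw [← h.nc i j l hp, commutatorElement_def]; group

theorem n2 (i j l : Fin 12) (hp : (j, i, l) ∈ l16 := by decide +kernel) (t u : K) (z : G) :
    y i t * (y j u * z) = y l (-(u * t)) * (y j u * (y i t * z)) := by
  have e : y l (-(u * t)) = (y l (u * t))⁻¹ :=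
    eq_inv_of_mul_eq_one_left (by rw [← h.add, neg_add_cancel, zr h])
  rw [e, ← h.nc j i l hp, commutatorElement_def]; group

/-- the product of two words in normal form -/
theorem mul12 (a0 a1 a2 a3 a4 a5 a6 a7 a8 a9 a10 a11 b0 b1 b2 b3 b4 b5 b6 b7 b8 b9 b10 b11 : K) :
    y 11 a11 * (y 5 a5 * (y 6 a6 * (y 7 a7 * (y 2 a2 * (y 3 a3 * (y 4 a4 * (y 1 a1 * (y 0 a0 * (y 8 a8 *
      (y 9 a9 * (y 10 a10 * 1))))))))))) *
    (y 11 b11 * (y 5 b5 * (y 6 b6 * (y 7 b7 * (y 2 b2 * (y 3 b3 * (y 4 b4 * (y 1 b1 * (y 0 b0 * (y 8 b8 *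
      (y 9 b9 * (y 10 b10 * 1)))))))))))) =
    y 11 (a11 + b11) * (y 5 (a5 + b5 + a8 * b11) * (y 6 (a6 + b6 + a9 * b11) * (y 7 (a7 + b7 + a10 * b11) *
      (y 2 (a2 + b2 + a9 * b7 + a10 * b6 + a9 * a10 * b11) * (y 3 (a3 + b3 + a8 * b7 + a10 * b5 + a8 * a10 * b11) *
      (y 4 (a4 + b4 + a8 * b6 + a9 * b5 + a8 * a9 * b11) *
      (y 1 (a1 + b1 + a8 * b2 + a9 * b3 + a10 * b4 + a9 * a10 * b5 + a8 * a10 * b6 + a8 * a9 * b7 +
        a8 * a9 * a10 * b11) *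
      (y 0 (a0 + b0 + b11 ^ 2 * a8 * a9 * a10 + a8 * b6 * b7 + a9 * b5 * b7 + a10 * b5 * b6 +
        b11 * (a9 * a10 * b5 + a8 * a10 * b6 + a8 * a9 * b7) - a1 * b11 + a2 * (b5 + b11 * a8) +
        a3 * (b6 + b11 * a9) + a4 * (b7 + b11 * a10)) *
      (y 8 (a8 + b8) * (y 9 (a9 + b9) * (y 10 (a10 + b10) * 1))))))))))) := by
  simp only [mul_assoc, one_mul, ad h,
    sw h 5 11, sw h 6 11, sw h 6 5, sw h 7 11, sw h 7 5, sw h 7 6, sw h 2 11, n1 h 2 5 0, sw h 2 6, sw h 2 7,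
    sw h 3 11, sw h 3 5, n1 h 3 6 0, sw h 3 7, sw h 3 2, sw h 4 11, sw h 4 5, sw h 4 6, n1 h 4 7 0, sw h 4 2,
    sw h 4 3, n2 h 1 11 0, sw h 1 5, sw h 1 6, sw h 1 7, sw h 1 2, sw h 1 3, sw h 1 4, sw h 0 11, sw h 0 5,
    sw h 0 6, sw h 0 7, sw h 0 2, sw h 0 3, sw h 0 4, sw h 0 1, n1 h 8 11 5, sw h 8 5, n1 h 8 6 4, n1 h 8 7 3,
    n1 h 8 2 1, sw h 8 3, sw h 8 4, sw h 8 1, sw h 8 0, n1 h 9 11 6, n1 h 9 5 4, sw h 9 6, n1 h 9 7 2,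
    sw h 9 2, n1 h 9 3 1, sw h 9 4, sw h 9 1, sw h 9 0, sw h 9 8, n1 h 10 11 7, n1 h 10 5 3, n1 h 10 6 2,
    sw h 10 7, sw h 10 2, sw h 10 3, n1 h 10 4 1, sw h 10 1, sw h 10 0, sw h 10 8, sw h 10 9]
  apply ext12 <;> ring

end MB

theorem Y12.hom {k K G : Type*} [Field k] [Field K] [Cub k K] [Group G] {y : Fin 12 → K → G} (h : Y12 y) :
    ∃ φ : Wd K →* G, Ph y φ := by
  refine ⟨MonoidHom.mk' (fun u => y 11 (ι u.b) * (y 5 u.c * (y 6 (θ u.c) * (y 7 (θ (θ u.c)) * (y 2 u.d *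
    (y 3 (θ u.d) * (y 4 (θ (θ u.d)) * (y 1 (ι u.e) * (y 0 (ι u.f) * (y 8 u.a * (y 9 (θ u.a) *
    (y 10 (θ (θ u.a)) * 1)))))))))))) fun u v => ?_, ?_⟩
  · rw [MB.mul12 h]
    apply MB.ext12 <;> wds <;> cb
  · constructor <;> intro t <;>
      simp only [MonoidHom.mk'_apply, ga, gb, gc, gd, ge, gf, map_zero, MB.zr h, one_mul, mul_one]

end H69.T3
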