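import Mathlib
import Cfsg.Agent.Lib.T3F.Defs
import Cfsg.Agent.Lib.T3F.MDefs
import Cfsg.Agent.Lib.T3F.MA
import Cfsg.Agent.Lib.T3F.MB

set_option autoImplicit false
set_option linter.unusedSectionVars false
set_option linter.unusedVariables false

namespace H69.T3

open H89.D4S Subgroup
open H93.SX hiding sh
open H68 (SylowIn)
open scoped commutatorElement


variable {I : Type} [Finite I] {R : H38.RS I (Fin 4)} {k K G : Type*} [Field k] [Field K] [Fintype K] [Cub k K]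
  [Finite k] [Fc K] [Group G] {El : H38.Elts R K G} {Tw : H39.Tw El} {q : ℕ}

namespace MC

theorem step {y : Fin 12 → K → G} (hy : Y12 y) (σ : G ≃* G) (i j l i' j' l' : Fin 12)
    (h : (i, j, l) ∈ l16) (h' : (i', j', l') ∈ l16) (hi : ∀ t, σ (y i t) = y i' (θ t))
    (hj : ∀ t, σ (y j t) = y j' (θ t)) (t : K) : σ (y l t) = y l' (θ t) := by
  rw [← mul_one t, ← hy.nc i j l h, map_commutatorElement, hi, hj, hy.nc i' j' l' h', map_mul]

theorem tri {y : Fin 12 → K → G} (hy : Y12 y) (σ : G ≃* G) (a b c : Fin 12)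
    (hb : ∀ l, (a, b, l) ∉ l16 ∧ (b, a, l) ∉ l16) (hc : ∀ l, (a, c, l) ∉ l16 ∧ (c, a, l) ∉ l16)
    (h1 : ∀ t, σ (y a t) = y b (θ t)) (h2 : ∀ t, σ (y b t) = y c (θ t))
    (h3 : ∀ t, σ (y c t) = y a (θ t)) (t : K) :
    σ (y a t * (y b (θ t) * y c (θ (θ t)))) = y a t * (y b (θ t) * y c (θ (θ t))) := by
  rw [map_mul, map_mul, h1, h2, h3, θ3, ← mul_assoc]
  exact (((hy.cm a b hb _ _).mul_right (hy.cm a c hc _ _)).eq).symm

theorem fix {y : Fin 12 → K → G} (hy : Y12 y) (σ : G ≃* G) (φ : Wd K →* G) (hp : Ph y φ)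
    (h8 : ∀ t, σ (y 8 t) = y 9 (θ t)) (h9 : ∀ t, σ (y 9 t) = y 10 (θ t))
    (h10 : ∀ t, σ (y 10 t) = y 8 (θ t)) (h11 : ∀ t, σ (y 11 t) = y 11 (θ t)) (x : Wd K) :
    σ (φ x) = φ x := by
  have h5 := step hy σ 8 11 5 9 11 6 (by decide) (by decide) h8 h11
  have h6 := step hy σ 9 11 6 10 11 7 (by decide) (by decide) h9 h11
  have h7 := step hy σ 10 11 7 8 11 5 (by decide) (by decide) h10 h11
  have h2 := step hy σ 9 7 2 10 5 3 (by decide) (by decide) h9 h7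
  have h3 := step hy σ 10 5 3 8 6 4 (by decide) (by decide) h10 h5
  have h4 := step hy σ 8 6 4 9 7 2 (by decide) (by decide) h8 h6
  have h1 := step hy σ 8 2 1 9 3 1 (by decide) (by decide) h8 h2
  have h0 := step hy σ 11 1 0 11 1 0 (by decide) (by decide) h11 h1
  have ea : σ (φ (ga x.a)) = φ (ga x.a) := by
    rw [hp.a]; exact tri hy σ 8 9 10 (by decide) (by decide) h8 h9 h10 _
  have eb : σ (φ (gb x.b)) = φ (gb x.b) := by rw [hp.b, h11, θι]
  have ec : σ (φ (gc x.c)) = φ (gc x.c) := by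
    rw [hp.c]; exact tri hy σ 5 6 7 (by decide) (by decide) h5 h6 h7 _
  have ed : σ (φ (gd x.d)) = φ (gd x.d) := by
    rw [hp.d]; exact tri hy σ 2 3 4 (by decide) (by decide) h2 h3 h4 _
  have ee : σ (φ (ge x.e)) = φ (ge x.e) := by rw [hp.e, h1, θι]
  have ef : σ (φ (gf x.f)) = φ (gf x.f) := by rw [hp.f, h0, θι]
  rw [eq_prod x]
  simp only [map_mul, ea, eb, ec, ed, ee, ef]

theorem mem {y : Fin 12 → K → G} (φ : Wd K →* G) (hp : Ph y φ) {A : Subgroup G}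
    (hA : ∀ i t, y i t ∈ A) (x : Wd K) : φ x ∈ A := by
  rw [eq_prod x]
  simp only [map_mul, hp.a, hp.b, hp.c, hp.d, hp.e, hp.f]
  repeat' first | exact hA _ _ | apply mul_mem

theorem vt_inj : Function.Injective H39.vtD4 := by decide

theorem vt_pos : ∀ i j, 0 ≤ H39.vtD4 i j := by decide

theorem zero_of_prod (hF : El.Faith) {Q : List (I × K)}
    (hQ : (Q.map Prod.fst).Nodup) (hp : ∀ q ∈ Q, R.Pos q.1)
    (h : (Q.map fun q => El.x q.1 q.2).prod = 1) : ∀ q ∈ Q, q.2 = 0 := by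
  classical
  obtain ⟨d, hd⟩ : ∃ d : I → K, ∀ q ∈ Q, d q.1 = q.2 := by
    refine ⟨fun r => if h : ∃ q ∈ Q, q.1 = r then h.choose.2 else 0, fun q hq => ?_⟩
    have h1 : ∃ q' ∈ Q, q'.1 = q.1 := ⟨q, hq, rfl⟩
    simp only [dif_pos h1]
    rw [List.inj_on_of_nodup_map hQ h1.choose_spec.1 hq h1.choose_spec.2]
  intro q hq
  rw [← hd q hq]
  refine hF.prod_inj (t' := fun _ => 0) R.W.one_mem hQ (fun r hr => ?_) ?_ q.1
    (List.mem_map_of_mem hq)
  · obtain ⟨q, hq, rfl⟩ := List.mem_map.mp hr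
    exact hp q hq
  · simp only [El.x_zero, List.map_const', List.prod_replicate, one_pow]
    rw [← h, List.map_map]
    exact congrArg List.prod (List.map_congr_left fun q hq => by
      simp only [Function.comp_apply, hd q hq])

theorem inj (hF : El.Faith) {r : Fin 12 → I} {ε : Fin 12 → K} (s : Sg El r ε) (φ : Wd K →* G)
    (hp : Ph (fun i t => El.x (r i) (ε i * t)) φ) : Function.Injective φ := by
  rw [injective_iff_map_eq_one]
  intro x hx
  have ri : Function.Injective r := fun i j e => vt_inj (by rw [← s.rt, ← s.rt, e])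
  let v : Fin 12 → K := ![ι x.f, ι x.e, x.d, θ x.d, θ (θ x.d), x.c, θ x.c, θ (θ x.c), x.a, θ x.a,
    θ (θ x.a), ι x.b]
  let L : List (Fin 12) := [11, 5, 6, 7, 2, 3, 4, 1, 0, 8, 9, 10]
  have key := zero_of_prod hF (Q := L.map fun i => (r i, ε i * v i))
    (by
      rw [List.map_map]
      exact List.Nodup.map ri (by decide))
    (by
      intro a ha
      obtain ⟨i, -, rfl⟩ := List.mem_map.1 ha
      change 0 ≤ R.rt (r i)
      rw [s.rt]
      exact vt_pos i)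
    (by
      rw [← hx, eq_prod x]
      simp only [map_mul, hp.a, hp.b, hp.c, hp.d, hp.e, hp.f, L, List.map_cons, List.map_nil,
        List.prod_cons, List.prod_nil, mul_assoc, mul_one]
      rfl)
  have hv : ∀ i, v i = 0 := fun i => by
    have h1 : ε i * v i = 0 :=
      key (r i, ε i * v i) (List.mem_map.2 ⟨i, (by decide : ∀ i, i ∈ L) i, rfl⟩)
    refine (mul_eq_zero.1 h1).resolve_left ?_
    rcases s.sgn i with e | e <;> simp [e]
  have hι : ∀ t : k, (ι t : K) = 0 → t = 0 := fun t ht => ι_inj (J := K) (by rw [ht, map_zero])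
  exact Wd.eq_one.2 ⟨hv 8, hι _ (hv 11), hv 5, hv 2, hι _ (hv 1), hι _ (hv 0)⟩

end MC

theorem exists_mo (h : H39.IsD4 Tw q) (hk : Nat.card k = q) (hθ : ∀ x : K, θ x = x ^ q) :
    ∃ r ε, ∃ φ : Wd K →* Tw.Γ, Mo Tw r ε φ := by
  obtain ⟨r, ε, s⟩ := exists_sg h
  obtain ⟨φ, hp⟩ := Y12.hom (k := k) s.rel
  have e8 : r 8 = R.sim 0 := R.rt_inj (by rw [s.rt, R.rt_sim]; decide)
  have e9 : r 9 = R.sim 2 := R.rt_inj (by rw [s.rt, R.rt_sim]; decide)
  have e10 : r 10 = R.sim 3 := R.rt_inj (by rw [s.rt, R.rt_sim]; decide)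
  have e11 : r 11 = R.sim 1 := R.rt_inj (by rw [s.rt, R.rt_sim]; decide)
  have hσ : ∀ (i j : Fin 4) (t : K), H39.rho3D4 i = j →
      Tw.σ (El.x (R.sim i) (1 * t)) = El.x (R.sim j) (1 * θ t) := by
    intro i j t e
    rw [Tw.σ_pos, h.hρ, h.hφ, e, one_mul, one_mul, hθ]
  have hΓ : ∀ x, φ x ∈ Tw.Γ := fun x => Tw.mem_Γ.2 (MC.fix s.rel Tw.σ φ hp
    (fun t => by simp only [e8, e9, s.sim.1, s.sim.2.1]; exact hσ 0 2 t rfl)
    (fun t => by simp only [e9, e10, s.sim.2.1, s.sim.2.2.1]; exact hσ 2 3 t rfl)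
    (fun t => by simp only [e10, e8, s.sim.1, s.sim.2.2.1]; exact hσ 3 0 t rfl)
    (fun t => by simp only [e11, s.sim.2.2.2]; exact hσ 1 1 t rfl) x)
  have hU : ∀ x, φ x ∈ El.U := MC.mem φ hp fun i t => El.x_mem_U (by
    change 0 ≤ R.rt (r i)
    rw [s.rt]
    exact MC.vt_pos i) _
  have hi := MC.inj Tw.hF s φ hp
  have hq : q ^ 12 ≠ 0 := pow_ne_zero _ (by have := h.two_le; omega)
  haveI : Finite ↥(El.U ⊓ Tw.Γ) := Nat.finite_of_card_ne_zero (by rw [h.card_U]; exact hq)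
  have hr : φ.range = El.U ⊓ Tw.Γ := by
    refine eq_of_le_of_card_ge (by rintro _ ⟨x, rfl⟩; exact ⟨hU x, hΓ x⟩) (le_of_eq ?_)
    rw [h.card_U, ← Nat.card_congr (MonoidHom.ofInjective hi).toEquiv, Wd.card, hk,
      Nat.card_eq_fintype_card, h.hK]
    ring
  refine ⟨r, ε, φ.codRestrict Tw.Γ hΓ, s, hp, fun a b e => hi (congrArg Subtype.val e), fun g => ?_⟩
  constructor
  · rintro ⟨x, rfl⟩
    exact hU x
  · intro hg
    obtain ⟨x, hx⟩ : (g : G) ∈ φ.range := hr ▸ ⟨hg, g.2⟩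
    exact ⟨x, Subtype.ext hx⟩

end H69.T3
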