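import Mathlib
import Cfsg.Agent.Lib.T3F.Defs
import Cfsg.Agent.Lib.T3F.MDefs
import Cfsg.Agent.Lib.T3F.FL

set_option autoImplicit false
set_option linter.unusedSectionVars false
set_option linter.unusedVariables false

namespace H69.T3

open H89.D4S Subgroup
open H93.SX hiding sh
open H68 (SylowIn)
open scoped commutatorElement


variable {I : Type} [Finite I] {R : H38.RS I (Fin 4)} {k K G : Type*} [Field k] [Field K] [Fintype K] [Cub k K]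
  [Finite k] [Fc K] [Group G] [Finite G] {El : H38.Elts R K G} {Tw : H39.Tw El} {q : ℕ} {r : Fin 12 → I}
  {ε : Fin 12 → K} {φ : Wd K →* Tw.Γ}

namespace MD

theorem pos (m : Mo Tw r ε φ) (i : Fin 12) : R.Pos (r i) := by
  rw [R.pos_iff, m.sg.rt]
  revert i
  decide

theorem sub (h : H39.IsD4 Tw q) (m : Mo Tw r ε φ) (a : Fin 4) (i : Fin 12) :
    R.InSub (Tw.S.orb a) (r i) ↔ ∀ j, j ∉ H39.orbD4 a → H39.vtD4 i j = 0 := by
  simp only [H38.RS.InSub, m.sg.rt, ← (h.orth a).mem]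

theorem xU (h : H39.IsD4 Tw q) (m : Mo Tw r ε φ) {a : Fin 4} {i : Fin 12}
    (hi : ¬ ∀ j, j ∉ H39.orbD4 a → H39.vtD4 i j = 0) (t : K) : El.x (r i) t ∈ El.UJ (Tw.S.orb a) :=
  El.x_mem_XS (S := {s | R.Pos s ∧ ¬ R.InSub (Tw.S.orb a) s})
    ⟨pos m i, fun e => hi ((sub h m a i).1 e)⟩ t

theorem xL (h : H39.IsD4 Tw q) (m : Mo Tw r ε φ) {a : Fin 4} {i : Fin 12}
    (hi : ∀ j, j ∉ H39.orbD4 a → H39.vtD4 i j = 0) (t : K) :
    El.x (r i) t ∈ El.XS ({s | R.Pos s} ∩ {s | R.InSub (Tw.S.orb a) s}) :=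
  El.x_mem_XS (S := {s | R.Pos s} ∩ {s | R.InSub (Tw.S.orb a) s}) ⟨pos m i, (sub h m a i).2 hi⟩ t

theorem triv (m : Mo Tw r ε φ) {J : Set (Fin 4)} {x : Wd K} (h1 : (φ x : G) ∈ El.UJ J)
    (h2 : (φ x : G) ∈ El.XS ({s | R.Pos s} ∩ {s | R.InSub J s})) : x = 1 := by
  have e := Tw.hF.inf_XS (R.closed_rad J) (R.closed_pos.inter (R.closed_inSub J)) (fun _ h => h.1)
    fun _ h => h.1
  have e' : {s | R.Pos s ∧ ¬ R.InSub J s} ∩ ({s | R.Pos s} ∩ {s | R.InSub J s}) = ∅ :=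
    Set.eq_empty_of_forall_notMem fun s hs => hs.1.2 hs.2.2
  rw [e', El.XS_empty] at e
  have : (φ x : G) ∈ (⊥ : Subgroup G) := e ▸ ⟨h1, h2⟩
  exact m.inj (by rw [map_one]; exact Subtype.ext this)

theorem mid (h : H39.IsD4 Tw q) (m : Mo Tw r ε φ) {a : Fin 4} (ha : a = 0 ∨ a = 1) (x : Wd K) :
    (φ (gc x.c * gd x.d * ge x.e * gf x.f) : G) ∈ El.UJ (Tw.S.orb a) := by
  have k : ∀ i : Fin 12, i.val < 8 → ∀ t, El.x (r i) t ∈ El.UJ (Tw.S.orb a) := fun i hi t =>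
    xU h m (by revert i; rcases ha with rfl | rfl <;> decide) t
  simp only [map_mul, Subgroup.coe_mul, m.ph.c, m.ph.d, m.ph.e, m.ph.f]
  exact mul_mem (mul_mem (mul_mem (mul_mem (k 5 (by decide) _) (mul_mem (k 6 (by decide) _)
    (k 7 (by decide) _))) (mul_mem (k 2 (by decide) _) (mul_mem (k 3 (by decide) _)
    (k 4 (by decide) _)))) (k 1 (by decide) _)) (k 0 (by decide) _)

theorem prod (x : Wd K) : (φ x : G) =
    φ (gb x.b) * (φ (gc x.c * gd x.d * ge x.e * gf x.f) : G) * φ (ga x.a) := by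
  rw [← Subgroup.coe_mul, ← Subgroup.coe_mul, ← map_mul, ← map_mul]
  congr 2
  simpa only [mul_assoc] using eq_prod x

theorem memQ1 (h : H39.IsD4 Tw q) (m : Mo Tw r ε φ) (x : Wd K) :
    x ∈ Q1 K ↔ (φ x : G) ∈ El.UJ (Tw.S.orb 1) := by
  have ha : (φ (ga x.a) : G) ∈ El.UJ (Tw.S.orb 1) := by
    rw [m.ph.a]
    exact mul_mem (xU h m (by decide) _) (mul_mem (xU h m (by decide) _) (xU h m (by decide) _))
  rw [prod, mul_mem_cancel_right ha, mul_mem_cancel_right (mid h m (.inr rfl) x), mem_Q1]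
  refine ⟨fun e => ?_, fun e => congrArg Wd.b (triv m e (by rw [m.ph.b]; exact xL h m (by decide) _))⟩
  rw [e, show (gb 0 : Wd K) = 1 from rfl, map_one]
  exact one_mem _

theorem memQ2 (h : H39.IsD4 Tw q) (m : Mo Tw r ε φ) (x : Wd K) :
    x ∈ Q2 K ↔ (φ x : G) ∈ El.UJ (Tw.S.orb 0) := by
  have hb : (φ (gb x.b) : G) ∈ El.UJ (Tw.S.orb 0) := by
    rw [m.ph.b]
    exact xU h m (by decide) _
  rw [prod, mul_mem_cancel_left (mul_mem hb (mid h m (.inl rfl) x)), mem_Q2]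
  refine ⟨fun e => ?_, fun e => congrArg Wd.a (triv m e (by
    rw [m.ph.a]
    exact mul_mem (xL h m (by decide) _) (mul_mem (xL h m (by decide) _) (xL h m (by decide) _))))⟩
  rw [e, show (ga 0 : Wd K) = 1 from rfl, map_one]
  exact one_mem _

theorem rep (h : H39.IsD4 Tw q) (m : Mo Tw r ε φ) (a : Fin 4) {Q : Subgroup (Wd K)}
    (hQ : ∀ x, x ∈ Q ↔ (φ x : G) ∈ El.UJ (Tw.S.orb a)) :
    ∃ n ∈ nr φ Q, El.Rep (n : G) (Tw.S.wo a) := by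
  obtain ⟨n, hn, hr⟩ := h.good.exists_rep_wo a
  refine ⟨⟨n, Tw.G1_le_Γ hn⟩, mem_nr fun x hx => ?_, hr⟩
  have e := El.P_conj_mem_UJ (hr.mem_PS _ (Tw.S.wo_mem_WJ a)) ((hQ x).1 hx)
  obtain ⟨y, hy⟩ := (m.rng (⟨n, Tw.G1_le_Γ hn⟩ * φ x * ⟨n, Tw.G1_le_Γ hn⟩⁻¹)).2 (El.UJ_le_U _ e)
  exact ⟨y, (hQ y).2 (by rw [hy]; exact e), hy.symm⟩

theorem eps (m : Mo Tw r ε φ) (i : Fin 12) : ε i * ι (1 : k) ≠ 0 := by
  rcases m.sg.sgn i with e | e <;> simp [e]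

theorem mv1 (h : H39.IsD4 Tw q) (m : Mo Tw r ε φ) : Mv1 φ := fun hle => by
  obtain ⟨n, hn, hr⟩ := rep h m 1 (memQ1 h m)
  obtain ⟨y, hy, e⟩ := nr_cj (hle hn) (show gf 1 ∈ Z1 K from ⟨rfl, rfl, rfl, rfl, rfl⟩)
  obtain ⟨c, hc, h1⟩ := hr.conj_x (r 0)
  have e1 : y = gf y.f := Wd.ext hy.1 hy.2.1 hy.2.2.1 hy.2.2.2.1 hy.2.2.2.2 rfl
  have e2 : (n : G) * φ (gf 1) * (n : G)⁻¹ = φ y := congrArg Subtype.val e
  rw [e1, m.ph.f, m.ph.f, h1] at e2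
  have e3 := congrArg R.rt (H39.root_eq_of_x_eq Tw.hF (mul_ne_zero hc (eps m 0)) e2)
  rw [h.wo1, h.rt_s, m.sg.rt] at e3
  revert e3
  decide +kernel

theorem mv2 (h : H39.IsD4 Tw q) (m : Mo Tw r ε φ) : Mv2 φ := fun hle => by
  obtain ⟨n, hn, hr⟩ := rep h m 0 (memQ2 h m)
  obtain ⟨y, hy, e⟩ := nr_cj (hle hn) (show ge 1 ∈ Z2 K from ⟨rfl, rfl, rfl, rfl⟩)
  obtain ⟨c, hc, h1⟩ := hr.conj_x (r 1)
  have e2 : (n : G) * φ (ge 1) * (n : G)⁻¹ = φ y := congrArg Subtype.val e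
  have e3 := (memQ1 h m y).1 hy.2.1
  rw [← e2, m.ph.e, h1] at e3
  refine (Tw.hF.mem_of_x_mem_XS (R.closed_rad _) (fun _ h => h.1) (mul_ne_zero hc (eps m 1)) e3).2 ?_
  simp only [H38.RS.InSub, h.wo0, h.rt_s, m.sg.rt, ← (h.orth 1).mem]
  decide +kernel

end MD

theorem Mo.md (h : H39.IsD4 Tw q) (hk : Nat.card k = q) (hθ : ∀ x : K, θ x = x ^ q) (m : Mo Tw r ε φ)
    (p : ℕ) [Fact p.Prime] [CharP K p] : Md p φ := by
  obtain ⟨S, hS⟩ := H39.Tw.exists_sylow h.good h.h3 p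
  exact ⟨m.inj, ⟨S, by rw [hS]; ext g; rw [m.rng, mem_subgroupOf]⟩, MD.mv1 h m, MD.mv2 h m⟩

end H69.T3
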