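import Mathlib
import Cfsg.Agent.Lib.T3F.Defs
import Cfsg.Agent.Lib.T3F.MDefs
import Cfsg.Agent.Lib.T3F.FL

set_option autoImplicit false
set_option linter.unusedSectionVars false
set_option linter.unusedVariables false

namespace H69.T3

open H89.D4S Subgroup
open H93.SX hiding sh
open H68 (SylowIn)
open scoped commutatorElement


variable {I : Type} [Finite I] {R : H38.RS I (Fin 4)} {k K G : Type*} [Field k] [Field K] [Fintype K] [Cub k K]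
  [Finite k] [Fc K] [Group G] [Finite G] {El : H38.Elts R K G} {Tw : H39.Tw El} {q : ℕ} {r : Fin 12 → I}
  {ε : Fin 12 → K} {φ : Wd K →* Tw.Γ}

namespace ME

theorem r8 (m : Mo Tw r ε φ) : r 8 = R.sim 0 :=
  R.rt_inj (by rw [m.sg.rt, R.rt_sim]; decide)

theorem mem_UJ (m : Mo Tw r ε φ) {i : Fin 12} (hi : i ≠ 8) (t : K) : El.x (r i) t ∈ El.UJ {0} := by
  have h1 : ∀ i j, 0 ≤ H39.vtD4 i j := by decide
  have h2 : ∀ i, H39.vtD4 i = H39.vtD4 8 → i = 8 := by decide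
  refine El.x_mem_XS (R.pos_not_inSub_singleton.2 ⟨fun j => ?_, fun e => hi (h2 i ?_)⟩) t
  · rw [m.sg.rt]; exact h1 i j
  · rw [← m.sg.rt, ← m.sg.rt, e, r8 m]

theorem dec (m : Mo Tw r ε φ) (x : Wd K) :
    ∃ u ∈ El.UJ {0}, ∃ v ∈ El.UJ {0}, (φ x : G) = u * El.x (R.sim 0) x.a * v := by
  refine ⟨φ (gb x.b) * φ (gc x.c) * φ (gd x.d) * φ (ge x.e) * φ (gf x.f), ?_,
    El.x (r 9) (ε 9 * θ x.a) * El.x (r 10) (ε 10 * θ (θ x.a)),
    mul_mem (mem_UJ m (by decide) _) (mem_UJ m (by decide) _), ?_⟩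
  · refine mul_mem (mul_mem (mul_mem (mul_mem ?_ ?_) ?_) ?_) ?_
    · rw [m.ph.b]; exact mem_UJ m (by decide) _
    · rw [m.ph.c]
      exact mul_mem (mem_UJ m (by decide) _) (mul_mem (mem_UJ m (by decide) _) (mem_UJ m (by decide) _))
    · rw [m.ph.d]
      exact mul_mem (mem_UJ m (by decide) _) (mul_mem (mem_UJ m (by decide) _) (mem_UJ m (by decide) _))
    · rw [m.ph.e]; exact mem_UJ m (by decide) _
    · rw [m.ph.f]; exact mem_UJ m (by decide) _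
  · have ha := m.ph.a x.a
    simp only [r8 m, m.sg.sim.1, one_mul] at ha
    conv_lhs => rw [eq_prod x]
    simp only [map_mul, Subgroup.coe_mul, ha, mul_assoc]

theorem uniq (Tw : H39.Tw El) {u v u' v' : G} {s t : K} (hu : u ∈ El.UJ {0}) (hv : v ∈ El.UJ {0})
    (hu' : u' ∈ El.UJ {0}) (hv' : v' ∈ El.UJ {0})
    (e : u * El.x (R.sim 0) s * v = u' * El.x (R.sim 0) t * v') : s = t := by
  by_contra hn
  have h1 : (El.x (R.sim 0) t)⁻¹ * (u⁻¹ * u') * (El.x (R.sim 0) t)⁻¹⁻¹ ∈ El.UJ {0} :=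
    El.P_conj_mem_UJ (El.B_le_P _ (El.U_le_B (inv_mem (El.x_mem_U (R.pos_sim 0) t))))
      (mul_mem (inv_mem hu) hu')
  have h2 : El.x (R.sim 0) (-t + s) ∈ El.UJ {0} := by
    have e' : El.x (R.sim 0) s = u⁻¹ * (u' * El.x (R.sim 0) t * v') * v⁻¹ := by rw [← e]; group
    rw [← El.x_add, El.x_neg, e']
    convert mul_mem h1 (mul_mem hv' (inv_mem hv)) using 1
    group
  have := Tw.hF.mem_of_x_mem_XS (R.closed_rad {0}) (fun _ h => h.1)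
    (fun e => hn (by linear_combination e)) h2
  exact this.2 (R.inSub_sim.2 rfl)

theorem act (m : Mo Tw r ε φ) (α : G ≃* G) (h1 : ∀ g ∈ El.UJ {0}, α g ∈ El.UJ {0}) {f : K → K}
    (h2 : ∀ t, α (El.x (R.sim 0) t) = El.x (R.sim 0) (f t)) {x y : Wd K}
    (e : α (φ x) = φ y) : y.a = f x.a := by
  obtain ⟨u, hu, v, hv, e1⟩ := dec m x
  obtain ⟨u', hu', v', hv', e2⟩ := dec m y
  rw [e1, e2, map_mul, map_mul, h2] at e
  exact (uniq Tw (h1 u hu) (h1 v hv) hu' hv' e).symm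

theorem aa (m : Mo Tw r ε φ) {g : Tw.Γ} (hg : (g : G) ∈ El.H) {l : K}
    (h : ∀ t, g * El.x (R.sim 0) t * (g : G)⁻¹ = El.x (R.sim 0) (l * t)) :
    Aa φ g fun a => l * a := by
  refine ⟨mem_nr fun x _ => ?_, fun x y e => ?_⟩
  · obtain ⟨y, hy⟩ := (m.rng (g * φ x * g⁻¹)).2
      (El.B_conj_mem_U (El.H_le_B hg) ((m.rng _).1 ⟨x, rfl⟩))
    exact ⟨y, mem_top y, hy.symm⟩
  · exact act m (MulAut.conj (g : G)) (fun u hu => El.H_conj_mem_XS hg hu) (f := fun a => l * a) h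
      (congrArg Subtype.val e)

end ME

theorem Mo.tor (h : H39.IsD4 Tw q) (hk : Nat.card k = q) (hθ : ∀ x : K, θ x = x ^ q) (m : Mo Tw r ε φ)
    (l : K) (hl : l ≠ 0) : ∃ g, Aa φ g fun a => l * a := by
  obtain ⟨c, hc, e, -⟩ := h.exists_scalar (Units.mk0 l hl)
  have hm : H38.Elts.tor h.h3 c ∈ El.H ⊓ Tw.Γ := h.H_inf_Γ ▸ mem_map_of_mem _ hc
  refine ⟨⟨_, hm.2⟩, ME.aa m hm.1 fun t => ?_⟩
  rw [H39.tor_conj_sim, e, Units.val_mk0]

theorem Mo.nrm (h : H39.IsD4 Tw q) (hk : Nat.card k = q) (hθ : ∀ x : K, θ x = x ^ q) (m : Mo Tw r ε φ) :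
    ∀ g ∈ nr φ ⊤, ∃ l : K, Aa φ g fun a => l * a := by
  intro g hg
  have hB : (g : G) ∈ El.B := h.good.mem_B g.2 fun y hy => by
    obtain ⟨x, hx⟩ := (m.rng ⟨y, hy.2⟩).2 hy.1
    obtain ⟨z, -, hz⟩ := nr_cj hg (mem_top x)
    have e : (g : G) * y * (g : G)⁻¹ = φ z := by
      have := congrArg Subtype.val hz
      rwa [Subgroup.coe_mul, Subgroup.coe_mul, hx] at this
    rw [e]
    exact (m.rng _).1 ⟨z, rfl⟩
  obtain ⟨u, hu, t, ht, e⟩ := El.mem_B.1 hB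
  obtain ⟨hu', ht'⟩ := Tw.fix_UH hu ht (e ▸ g.2)
  obtain ⟨s, hs⟩ := (m.rng ⟨u, hu'⟩).2 hu
  obtain ⟨l, -, hl⟩ := (El.rep_of_mem_H ht).conj_x (R.sim 0)
  have ha := ME.aa m (g := ⟨t, ht'⟩) ht hl
  have eg : g = φ s * ⟨t, ht'⟩ := Subtype.ext (by rw [hs]; exact e)
  refine ⟨l, hg, fun x y hxy => ?_⟩
  obtain ⟨z, -, hz⟩ := nr_cj ha.1 (mem_top x)
  have := Cj.uniq m.inj hxy (eg ▸ (Cj.self s z).trans hz)
  rw [this, ← ha.2 x z hz]
  simp

theorem Mo.fld (h : H39.IsD4 Tw q) (hk : Nat.card k = q) (hθ : ∀ x : K, θ x = x ^ q) (m : Mo Tw r ε φ)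
    (hD : Tw.HasDF) (ρ : K ≃+* K) :
    ∃ δ : MulAut Tw.Γ, δ ^ orderOf ρ = 1 ∧ ∀ x, ∃ y, δ (φ x) = φ y ∧ y.a = ρ x.a := by
  obtain ⟨δ, hδ⟩ := hD.ex 1 ρ
  have hc := hδ.comm (T := Tw) (one_mem _) (hD.comm ρ)
  have hx : ∀ s t, δ (El.x s t) = El.x s (ρ t) := fun s t => by simpa using hδ s t
  refine ⟨Tw.res δ hc, ?_, fun x => ?_⟩
  · let δ0 : MulAut G := δ
    let δ1 : MulAut Tw.Γ := Tw.res δ hc
    have h1 : ∀ n : ℕ, ∀ g : Tw.Γ, (((δ1 ^ n) g : Tw.Γ) : G) = (δ0 ^ n) g := fun n => by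
      induction n with
      | zero => intro g; rfl
      | succ n ih => intro g; rw [pow_succ, pow_succ, MulAut.mul_apply, MulAut.mul_apply, ih]; rfl
    have h2 : ∀ n : ℕ, ∀ s t, (δ0 ^ n) (El.x s t) = El.x s ((ρ ^ n) t) := fun n => by
      induction n with
      | zero => intro s t; rfl
      | succ n ih =>
        intro s t
        rw [pow_succ, pow_succ, MulAut.mul_apply, show δ0 (El.x s t) = _ from hx s t, ih]; rfl
    have h3 : El.Gp ≤ (δ0 ^ orderOf ρ).toMonoidHom.eqLocus (MonoidHom.id G) :=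
      El.XS_le.2 fun s _ t => by
        show (δ0 ^ orderOf ρ) (El.x s t) = El.x s t
        rw [h2, pow_orderOf_eq_one]; rfl
    rw [Tw.hG] at h3
    show δ1 ^ orderOf ρ = 1
    ext g
    rw [h1]
    exact h3 (mem_top (g : G))
  · obtain ⟨y, hy⟩ := (m.rng (Tw.res δ hc (φ x))).2 (hδ.mem_XS_iff.2 ((m.rng _).1 ⟨x, rfl⟩))
    exact ⟨y, hy.symm, ME.act m δ (fun u hu => hδ.mem_XS_iff.2 hu) (f := ρ) (hx _)
      (congrArg Subtype.val hy.symm)⟩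

end H69.T3
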