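import Mathlib
import Cfsg.Agent.Lib.T3F.Defs
import Cfsg.Agent.Lib.T3F.MDefs

set_option autoImplicit false
set_option linter.unusedSectionVars false
set_option linter.unusedVariables false

namespace H69.T3

open H89.D4S Subgroup
open H93.SX hiding sh
open H68 (SylowIn)
open scoped commutatorElement


theorem exists_cub3 (K : Type*) [Field K] [Fintype K] {q : ℕ} (hq : IsPrimePow q) (hK : Fintype.card K = q ^ 3) :
    ∃ (k : Subfield K) (_ : Cub k K) (_ : Fc K), Nat.card k = q ∧ ∀ x : K, θ x = x ^ q := by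
  obtain ⟨f, hf⟩ := H39.exists_frob' hq hK
  have h3 : ∀ x, f (f (f x)) = x := fun x => by
    rw [hf, hf, hf, ← pow_mul, ← pow_mul, ← sq, ← pow_succ', ← hK, FiniteField.pow_card]
  let F : Subfield K := (f : K →+* K).eqLocusField (RingHom.id K)
  have m : ∀ {x}, x ∈ F ↔ f x = x := Iff.rfl
  have hc : Nat.card F = q := by
    rw [← H39.card_fixed hq.pos hK]
    exact Nat.card_congr (Equiv.subtypeEquivRight fun x => by rw [m, hf])
  have h1 : 1 < q := hq.one_lt
  have hn : ¬ ∀ y : K, y + f y + f (f y) = 0 := fun h => by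
    have h2 : (Polynomial.X + Polynomial.X ^ q + Polynomial.X ^ (q * q) : Polynomial K) = 0 := by
      refine Polynomial.eq_zero_of_natDegree_lt_card_of_eval_eq_zero _ (f := id) Function.injective_id
        (fun y => ?_) ?_
      · have := h y
        rw [hf, hf, ← pow_mul] at this
        simpa using this
      · refine lt_of_le_of_lt (b := q * q) ?_ (by rw [hK]; nlinarith [Nat.mul_pos hq.pos hq.pos])
        refine Polynomial.natDegree_add_le_of_degree_le (Polynomial.natDegree_add_le_of_degree_le ?_ ?_) ?_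
        · rw [Polynomial.natDegree_X]; nlinarith
        · rw [Polynomial.natDegree_X_pow]; nlinarith
        · rw [Polynomial.natDegree_X_pow]
    have h4 := congrArg (fun P : Polynomial K => P.coeff 1) h2
    have h5 : 1 ≠ q * q := by nlinarith
    simp [Polynomial.coeff_X_pow, h1.ne, h5] at h4
  let C : Cub F K := {
    ι := F.subtype
    θ := f
    T := { toFun x := ⟨x + f x + f (f x), m.2 (by simp only [map_add, h3]; ring)⟩
           map_zero' := Subtype.ext (by simp)
           map_add' a b := Subtype.ext (by simp only [map_add, Subfield.coe_add]; ring) }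
    N := { toFun x := ⟨x * f x * f (f x), m.2 (by simp only [map_mul, h3]; ring)⟩
           map_one' := Subtype.ext (by simp)
           map_mul' a b := Subtype.ext (by simp only [map_mul, Subfield.coe_mul]; ring) }
    ι_inj := Subtype.val_injective
    θ3 := h3
    θι a := a.2
    ιT _ := rfl
    ιN _ := rfl
    nd x hx := by
      by_contra h0
      refine hn fun y => ?_
      have : (x * (x⁻¹ * y) + f (x * (x⁻¹ * y)) + f (f (x * (x⁻¹ * y))) : K) = 0 :=
        congrArg Subtype.val (hx (x⁻¹ * y))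
      rwa [mul_inv_cancel_left₀ h0] at this }
  exact ⟨F, C, ⟨fun x hx => ⟨⟨x, hx⟩, rfl⟩, by rw [hc, Nat.card_eq_fintype_card, hK]⟩, hc, hf⟩

variable {k K : Type*} [Field k] [Field K] [Cub k K] {G G' : Type*} [Group G] [Group G'] {p : ℕ}

namespace MK

variable {W : Type*} [Group W] {φ : W →* G} (e : G ≃* G')

theorem cj_iff {g : G} {x y : W} : Cj (e.toMonoidHom.comp φ) (e g) x y ↔ Cj φ g x y := by
  change e g * e (φ x) * (e g)⁻¹ = e (φ y) ↔ g * φ x * g⁻¹ = φ y
  rw [← map_inv, ← map_mul, ← map_mul, e.apply_eq_iff_eq]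

theorem nr_iff {g : G} {X : Subgroup W} : e g ∈ nr (e.toMonoidHom.comp φ) X ↔ g ∈ nr φ X := by
  change e g ∈ normalizer _ ↔ g ∈ normalizer _
  rw [← Subgroup.map_map, ← Subgroup.map_equiv_normalizer_eq]
  exact mem_map_iff_mem (f := e.toMonoidHom) e.injective

theorem nle {X Y : Subgroup W} (h : ¬ nr φ X ≤ nr φ Y) :
    ¬ nr (e.toMonoidHom.comp φ) X ≤ nr (e.toMonoidHom.comp φ) Y :=
  fun a => h fun _ hg => (nr_iff e).1 (a ((nr_iff e).2 hg))

theorem aa_iff {φ : Wd K →* G} {g : G} {f : K → K} : Aa (e.toMonoidHom.comp φ) (e g) f ↔ Aa φ g f := by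
  simp only [Aa, nr_iff, cj_iff]

end MK

theorem Md0.congr {φ : Wd K →* G} (h : Md0 p φ) (e : G ≃* G') : Md0 p (e.toMonoidHom.comp φ) := by
  refine ⟨⟨e.injective.comp h.inj, ?_, MK.nle e h.mv1, MK.nle e h.mv2⟩, fun l hl => ?_, fun g hg => ?_, fun ρ => ?_⟩
  · obtain ⟨P, hP⟩ := h.syl
    refine ⟨P.comapOfInjective e.symm.toMonoidHom e.symm.injective fun x _ => e.symm.surjective x, ?_⟩
    rw [MonoidHom.range_comp, ← hP]
    exact (Subgroup.map_equiv_eq_comap_symm' e _).symm
  · obtain ⟨g, hg⟩ := h.tor l hl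
    exact ⟨e g, (MK.aa_iff e).2 hg⟩
  · obtain ⟨g, rfl⟩ := e.surjective g
    obtain ⟨l, hl⟩ := h.nrm g ((MK.nr_iff e).1 hg)
    exact ⟨l, (MK.aa_iff e).2 hl⟩
  · obtain ⟨δ, h1, h2⟩ := h.fld ρ
    refine ⟨MulAut.congr e δ, by rw [← map_pow, h1, map_one], fun x => ?_⟩
    obtain ⟨y, h3, h4⟩ := h2 x
    refine ⟨y, ?_, h4⟩
    change e (δ (e.symm (e (φ x)))) = e (φ y)
    rw [e.symm_apply_apply, h3]

theorem Md.cf [Fact p.Prime] [Finite G] {φ : Wd K →* G} (h : Md p φ) : Cf p φ := by
  obtain ⟨P, hP⟩ := h.syl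
  exact ⟨h.inj, (hP ▸ P.isPGroup' : IsPGroup p φ.range).of_equiv (MonoidHom.ofInjective h.inj).symm,
    hP ▸ H93.isSaturated_groupFusionSystem P⟩

end H69.T3
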