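import Mathlib
import Cfsg.Agent.Lib.T3F.Defs
import Cfsg.Agent.Lib.T3F.FL

set_option autoImplicit false
set_option linter.unusedSectionVars false
set_option linter.unusedVariables false

namespace H69.T3

open H89.D4S Subgroup
open H93.SX hiding sh
open H68 (SylowIn)
open scoped commutatorElement

variable {k K : Type*} [Field k] [Field K] [Cub k K] [Finite k] [Finite K] [Fc K]

namespace MX

open SemidirectProduct

variable {G : Type*} [Group G] [Finite G] {A : Subgroup (MulAut G)} {φ : Wd K →* G}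

theorem fin_aut : Finite (MulAut G) := Finite.of_injective _ MulEquiv.toEquiv_injective

theorem fin_sd : Finite (G ⋊[A.subtype] A) :=
  have : Finite (MulAut G) := fin_aut
  Finite.of_equiv _ SemidirectProduct.equivProd.symm

theorem cj_inl {g : G} {x y : Wd K} :
    Cj ((inl : G →* G ⋊[A.subtype] A).comp φ) (inl g) x y ↔ Cj φ g x y := by
  rw [Cj, Cj, MonoidHom.comp_apply, MonoidHom.comp_apply, ← map_inv, ← map_mul, ← map_mul]
  exact inl_injective.eq_iff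

theorem cj_inr {a : A} {x y : Wd K} :
    Cj ((inl : G →* G ⋊[A.subtype] A).comp φ) (inr a) x y ↔ (a : MulAut G) (φ x) = φ y := by
  rw [Cj, MonoidHom.comp_apply, MonoidHom.comp_apply, ← map_inv, ← inl_aut]
  exact inl_injective.eq_iff

theorem nr_inl {g : G} {X : Subgroup (Wd K)} :
    inl g ∈ nr ((inl : G →* G ⋊[A.subtype] A).comp φ) X ↔ g ∈ nr φ X := by
  have : Finite (G ⋊[A.subtype] A) := fin_sd
  exact ⟨fun h => mem_nr fun x hx => let ⟨y, hy, e⟩ := nr_cj h hx; ⟨y, hy, cj_inl.1 e⟩,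
    fun h => mem_nr fun x hx => let ⟨y, hy, e⟩ := nr_cj h hx; ⟨y, hy, cj_inl.2 e⟩⟩

theorem aa_inl {g : G} {f : K → K} (h : Aa φ g f) :
    Aa ((inl : G →* G ⋊[A.subtype] A).comp φ) (inl g) f :=
  ⟨nr_inl.2 h.1, fun x y e => h.2 x y (cj_inl.1 e)⟩

theorem aa_inr (i : Function.Injective φ) {a : A} {f : K → K}
    (h : ∀ x, ∃ y, (a : MulAut G) (φ x) = φ y ∧ y.a = f x.a) :
    Aa ((inl : G →* G ⋊[A.subtype] A).comp φ) (inr a) f := by
  have : Finite (G ⋊[A.subtype] A) := fin_sd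
  refine ⟨mem_nr fun x _ => let ⟨y, e, _⟩ := h x; ⟨y, mem_top y, cj_inr.2 e⟩, fun x y e => ?_⟩
  obtain ⟨z, e1, e2⟩ := h x
  rw [i ((cj_inr.1 e).symm.trans e1), e2]

theorem aa_mul {Γ : Type*} [Group Γ] {j : Wd K →* Γ} (i : Function.Injective j) {g g' : Γ}
    {f f' : K → K} (h : Aa j g f) (h' : Aa j g' f') : Aa j (g * g') fun a => f (f' a) := by
  refine ⟨mul_mem h.1 h'.1, fun x y e => ?_⟩
  obtain ⟨z, -, e1⟩ := nr_cj h'.1 (mem_top x)
  obtain ⟨w, -, e2⟩ := nr_cj h.1 (mem_top z)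
  rw [e.uniq i (e2.trans e1), h.2 z w e2, h'.2 x z e1]

theorem aa_ne {g : G} {l : K} (h : Aa φ g fun a => l * a) : l ≠ 0 := by
  rintro rfl
  obtain ⟨x, -, e⟩ := nr_cj' h.1 (mem_top (ga (1 : K)))
  have := h.2 x _ e
  simp [ga] at this

theorem pow_cj {δ : MulAut G} {ρ : K ≃+* K} (h : ∀ x, ∃ y, δ (φ x) = φ y ∧ y.a = ρ x.a) (n : ℕ) :
    ∀ x, ∃ y, (δ ^ n) (φ x) = φ y ∧ y.a = (ρ ^ n) x.a := by
  induction n with
  | zero => exact fun x => ⟨x, rfl, rfl⟩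
  | succ n ih =>
    intro x
    obtain ⟨y, e1, e2⟩ := ih x
    obtain ⟨z, e3, e4⟩ := h y
    refine ⟨z, ?_, ?_⟩
    · rw [pow_succ', MulAut.mul_apply, e1, e3]
    · rw [e4, e2, pow_succ']; rfl

theorem syl_inl {p : ℕ} [Fact p.Prime] (h : ∃ P : Sylow p G, (P : Subgroup G) = φ.range)
    (hA : ¬ p ∣ Nat.card A) :
    ∃ P : Sylow p (G ⋊[A.subtype] A),
      (P : Subgroup (G ⋊[A.subtype] A)) = ((inl : G →* G ⋊[A.subtype] A).comp φ).range := by
  have : Finite (G ⋊[A.subtype] A) := fin_sd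
  obtain ⟨P, hP⟩ := h
  rw [MonoidHom.range_comp, ← hP]
  refine ⟨(P.isPGroup'.map inl).toSylow fun hd => ?_, rfl⟩
  rw [index_map_of_injective _ inl_injective, range_inl_eq_ker_rightHom, index_ker] at hd
  rcases (Nat.Prime.dvd_mul Fact.out).1 hd with h1 | h1
  · exact P.not_dvd_index h1
  · exact hA (h1.trans (card_subgroup_dvd_card _))

end MX

theorem Md0.ext {G : Type*} [Group G] [Finite G] {p : ℕ} [Fact p.Prime] [CharP K p] {φ : Wd K →* G} (h : Md0 p φ)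
    (ρ : K ≃+* K) (hρ : ¬ p ∣ orderOf ρ) :
    ∃ (A : Subgroup (MulAut G)) (ψ : Wd K →* G ⋊[A.subtype] A), Md p ψ ∧ Ta ψ (zpowers ρ) := by
  have f1 : Finite (MulAut G) := MX.fin_aut
  have f2 : Finite (K ≃+* K) := Finite.of_injective (fun f : K ≃+* K => (f : K → K)) DFunLike.coe_injective
  obtain ⟨δ, h1, h2⟩ := h.fld ρ
  have i : Function.Injective
      ((SemidirectProduct.inl : G →* G ⋊[(zpowers δ).subtype] zpowers δ).comp φ) :=
    SemidirectProduct.inl_injective.comp h.inj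
  have hr : ∀ n : ℕ, Aa ((SemidirectProduct.inl : G →* G ⋊[(zpowers δ).subtype] zpowers δ).comp φ)
      (SemidirectProduct.inr ⟨δ ^ n, pow_mem (mem_zpowers δ) n⟩) fun a => (ρ ^ n) a := fun n =>
    MX.aa_inr h.inj (MX.pow_cj h2 n)
  refine ⟨zpowers δ, SemidirectProduct.inl.comp φ, ⟨i, MX.syl_inl h.syl fun hd => hρ ?_,
    fun hle => h.mv1 fun g hg => MX.nr_inl.1 (hle (MX.nr_inl.2 hg)),
    fun hle => h.mv2 fun g hg => MX.nr_inl.1 (hle (MX.nr_inl.2 hg))⟩, fun g hg => ?_,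
    fun l hl σ hσ => ?_⟩
  · rw [Nat.card_zpowers] at hd
    exact hd.trans (orderOf_dvd_of_pow_eq_one h1)
  · obtain ⟨n, hn⟩ := mem_powers_iff_mem_zpowers.2 g.right.2
    have e1 : g.right = ⟨δ ^ n, pow_mem (mem_zpowers δ) n⟩ := Subtype.ext hn.symm
    have e2 := SemidirectProduct.inl_left_mul_inr_right g
    rw [e1] at e2
    have h3 : SemidirectProduct.inl g.left ∈ nr
        ((SemidirectProduct.inl : G →* G ⋊[(zpowers δ).subtype] zpowers δ).comp φ) ⊤ :=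
      (mul_mem_cancel_right (hr n).1).1 (e2.symm ▸ hg)
    obtain ⟨l, hl⟩ := h.nrm _ (MX.nr_inl.1 h3)
    refine ⟨l, MX.aa_ne hl, ρ ^ n, pow_mem (mem_zpowers ρ) n, ?_⟩
    have h4 := MX.aa_mul i (MX.aa_inl hl) (hr n)
    rwa [e2] at h4
  · obtain ⟨n, rfl⟩ := mem_powers_iff_mem_zpowers.2 hσ
    obtain ⟨g, hg⟩ := h.tor l hl
    exact ⟨_, MX.aa_mul i (MX.aa_inl hg) (hr n)⟩

end H69.T3
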