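import Mathlib
import Cfsg.Agent.Lib.T3F.Defs
import Cfsg.Agent.Lib.T3F.FL
import Cfsg.Agent.Lib.T3F.SF

set_option autoImplicit false
set_option linter.unusedSectionVars false
set_option linter.unusedVariables false

namespace H69.T3

open H89.D4S Subgroup
open H93.SX hiding sh
open H68 (SylowIn)
open scoped commutatorElement

universe u

variable {k K : Type*} [Field k] [Field K] [Cub k K] [Finite k] [Finite K] [Fc K]
  {p : ℕ} [Fact p.Prime] [CharP K p] {Γ : Type u} [Group Γ] [Finite Γ] {j : Wd K →* Γ} {g : Γ}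
  {E : Subgroup (Wd K)} {Φ : Subgroup (K ≃+* K)}

namespace NG

/-- the shear by the cross product -/
def uS (s : K) : (K × K) ≃ₗ[ℤ] (K × K) := AddEquiv.toIntLinearEquiv
  { toFun := fun v => (v.1 + cr s v.2, v.2)
    invFun := fun v => (v.1 - cr s v.2, v.2)
    left_inv := fun v => by simp
    right_inv := fun v => by simp
    map_add' := fun v w => by
      apply Prod.ext
      · simp only [Prod.fst_add, Prod.snd_add, cr_add]; ring
      · rfl }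

theorem uS_smul (s : K) (v : K × K) : uS s • v = (v.1 + cr s v.2, v.2) := rfl

/-- coordinates on `E / Z2` -/
structure Cd (E : Subgroup (Wd K)) (c : Wd K → K × K) : Prop where
  add : ∀ x ∈ E, ∀ y ∈ E, c (x * y) = c x + c y
  c2 : ∀ x, (c x).2 = x.a
  c1 : ∀ x ∈ Z3 K, (c x).1 = x.d

theorem T_nd {a : K} (h : ∀ x, T (a * x) = (0 : k)) : a = 0 := by
  by_contra ha
  obtain ⟨x, hx⟩ := T_surj ha (1 : k)
  exact one_ne_zero (hx.symm.trans (h x))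

theorem comm_Z2 {x y : Wd K} (hx : x.b = 0) (hy : y ∈ Z2 K) : ⁅x, y⁆ = 1 := by
  rw [comm_Z3 hy.1 hy.2.1 hy.2.2.1]
  simp [Wd.eq_one, hx, hy.2.2.2]

theorem z3_of (hE : Gr E) {x : Wd K} (hx : x ∈ E) (ha : x.a = 0) : x ∈ Z3 K :=
  ⟨ha, hE.q1 hx, hE.a0 x hx ha⟩

theorem nr_Z2 (i : Function.Injective j) (hE : Gr E) : nr j E ≤ nr j (Z2 K) := fun g hg =>
  nr_rc i 0 hg hg nr_bot fun x => ⟨fun hx => ⟨hE.z3 (Z2_le hx), by simp, fun y hy => by
    rw [mem_bot, ← commutatorElement_inv, comm_Z2 (hE.q1 hy) hx, inv_one]⟩, fun ⟨hx, _, b⟩ => by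
    have ha : x.a = 0 := T_nd fun d => by
      have := mem_bot.1 (b (gd d) (hE.z3 ⟨rfl, rfl, rfl⟩))
      rw [comm_Z3 rfl rfl rfl] at this
      exact congrArg Wd.e this
    have h3 := z3_of hE hx ha
    refine ⟨h3.1, h3.2.1, h3.2.2, T_nd fun a => ?_⟩
    obtain ⟨y, hy, rfl⟩ := hE.all a
    have := mem_bot.1 (b y hy)
    rw [← commutatorElement_inv, inv_eq_one, comm_Z3 h3.1 h3.2.1 h3.2.2] at this
    rw [mul_comm]
    exact congrArg Wd.e this⟩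

variable {c : Wd K → K × K}

theorem Cd.zero (o : Cd E c) (hE : Gr E) {x : Wd K} (hx : x ∈ E) : c x = 0 ↔ x ∈ Z2 K := by
  constructor
  · intro h
    have ha : x.a = 0 := by rw [← o.c2, h]; rfl
    have h3 := z3_of hE hx ha
    exact ⟨h3.1, h3.2.1, h3.2.2, by rw [← o.c1 x h3, h]; rfl⟩
  · intro h
    exact Prod.ext ((o.c1 x (Z2_le h)).trans h.2.2.2) ((o.c2 x).trans h.1)

theorem Cd.co (o : Cd E c) (i : Function.Injective j) (hE : Gr E) : Co j E c :=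
  ⟨o.add, fun v => by
    obtain ⟨x, hx, e⟩ := hE.all v.2
    have h3 : gd (v.1 - (c x).1) ∈ Z3 K := ⟨rfl, rfl, rfl⟩
    refine ⟨x * gd (v.1 - (c x).1), mul_mem hx (hE.z3 h3), ?_⟩
    rw [o.add _ hx _ (hE.z3 h3)]
    apply Prod.ext
    · rw [Prod.fst_add, o.c1 _ h3]; simp [gd]
    · rw [Prod.snd_add, o.c2, o.c2, e]; simp [gd],
    fun g hg x hx y hy e h => (o.zero hE hy).2 (e.mem i (nr_Z2 i hE hg) ((o.zero hE hx).1 h))⟩

theorem Cd.ac (o : Cd E c) (i : Function.Injective j) (hE : Gr E) {w : Wd K} (hw : w.b = 0) {s : K}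
    (hs : ∀ x ∈ E, cr w.a x.c - cr x.a w.c = cr s x.a) : Ac j E c (j w) (uS s) :=
  ⟨self_nr fun x hx => hE.z3 (comm_memQ1 hw (hE.q1 hx)), fun x hx y _ e => by
    obtain rfl := e.uniq i (Cj.self w x)
    have h3 := comm_memQ1 hw (hE.q1 hx)
    have e1 : w * x * w⁻¹ = ⁅w, x⁆ * x := by simp [commutatorElement_def]
    rw [e1, o.add _ (hE.z3 h3) _ hx, uS_smul]
    apply Prod.ext
    · rw [Prod.fst_add, o.c1 _ h3, comm_d hw (hE.q1 hx), hs x hx, o.c2, add_comm]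
    · rw [Prod.snd_add, o.c2 ⁅w, x⁆, comm_a, zero_add]⟩

theorem Cd.sf (o : Cd E c) (F : Cf p j) (hE : Gr E) (h : Es p j E) :
    Sf p (au F.inj E c ⊤) (au F.inj E c j.range) uS := by
  have co := o.co F.inj hE
  refine ⟨co.syl F h.2.1, fun φ => ⟨?_, ?_⟩, fun _ _ _ => rfl⟩
  · rintro ⟨_, ⟨w, rfl⟩, a⟩
    have hw : w.b = 0 := by
      obtain ⟨x, hx, e⟩ := hE.all 1
      have h1 : ⁅w, x⁆ ∈ E := mul_mem ((Cj.self w x).mem F.inj a.1 hx) (inv_mem hx)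
      have h2 := hE.a0 _ h1 (comm_a w x)
      rw [comm_c, mem_Q1.1 (hE.q1 hx), e] at h2
      apply ι_inj (J := K)
      simpa using h2
    obtain ⟨w0, hw0, e⟩ := hE.all w.a
    refine ⟨w0.c - w.c, co.uniq a (o.ac F.inj hE hw fun x hx => ?_)⟩
    have := hE.cm w0 hw0 x hx
    rw [comm_d (hE.q1 hw0) (hE.q1 hx), e, sub_eq_zero] at this
    rw [this, sub_cr, cr_comm w0.c, cr_comm w.c]
  · rintro ⟨s, rfl⟩
    refine ⟨_, ⟨gc (-s), rfl⟩, o.ac F.inj hE rfl fun x hx => ?_⟩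
    simp [gc, cr_comm s]

theorem Cd.fin (o : Cd E c) (F : Cf p j) (hE : Gr E) (h : Es p j E)
    (hH : au F.inj E c ⊤ ≤ sb _ (ax K)) : False := by
  have h3 : nr j E ≤ nr j (Z3 K) := (o.co F.inj hE).nr_le hE.z3 (fun x hx => by
    rw [mem_ax, o.c2]
    exact ⟨z3_of hE hx, fun e => e.1⟩) hH
  have := h.chain F h3 (nr_Z2 F.inj hE) (fun _ _ => nr_bot) (self_ch (t := gc 1) hE.z3 Z2_le bot_le
    (fun x hx => comm_memQ1 rfl (hE.q1 hx)) (fun x hx => comm_mem2 _ hx)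
    (fun x hx => mem_bot.2 (comm_Z2 rfl hx)) (by simp))
  exact one_ne_zero (hE.a0 _ this rfl)

theorem gr_rm (μ : k) : Gr (Rm K μ) :=
  ⟨fun x hx => ⟨hx.2.1, by rw [hx.2.2, hx.1, mul_zero]⟩, fun x hx => hx.1,
    fun x hx ha => by rw [hx.2, ha, mul_zero], fun a => ⟨⟨a, 0, ι μ * a, 0, 0, 0⟩, ⟨rfl, rfl⟩, rfl⟩,
    fun x hx y hy => by rw [comm_d hx.1 hy.1, hx.2, hy.2, cr_ι, cr_ι, cr_comm, sub_self]⟩

theorem comm_rm {μ : k} {x y : Wd K} (hx : x ∈ Rm K μ) (hy : y ∈ Rm K μ) : ⁅x, y⁆ =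
    ⟨0, 0, 0, 0, T (x.a * (y.d - ι μ * sh y.a)) - T ((x.d - ι μ * sh x.a) * y.a),
      -μ * (T (x.a * (y.d - ι μ * sh y.a)) - T ((x.d - ι μ * sh x.a) * y.a))⟩ := by
  wdw [hx.1, hx.2, hy.1, hy.2]

end NG

open NG in
theorem no_gr (F : Cf p j) (h2 : (2 : k) ≠ 0) (hE : Gr E) : ¬ Es p j E := fun h => by
  have h2' : (2 : K) ≠ 0 := fun e => h2 (two_iff.1 e)
  have o : Cd E fun x => (x.d - 2⁻¹ * cr x.a x.c, x.a) := by
    refine ⟨fun x hx y hy => ?_, fun _ => rfl, fun x hx => by simp [hx.1]⟩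
    have e := hE.cm x hx y hy
    rw [comm_d (hE.q1 hx) (hE.q1 hy), sub_eq_zero] at e
    apply Prod.ext
    · simp only [Wd.mul_a, Wd.mul_c, Wd.mul_d, mem_Q1.1 (hE.q1 hy), map_zero, zero_mul, add_zero, cr_add, add_cr,
        Prod.fst_add, ← e]
      field_simp
      ring
    · rfl
  exact o.fin F hE h ((o.sf F hE h).odd h2)

open NG in
theorem no_rm (F : Cf p j) (h2 : (2 : k) = 0) (μ : k) : ¬ Es p j (Rm K μ) := fun h => by
  have hE := gr_rm (K := K) μ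
  have o : Cd (Rm K μ) fun x => (x.d - ι μ * sh x.a, x.a) := by
    refine ⟨fun x hx y hy => ?_, fun _ => rfl, fun x hx => by simp [hx.1]⟩
    apply Prod.ext
    · simp only [Wd.mul_a, Wd.mul_d, hy.1, hy.2, map_zero, zero_mul, add_zero, sh_add, cr_ι, Prod.fst_add]
      ring
    · rfl
  refine o.fin F hE h ((o.sf F hE h).two h2 ?_)
  rintro φ ⟨g, -, a⟩ v w e
  obtain ⟨x, hx, rfl⟩ := (o.co F.inj hE).surj v
  obtain ⟨y, hy, rfl⟩ := (o.co F.inj hE).surj w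
  obtain ⟨x', hx', e1⟩ := nr_cj a.1 hx
  obtain ⟨y', hy', e2⟩ := nr_cj a.1 hy
  rw [a.2 x hx x' hx' e1, a.2 y hy y' hy' e2]
  have e3 := e1.comm e2
  have e4 : ⁅x, y⁆ = 1 := by
    rw [comm_rm hx hy, sub_eq_zero.2 e.symm, mul_zero]; rfl
  rw [e4] at e3
  have e5 := e3.uniq F.inj (z := 1) (by simp [Cj])
  rw [comm_rm hx' hy'] at e5
  exact (sub_eq_zero.1 (congrArg Wd.e e5)).symm

end H69.T3
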