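import Mathlib
import Cfsg.Agent.Lib.T3F.Defs
import Cfsg.Agent.Lib.T3F.FL
import Cfsg.Agent.Lib.T3F.TL0

set_option autoImplicit false
set_option linter.unusedSectionVars false
set_option linter.unusedVariables false

namespace H69.T3

open H89.D4S Subgroup
open H93.SX hiding sh
open H68 (SylowIn)
open scoped commutatorElement

variable {k K : Type*} [Field k] [Field K] [Cub k K] [Finite k] [Finite K] [Fc K]
  {M E : Subgroup (Wd K)} {𝒜 : Set (Wd K → Wd K)}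

namespace S1

theorem cflip {A : Subgroup (Wd K)} {x y : Wd K} (h : ⁅x, y⁆ ∈ A) : ⁅y, x⁆ ∈ A := by
  rw [← commutatorElement_inv]; exact inv_mem h

theorem gf_eq {z : Wd K} (h : z ∈ Z1 K) : z = gf z.f := by
  obtain ⟨h1, h2, h3, h4, h5⟩ := h
  ext <;> simp [gf, *]

theorem comm_ge (x : Wd K) (t : k) : ⁅x, (ge t : Wd K)⁆ = gf (x.b * t) := by
  rw [comm_Z3 rfl rfl rfl]
  simp [ge, gf]

theorem z1 (h : Gd ⊤ E 𝒜) : Z1 K ≤ E := fun _ ht =>
  h.cent (mem_top _) fun x _ => cflip (comm_mem0 x ht ▸ one_mem _)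

theorem mktv (h : Gd ⊤ E 𝒜) (hn : ¬ Z2 K ≤ E) : Tv ⊤ E 𝒜 (Z2 K) ⊥ (Z1 K) (E ⊓ Q1 K) where
  le := le_top
  nle := hn
  nz := bot_le
  zy := le_inf (z1 h) fun _ hz => hz.2.1
  ye := inf_le_left
  iv := h.iv_bot
  te t ht x _ := cflip (comm_mem1 x ht)
  ty t ht x hx := cflip (by
    have hb : x.b = 0 := hx.2
    rw [comm_Z3 ht.1 ht.2.1 ht.2.2.1, mem_bot, Wd.eq_one]
    simp [hb, ht.2.2.2])
  tn t _ x hx := by rw [mem_bot.1 hx, commutatorElement_one_right]; exact one_mem _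
  ze z hz x _ := cflip (comm_mem0 x hz ▸ one_mem _)
  surj f hf z hz hy z' hz' := by
    have b0 : (f z).b ≠ 0 := fun e => hy ⟨(h.au f hf).mem z (z1 h hz), e⟩
    refine ⟨ge (-(z'.f / (f z).b)), ⟨rfl, rfl, rfl, rfl⟩, ?_⟩
    rw [← commutatorElement_inv, comm_ge, mul_neg, mul_div_cancel₀ _ b0, gf_eq hz', mem_bot, Wd.eq_one]
    simp [gf]

end S1

open S1

theorem Gd.z2 {p : ℕ} [Fact p.Prime] [CharP K p] (h : Gd ⊤ E 𝒜) : Z2 K ≤ E := by
  by_contra hn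
  have v := mktv h hn
  obtain ⟨f, hf, q⟩ := h.tv _ _ _ _ v
  have au := h.au f hf
  have Z1E := z1 h
  obtain ⟨D, S⟩ := h.tv2 v hf q (by
    have e1 := card_le_of_ker (E := E) (Y := E ⊓ Q1 K) inf_le_left (fun x => x.b) fun x hx y hy e =>
      mem_inf.2 ⟨mul_mem (inv_mem hx) hy, by simp [show x.b = y.b from e]⟩
    have e2 := le_card_of_inj (N := ⊥) (Z := Z1 K) bot_le (fun t : k => gf t)
      (fun _ => ⟨rfl, rfl, rfl, rfl, rfl⟩) fun a b e => by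
        have := (Wd.eq_one.1 (mem_bot.1 e)).2.2.2.2.2
        simp only [gf, Wd.mul_f, Wd.inv_f, Wd.inv_a, Wd.inv_d, Wd.inv_e] at this
        simp at this
        linear_combination -this
    rw [card_bot, one_mul] at e2
    rw [card_bot, mul_one]
    exact e1.trans (Nat.mul_le_mul_left _ e2))
  have cen : ∀ z ∈ Z1 K, ∀ x ∈ E, ⁅x, f z⁆ = 1 := fun z hz x hx => by
    obtain ⟨y, hy, rfl⟩ := au.surj hx
    rw [← au.comm hy (Z1E hz), comm_mem0 y hz, au.one]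
  have z0 : (gf 1 : Wd K) ∈ Z1 K := ⟨rfl, rfl, rfl, rfl, rfl⟩
  obtain ⟨w, hw⟩ : ∃ w, w = f (gf 1) := ⟨_, rfl⟩
  have wE : w ∈ E := hw ▸ au.mem _ (Z1E z0)
  have wc : ∀ x ∈ E, ⁅x, w⁆ = 1 := hw ▸ cen _ z0
  have wc' : ∀ x ∈ E, ⁅w, x⁆ = 1 := fun x hx => by rw [← commutatorElement_inv, wc x hx, inv_one]
  have b0 : w.b ≠ 0 := fun e => by
    have := mem_bot.1 (q.a _ z0 ⟨hw ▸ wE, show (f (gf 1)).b = 0 from hw ▸ e⟩)
    simpa [gf] using (Wd.eq_one.1 this).2.2.2.2.2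
  have b0' : (ι w.b : K) ≠ 0 := by simpa using b0
  have ab : ∀ x ∈ E, ι w.b * x.a = ι x.b * w.a := fun x hx => by
    have := comm_c x w
    rw [wc x hx] at this
    exact (sub_eq_zero.1 this.symm)
  by_cases a0 : w.a = 0
  · have EQ : ∀ x ∈ E, x ∈ Q2 K := fun x hx => by
      have := ab x hx
      rw [a0, mul_zero] at this
      exact (mul_eq_zero.1 this).resolve_left b0'
    obtain ⟨c, hc⟩ := T_surj (K := K) one_ne_zero 1
    obtain ⟨t, ht, e⟩ := S (gd 1) (mem_top _) fun x hx => v.zy (comm_memQ2 rfl (EQ x hx))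
    obtain ⟨t', ht', e'⟩ := S (gc c) (mem_top _) fun x hx => v.zy (comm_memQ2 rfl (EQ x hx))
    have := q.a _ (comm_memQ2 (EQ _ e) (EQ _ e')) (by
      rw [au.comm e e']
      exact mem_inf.2 ⟨mul_mem (mul_mem (mul_mem (au.mem _ e) (au.mem _ e')) (inv_mem (au.mem _ e)))
        (inv_mem (au.mem _ e')), comm_b _ _⟩)
    rw [comm_Q2 (EQ _ e) (EQ _ e'), mem_bot, Wd.eq_one] at this
    obtain ⟨t1, t2, t3, t4⟩ := ht
    obtain ⟨s1, s2, s3, s4⟩ := ht'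
    rw [one_mul] at hc
    simpa [gf, gd, gc, t1, t2, t3, t4, s1, s2, s3, s4, hc] using this.2.2.2.2.2
  by_cases h2 : (2 : k) = 0
  · have e : w * w = 1 := by
      rw [hw, ← au.mul _ (Z1E z0) _ (Z1E z0), ← au.one]
      congr 1
      rw [Wd.eq_one]
      simpa [gf, one_add_one_eq_two] using h2
    have := (Wd.eq_one.1 e).2.2.1
    rw [Wd.mul_c, ← two_mul, two_iff.2 h2, zero_mul, zero_add] at this
    exact mul_ne_zero b0' a0 this
  have Y3 : ∀ y ∈ E, y.b = 0 → y ∈ Z3 K := fun y hy hb => by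
    have ha : y.a = 0 := by
      have := ab y hy
      rw [hb, map_zero, zero_mul] at this
      exact (mul_eq_zero.1 this).resolve_left b0'
    have := (comm_Z4 (x := w) ha hb).2.1
    rw [wc' y hy] at this
    exact ⟨ha, hb, cr_eq_zero h2 a0 this.symm⟩
  have c33 : ∀ x ∈ Z3 K, ∀ y ∈ Z3 K, ⁅x, y⁆ = 1 := fun x hx y hy => by
    rw [comm_Z3 hy.1 hy.2.1 hy.2.2, Wd.eq_one]
    simp [hx.1, hx.2.1, hx.2.2]
  have tr : ∀ x ∈ E, ∀ d, T (w.a * d) = 0 → T (x.a * d) = 0 := fun x hx d hd => by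
    have : w.b * T (x.a * d) = 0 := by
      rw [← T_ι_mul, ← mul_assoc, ab x hx, mul_assoc, T_ι_mul, hd, mul_zero]
    exact (mul_eq_zero.1 this).resolve_left b0
  have key : ∀ u ∈ Z3 K, ⁅w, u⁆ = 1 → u ∈ E := fun u hu e => by
    rw [comm_Z3 hu.1 hu.2.1 hu.2.2, Wd.eq_one] at e
    obtain ⟨-, -, -, -, e1, e2⟩ := e
    obtain ⟨t, ⟨t1, t2, t3, t4⟩, ht⟩ := S (gd u.d) (mem_top _) fun x hx => v.zy (cflip (by
      rw [comm_Z3 rfl rfl rfl]
      exact ⟨rfl, rfl, rfl, rfl, tr x hx _ e1⟩))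
    have yd : (t * gd u.d).d = u.d := by simp [gd, t1, t4]
    have y3 := Y3 _ ht (by simp [gd, t2])
    generalize t * gd u.d = y at ht yd y3
    have e := wc' y ht
    rw [comm_Z3 y3.1 y3.2.1 y3.2.2, Wd.eq_one, yd] at e
    have ye : u.e = y.e := mul_left_cancel₀ b0 (by linear_combination e2 - e.2.2.2.2.2)
    have : u * y⁻¹ ∈ Z1 K := by simp [hu.1, hu.2.1, hu.2.2, y3.1, y3.2.1, y3.2.2, yd, ye]
    simpa using mul_mem (Z1E this) ht
  obtain ⟨c, c0, hc, -⟩ := exists_perp (sh w.a) 0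
  have hc2 : T (w.a * cr w.a c) = 0 := by rw [T_cr_self', mul_comm (sh w.a), hc, mul_zero]
  obtain ⟨d, hd⟩ := T_surj a0 (T (w.c * cr w.a c) / w.b)
  obtain ⟨s, hs⟩ : ∃ s : Wd K, s = ⟨0, 0, c, d, 0, 0⟩ := ⟨_, rfl⟩
  have s4 : s ∈ Z4 K := hs ▸ ⟨rfl, rfl⟩
  have u3 := comm_mem3 w s4
  have uE : ⁅w, s⁆ ∈ E := key _ u3 (by
    obtain ⟨-, e1, e2⟩ := comm_Z4 (x := w) s4.1 s4.2
    rw [comm_Z3 u3.1 u3.2.1 u3.2.2, Wd.eq_one, e1, e2, hs]
    refine ⟨rfl, rfl, rfl, rfl, hc2, ?_⟩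
    simp only [hc2, hd, mul_comm (sh w.a), hc]
    field_simp
    ring)
  obtain ⟨t, ht, e⟩ := S s (mem_top _) fun x hx => by
    have x3 := comm_mem3 x s4
    refine cflip ⟨key _ x3 ?_, x3.2.1⟩
    have e1 : ⁅x, ⁅w, s⁆⁆ = 1 := by
      obtain ⟨y, hy, z, hz, rfl⟩ := D x hx
      have e2 := commutatorElement_eq_one_iff_commute.1 (c33 y (Y3 y hy.1 hy.2) _ u3)
      have e3 := commutatorElement_eq_one_iff_commute.1 (cen z hz _ uE)
      exact commutatorElement_eq_one_iff_commute.2 (e2.mul_left e3.symm)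
    have e2 := commutatorElement_eq_one_iff_mul_comm.1 (c33 _ x3 _ u3)
    have e3 := commutatorElement_eq_one_iff_mul_comm.1 (wc x hx)
    rw [commutatorElement_eq_one_iff_mul_comm] at e1 ⊢
    have e4 : w * ⁅x, s⁆ * w⁻¹ * ⁅w, s⁆ = x * ⁅w, s⁆ * x⁻¹ * ⁅x, s⁆ := by
      calc w * ⁅x, s⁆ * w⁻¹ * ⁅w, s⁆ = w * x * s * (w * x)⁻¹ * s⁻¹ := by
            simp only [commutatorElement_def]; group
        _ = _ := by rw [← e3]; simp only [commutatorElement_def]; group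
    rw [e1, mul_inv_cancel_right, ← e2] at e4
    rw [← mul_right_cancel e4]
    nth_rewrite 1 [mul_right_cancel e4]
    group
  have := (Y3 _ e (by simp [ht.2.1, s4.2])).2.2
  rw [Wd.mul_c, ht.2.2.1, s4.2, hs] at this
  exact c0 (by simpa using this)

theorem Gd.eq_Q2 (h : Gd ⊤ E 𝒜) (h2 : Z2 K ≤ E) (h1 : ¬ E ≤ Q1 K) (h3 : E ≤ Q2 K) : E = Q2 K := by
  obtain ⟨x, hx, hb⟩ := SetLike.not_le_iff_exists.1 h1
  refine le_antisymm h3 fun t ht => h.cent (mem_top _) fun y hy => ?_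
  have hz := comm_memQ2 ht (h3 hy)
  rw [gf_eq hz, ← mul_div_cancel₀ (⁅t, y⁆).f hb, ← comm_ge]
  exact commutator_mem_commutator hx (h2 ⟨rfl, rfl, rfl, rfl⟩)

theorem Gd.ne_Z4 (h : Gd ⊤ E 𝒜) : E ≠ Z4 K := by
  rintro rfl
  have : (gb 1 : Wd K) ∈ Z4 K := h.cent (mem_top _) fun y hy => by
    have hz := comm_memQ2 (x := gb 1) rfl (Z4_le2 hy)
    obtain ⟨c, hc⟩ := T_surj (K := K) one_ne_zero (⁅(gb 1 : Wd K), y⁆).f
    have e : ⁅(gd 1 : Wd K), gc c⁆ = gf (T (1 * c)) := by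
      rw [comm_Q2 rfl rfl]; simp [gd, gc]
    rw [gf_eq hz, ← hc, ← e]
    exact commutator_mem_commutator ⟨rfl, rfl⟩ ⟨rfl, rfl⟩
  exact one_ne_zero this.2

end H69.T3
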