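import Mathlib
import Cfsg.Agent.Lib.T3F.Defs

set_option autoImplicit false
set_option linter.unusedSectionVars false
set_option linter.unusedVariables false

namespace H69.T3

open H89.D4S Subgroup
open H93.SX hiding sh
open H68 (SylowIn)
open scoped commutatorElement


universe u

namespace TV

open H93.R3 (cn ph mem_cn conj_mem_cn cn_mono cn_le conj_mem conj_mem' mem_norm mem_rc comm_mem_of_coprime
  cent_of_ph eq_ph norm_comm comm_symm conj_comm mem_of_div exists_emb)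

local notation:max "nm⟪" A "⟫" => Subgroup.normalizer (SetLike.coe A)
local notation:max "ct⟪" A "⟫" => Subgroup.centralizer (SetLike.coe A)

variable {Γ : Type*} [Group Γ] {p : ℕ} {S E T N Z Y M A : Subgroup Γ} {a g t z : Γ}

/-- The hypotheses inside the ambient group. -/
structure Hy (p : ℕ) (S E T N Z Y M : Subgroup Γ) : Prop where
  pE : IsPGroup p E
  le : T ≤ S
  nle : ¬ T ≤ E
  nz : N ≤ Z
  zy : Z ≤ Y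
  ye : Y ≤ E
  nN : nm⟪E⟫ ≤ nm⟪N⟫
  te : ∀ t ∈ T, ∀ x ∈ E, ⁅t, x⁆ ∈ Z
  ty : ∀ t ∈ T, ∀ x ∈ Y, ⁅t, x⁆ ∈ N
  tn : ∀ t ∈ T, ∀ x ∈ N, ⁅t, x⁆ ∈ ⁅E, E⁆
  ze : ∀ z ∈ Z, ∀ x ∈ E, ⁅z, x⁆ ∈ N
  surj : ∀ a ∈ nm⟪E⟫, ∀ z ∈ Z, a * z * a⁻¹ ∉ Y → ∀ z' ∈ Z, ∃ t ∈ T, ⁅t, a * z * a⁻¹⁆ * z'⁻¹ ∈ N
  m3 : ∀ t ∈ S ⊓ nm⟪E⟫, t ∉ E → ∀ a ∈ nm⟪E⟫, a⁻¹ * t * a ∈ M → a ∈ M
  m4 : ∀ t₁ ∈ S ⊓ nm⟪E⟫, t₁ ∉ E → ∀ t₂ ∈ S ⊓ nm⟪E⟫, t₂ ∉ E → ∀ a ∈ nm⟪E⟫, ∀ Q ≤ nm⟪E⟫,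
      (∀ x ∈ Q, (orderOf x).Coprime p → x ∈ ct⟪E⟫) → t₁ ∈ Q → a * t₂ * a⁻¹ ∈ Q → a ∈ M

/-- The elements of `Z` that `a` conjugates into `Y`. -/
def D (Z Y : Subgroup Γ) (a : Γ) : Subgroup Γ := Z ⊓ cn a⁻¹ Y

theorem mem_D : z ∈ D Z Y a ↔ z ∈ Z ∧ a * z * a⁻¹ ∈ Y := by
  rw [D, mem_inf, mem_cn, inv_inv]

/-- The stabiliser of the chain. -/
def Qc (E A N : Subgroup Γ) : Subgroup Γ :=
  nm⟪E⟫ ⊓ H2.relCentralizer E A ⊓ H2.relCentralizer A N ⊓ H2.relCentralizer N ⁅E, E⁆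

theorem conj_comm' (g t x : Γ) : ⁅g * t * g⁻¹, x⁆ = g * ⁅t, g⁻¹ * x * g⁆ * g⁻¹ := by
  simp only [commutatorElement_def]; group

variable [Finite Γ] [Fact p.Prime] (h : Hy p S E T N Z Y M)
include h

theorem Hy.nE (ht : t ∈ T) : t ∈ nm⟪E⟫ :=
  mem_norm fun x hx => mem_of_div (h.ye (h.zy (h.te t ht x hx))) hx

theorem Hy.le_D (ha : a ∈ nm⟪E⟫) : N ≤ D Z Y a := fun x hx =>
  mem_D.2 ⟨h.nz hx, h.zy (h.nz (conj_mem (h.nN ha) hx))⟩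

theorem Hy.mem_Qc (ht : t ∈ T) (hg : g ∈ nm⟪E⟫) (h1 : cn g Z ≤ A) (h2 : A ≤ cn g Y) :
    g * t * g⁻¹ ∈ Qc E A N := by
  have n : g * t * g⁻¹ ∈ nm⟪E⟫ := mul_mem (mul_mem hg (h.nE ht)) (inv_mem hg)
  have n' : ∀ x ∈ nm⟪E⟫, x ∈ nm⟪⁅E, E⁆⟫ := fun x hx => norm_comm le_rfl le_rfl hx
  have e1 : ∀ x ∈ E, ⁅g * t * g⁻¹, x⁆ ∈ A := fun x hx => by
    rw [conj_comm']; exact h1 (conj_mem_cn (h.te t ht _ (conj_mem' hg hx)))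
  have hA : A ≤ E := h2.trans (cn_le h.ye hg)
  refine ⟨⟨⟨n, mem_rc.2 ⟨mem_norm fun x hx => mem_of_div (e1 x (hA hx)) hx, e1⟩⟩,
    mem_rc.2 ⟨h.nN n, fun x hx => ?_⟩⟩, mem_rc.2 ⟨n' _ n, fun x hx => ?_⟩⟩
  · rw [conj_comm']; exact conj_mem (h.nN hg) (h.ty t ht _ (mem_cn.1 (h2 hx)))
  · rw [conj_comm']; exact conj_mem (n' _ hg) (h.tn t ht _ (conj_mem' (h.nN hg) hx))

theorem Hy.cent_Qc (hA : A ≤ E) (hg : g ∈ Qc E A N) (o : (orderOf g).Coprime p) : g ∈ ct⟪E⟫ := by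
  obtain ⟨⟨⟨n, e1⟩, e2⟩, e3⟩ := hg
  have e1 := mem_rc.1 e1
  have e2 := mem_rc.1 e2
  have e3 := mem_rc.1 e3
  refine cent_of_ph h.pE o n fun y hy => (eq_ph h.pE).comm ?_
  exact comm_mem_of_coprime (h.pE.to_le (h.nz.trans (h.zy.trans h.ye))) o e3.1
    (comm_mem_of_coprime (h.pE.to_le hA) o e2.1 (e1.2 y hy) e2.2) e3.2

theorem Hy.one (ha : a ∈ nm⟪E⟫) (h1 : Z ≤ D Z Y a) (h2 : Z ≤ D Z Y a⁻¹) : a ∈ M := by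
  obtain ⟨t, ht, ht'⟩ := SetLike.not_le_iff_exists.1 h.nle
  have hS : t ∈ S ⊓ nm⟪E⟫ := ⟨h.le ht, h.nE ht⟩
  have h3 : cn a Z ≤ Y := H93.R3.cn_le_iff.2 fun x hx => (mem_D.1 (h1 hx)).2
  have h4 : Z ≤ cn a Y := fun x hx => mem_cn.2 (by simpa using (mem_D.1 (h2 hx)).2)
  have h5 : Z ⊔ cn a Z ≤ Y := sup_le h.zy h3
  refine h.m4 t hS ht' t hS ht' a ha (Qc E (Z ⊔ cn a Z) N) (fun x hx => hx.1.1.1)
    (fun x hx => h.cent_Qc (h5.trans h.ye) hx) ?_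
    (h.mem_Qc ht ha le_sup_right (sup_le h4 (cn_mono h.zy)))
  have := h.mem_Qc (A := Z ⊔ cn a Z) ht (one_mem _) (fun x hx => mem_sup_left (by simpa using mem_cn.1 hx))
    fun x hx => mem_cn.2 (by simpa using h5 hx)
  simpa using this

theorem Hy.lt (ha : a ∈ nm⟪E⟫) (ht : t ∈ T) (hz : z ∈ Z) (h1 : a * z * a⁻¹ ∉ Y)
    (h2 : a⁻¹ * ⁅t, a * z * a⁻¹⁆ * a ∈ Y) : D Z Y a < D Z Y (a⁻¹ * t * a) := by
  have k : ∀ x, a⁻¹ * t * a * x * (a⁻¹ * t * a)⁻¹ = a⁻¹ * ⁅t, a * x * a⁻¹⁆ * a * x := fun x => by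
    simp only [commutatorElement_def]; group
  refine lt_of_le_not_ge (fun x hx => ?_) fun e => h1 (mem_D.1 (e (mem_D.2 ⟨hz, ?_⟩))).2
  · obtain ⟨x1, x2⟩ := mem_D.1 hx
    refine mem_D.2 ⟨x1, ?_⟩
    rw [k]
    exact mul_mem (h.zy (h.nz (conj_mem' (h.nN ha) (h.ty t ht _ x2)))) (h.zy x1)
  · rw [k]; exact mul_mem h2 (h.zy hz)

theorem Hy.two (ha : a ∈ nm⟪E⟫) (hm : a ∉ M) (h1 : ¬ Z ≤ D Z Y a) (h2 : ¬ D Z Y a⁻¹ ≤ N) :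
    ∃ c ∈ nm⟪E⟫, c ∉ M ∧ D Z Y a < D Z Y c ∧ D Z Y a < D Z Y c⁻¹ := by
  obtain ⟨z, hz, hz'⟩ := SetLike.not_le_iff_exists.1 h1
  obtain ⟨w, hw, hw'⟩ := SetLike.not_le_iff_exists.1 h2
  obtain ⟨w1, w2⟩ := mem_D.1 hw
  rw [inv_inv] at w2
  have h3 : a * z * a⁻¹ ∉ Y := fun e => hz' (mem_D.2 ⟨hz, e⟩)
  obtain ⟨t, ht, e⟩ := h.surj a ha z hz h3 w w1
  have ny : ∀ x ∈ N, a⁻¹ * x * a ∈ Y := fun x hx => h.zy (h.nz (conj_mem' (h.nN ha) hx))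
  have h4 : a⁻¹ * ⁅t, a * z * a⁻¹⁆ * a ∈ Y := by
    have := mul_mem (ny _ e) w2
    rwa [show ∀ u : Γ, a⁻¹ * (u * w⁻¹) * a * (a⁻¹ * w * a) = a⁻¹ * u * a from fun u => by group] at this
  have h5 : t ∉ E := fun hE => hw' (by
    have := conj_mem (h.nN ha) (comm_symm (h.ze z hz _ (conj_mem' ha hE)))
    rw [conj_comm, show a * (a⁻¹ * t * a) * a⁻¹ = t by group] at this
    have := mul_mem (inv_mem e) this
    rwa [mul_inv_rev, inv_inv, inv_mul_cancel_right] at this)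
  refine ⟨a⁻¹ * t * a, mul_mem (mul_mem (inv_mem ha) (h.nE ht)) ha,
    fun e' => hm (h.m3 t ⟨h.le ht, h.nE ht⟩ h5 a ha e'), h.lt ha ht hz h3 h4, ?_⟩
  rw [show (a⁻¹ * t * a)⁻¹ = a⁻¹ * t⁻¹ * a by group]
  refine h.lt ha (inv_mem ht) hz h3 ?_
  have h6 := h.ty _ (inv_mem ht) _ (inv_mem (h.zy (h.te t ht _ (conj_mem ha (h.ye (h.zy hz))))))
  have := mul_mem (ny _ h6) (inv_mem h4)
  convert this using 1
  simp only [commutatorElement_def]; group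

theorem Hy.three (X : Subgroup Γ) : ∀ a ∈ nm⟪E⟫, a ∉ M → D Z Y a = X →
    Nat.card (D Z Y a) ≤ Nat.card (D Z Y a⁻¹) → D Z Y a⁻¹ ≤ N := by
  induction X using WellFoundedGT.induction with
  | ind X ih =>
  rintro a ha hm rfl hc
  by_contra h2
  have h1 : ¬ Z ≤ D Z Y a := fun e => hm (h.one ha e
    (eq_of_le_of_card_ge (inf_le_left : D Z Y a⁻¹ ≤ Z) ((card_le_of_le e).trans hc)).ge)
  obtain ⟨c, c1, c2, c3, c4⟩ := h.two ha hm h1 h2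
  rcases le_total (Nat.card (D Z Y c)) (Nat.card (D Z Y c⁻¹)) with e | e
  · exact c4.not_ge ((ih _ c3 c c1 c2 rfl e).trans (h.le_D ha))
  · have := ih _ c4 c⁻¹ (inv_mem c1) (fun e => c2 (inv_mem_iff.1 e)) rfl (by rwa [inv_inv])
    rw [inv_inv] at this
    exact c3.not_ge (this.trans (h.le_D ha))

theorem Hy.four (ha : a ∈ nm⟪E⟫) (hm : a ∉ M) : D Z Y a ≤ N := by
  rcases le_total (Nat.card (D Z Y a)) (Nat.card (D Z Y a⁻¹)) with e | e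
  · exact (eq_of_le_of_card_ge (h.le_D ha) (e.trans (card_le_of_le (h.three _ a ha hm rfl e)))).ge
  · have := h.three _ a⁻¹ (inv_mem ha) (fun e => hm (inv_mem_iff.1 e)) rfl (by rwa [inv_inv])
    rwa [inv_inv] at this

theorem Hy.ne (ha : a ∈ nm⟪E⟫) (hm : a ∉ M) : ¬ Z ≤ N := fun e =>
  hm (h.one ha (e.trans (h.le_D ha)) (e.trans (h.le_D (inv_mem ha))))

end TV

variable {W : Type*} [Group W] {Γ : Type u} [Group Γ] [Finite Γ] {p : ℕ} [Fact p.Prime] {j : W →* Γ}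
  {E T N Z Y : Subgroup W}

theorem es_tv (F : Cf p j) (h : Es p j E) {𝒜 : Set (W → W)}
    (h𝒜 : ∀ f, f ∈ 𝒜 ↔ ∃ g ∈ nr j E, ∀ x ∈ E, Cj j g x (f x)) (v : Tv ⊤ E 𝒜 T N Z Y) :
    ∃ f ∈ 𝒜, Tq ⊤ E N Z Y f := by
  obtain ⟨M, -, m2, m3, m4⟩ := H93.R3.exists_emb F.pr F.sat h
  have ex : ∀ g ∈ nr j E, ∃ f ∈ 𝒜, ∀ x ∈ E, Cj j g x (f x) := fun g hg => by
    have : ∀ x, ∃ y, x ∈ E → Cj j g x y := fun x => by
      by_cases hx : x ∈ E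
      · obtain ⟨y, -, e⟩ := nr_cj hg hx
        exact ⟨y, fun _ => e⟩
      · exact ⟨x, fun e => (hx e).elim⟩
    choose f hf using this
    exact ⟨f, (h𝒜 f).2 ⟨g, hg, hf⟩, hf⟩
  have mm : ∀ {X : Subgroup W} {x : W}, j x ∈ X.map j ↔ x ∈ X := mem_map_iff_mem F.inj
  have cm : ∀ {A B C : Subgroup W}, (∀ t ∈ A, ∀ x ∈ B, ⁅t, x⁆ ∈ C) →
      ∀ t ∈ A.map j, ∀ x ∈ B.map j, ⁅t, x⁆ ∈ C.map j := by
    rintro A B C e _ ⟨t, ht, rfl⟩ _ ⟨x, hx, rfl⟩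
    rw [← map_commutatorElement]
    exact mm.2 (e t ht x hx)
  have zE : Z ≤ E := v.zy.trans v.ye
  have H : TV.Hy p j.range (E.map j) (T.map j) (N.map j) (Z.map j) (Y.map j) M :=
    ⟨F.pm E, map_le_range j T, fun e => v.nle fun x hx => mm.1 (e (mm.2 hx)), map_mono v.nz,
      map_mono v.zy, map_mono v.ye, fun g hg => by
        obtain ⟨f, hf, e⟩ := ex g hg
        exact mem_nr fun x hx => ⟨f x, v.iv.2 f hf x hx, e x (v.iv.1 hx)⟩,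
      cm v.te, cm v.ty, map_commutator E E j ▸ cm v.tn, cm v.ze, by
        rintro a ha _ ⟨z, hz, rfl⟩ e _ ⟨z', hz', rfl⟩
        obtain ⟨f, hf, e'⟩ := ex a ha
        have e1 : a * j z * a⁻¹ = j (f z) := e' z (zE hz)
        rw [e1] at e ⊢
        obtain ⟨t, ht, e2⟩ := v.surj f hf z hz (fun e3 => e (mm.2 e3)) z' hz'
        refine ⟨j t, mm.2 ht, ?_⟩
        rw [← map_commutatorElement, ← map_inv, ← map_mul]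
        exact mm.2 e2, m3, m4⟩
  obtain ⟨a, ha, hm⟩ := SetLike.not_le_iff_exists.1 m2
  obtain ⟨f, hf, e⟩ := ex a ha
  have k : ∀ c ∈ nr j E, c ∉ M → ∀ z ∈ Z, ∀ y ∈ Y, Cj j c z y → z ∈ N := fun c hc hc' z hz y hy e' =>
    mm.1 (H.four hc hc' (TV.mem_D.2 ⟨mm.2 hz, Eq.symm e' ▸ mm.2 hy⟩))
  refine ⟨f, hf, fun z hz hy => k a ha hm z hz _ hy (e z (zE hz)), fun y hy hz => ?_,
    fun e' => H.ne ha hm (map_mono e'), fun z hz hz' s _ hs ⟨y, hy, e'⟩ => by_contra fun hs' => hz' ?_⟩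
  · exact (e y (v.ye hy)).mem' F.inj (H.nN ha) (k a⁻¹ (inv_mem ha) (fun e' => hm (inv_mem_iff.1 e')) _ hz y hy
      (e y (v.ye hy)).symm)
  · have n : j s ∈ nr j E := mem_nr fun x hx => ⟨_, hs x hx, Cj.self s x⟩
    refine k (a⁻¹ * j s * a) (mul_mem (mul_mem (inv_mem ha) n) ha)
      (fun e1 => hm (m3 _ ⟨⟨s, rfl⟩, n⟩ (mt mm.1 hs') a ha e1)) z hz y hy ?_
    have e2 := Cj.self (ι := j) s (f z)
    rw [e'] at e2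
    exact ((e y (v.ye hy)).symm.trans e2).trans (e z (zE hz))

end H69.T3
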