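import Mathlib
import Cfsg.Agent.Lib.T3F.Defs
import Cfsg.Agent.Lib.T3F.TV

set_option autoImplicit false
set_option linter.unusedSectionVars false
set_option linter.unusedVariables false

namespace H69.T3

open H89.D4S Subgroup
open H93.SX hiding sh
open H68 (SylowIn)
open scoped commutatorElement


universe u

variable {W : Type*} [Group W] {Γ : Type u} [Group Γ] [Finite Γ] {p : ℕ} [Fact p.Prime] {j : W →* Γ}
  {E : Subgroup W}

namespace TL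

open H93.R3 H2

theorem ex {g : Γ} (hg : g ∈ nr j E) : ∃ f : W → W, ∀ x ∈ E, Cj j g x (f x) := by
  classical
  choose! f _ hf using fun x (hx : x ∈ E) => nr_cj hg hx
  exact ⟨f, hf⟩

theorem chain (F : Cf p j) (h : Es p j E) {A B : Subgroup W} {t : W} (hA : A ≤ E) (a : nr j E ≤ nr j A)
    (b : nr j E ≤ nr j B) (e1 : ∀ x ∈ E, ⁅t, x⁆ ∈ A) (e2 : ∀ x ∈ A, ⁅t, x⁆ ∈ B)
    (e3 : ∀ x ∈ B, ⁅t, x⁆ ∈ ⁅E, E⁆) : t ∈ E := by
  obtain ⟨M, -, h2, -, h4⟩ := exists_emb F.pr F.sat h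
  by_contra ht'
  have h5 : j t ∉ E.map j := mt (mem_map_iff_mem F.inj).1 ht'
  have c : nr j E ≤ nr j ⁅E, E⁆ := by
    rw [nr, nr, map_commutator]
    exact norm_comm le_rfl le_rfl
  have n : j t ∈ nr j E := self_nr fun x hx => hA (e1 x hx)
  have ht : j t ∈ nr j E ⊓ relCentralizer (E.map j) (A.map j) ⊓ relCentralizer (A.map j) (B.map j) ⊓
      relCentralizer (B.map j) ((⁅E, E⁆ : Subgroup W).map j) :=
    ⟨⟨⟨n, mem_rc_map (a n) fun x hx => ⟨_, Cj.self t x, e1 x hx⟩⟩,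
      mem_rc_map (b n) fun x hx => ⟨_, Cj.self t x, e2 x hx⟩⟩,
      mem_rc_map (c n) fun x hx => ⟨_, Cj.self t x, e3 x hx⟩⟩
  refine h2 fun g hg => h4 _ ⟨⟨t, rfl⟩, n⟩ h5 _ ⟨⟨t, rfl⟩, n⟩ h5 g hg _
    (inf_le_left.trans (inf_le_left.trans inf_le_left)) (fun x hx ho => ?_) ht
    (conj_mem (norm_inf (norm_inf (norm_inf (norm_norm le_rfl) (norm_rc le_rfl a)) (norm_rc a b))
      (norm_rc b c) hg) ht)
  refine cent_of_ph (F.pm E) ho hx.1.1.1 fun y hy => ((ph_le (F.pm E)).1 le_rfl).1 ?_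
  rw [← map_commutator]
  exact comm_mem_of_coprime (F.pm A) ho hx.2.1 (hx.1.1.2.2 y hy) fun z hz =>
    comm_mem_of_coprime (F.pm B) ho hx.2.1 (hx.1.2.2 z hz) hx.2.2

end TL

theorem es_gd (F : Cf p j) (h : Es p j E) : ∃ 𝒜, Gd ⊤ E 𝒜 := by
  have iv : ∀ A, Iv {f | ∃ g ∈ nr j E, ∀ x ∈ E, Cj j g x (f x)} E A → nr j E ≤ nr j A := fun A hA g hg => by
    obtain ⟨f, hf⟩ := TL.ex hg
    exact mem_nr fun x hx => ⟨f x, hA.2 f ⟨g, hg, hf⟩ x hx, hf x (hA.1 hx)⟩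
  refine ⟨{f | ∃ g ∈ nr j E, ∀ x ∈ E, Cj j g x (f x)}, le_top, ?_, ?_, ?_, ?_,
    fun t _ A B hA hB => TL.chain F h hA.1 (iv A hA) (iv B hB), fun T N Z Y v => es_tv F h (fun _ => Iff.rfl) v⟩
  · rintro f ⟨g, hg, hf⟩
    refine ⟨fun x hx => (hf x hx).mem F.inj hg hx, fun x hx y hy =>
      (hf _ (mul_mem hx hy)).uniq F.inj ((hf x hx).mul (hf y hy)), fun x hx e => ?_⟩
    have := (hf x hx).symm
    rw [e] at this
    exact this.uniq F.inj (by simp [Cj])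
  · rintro f ⟨g, hg, hf⟩
    obtain ⟨f', hf'⟩ := TL.ex (inv_mem hg)
    refine ⟨f', ⟨_, inv_mem hg, hf'⟩, fun x hx => (hf' _ ((hf x hx).mem F.inj hg hx)).uniq F.inj (hf x hx).symm,
      fun x hx => (hf _ ((hf' x hx).mem F.inj (inv_mem hg) hx)).uniq F.inj ?_⟩
    simpa using (hf' x hx).symm
  · rintro f ⟨g, hg, hf⟩ f' ⟨g', hg', hf'⟩
    exact ⟨fun x => f (f' x), ⟨_, mul_mem hg hg', fun x hx =>
      (hf _ ((hf' x hx).mem F.inj hg' hx)).trans (hf' x hx)⟩, fun _ _ => rfl⟩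
  · exact fun s _ hs => ⟨fun x => s * x * s⁻¹, ⟨j s, mem_nr fun x hx => ⟨_, hs x hx, Cj.self s x⟩,
      fun x _ => Cj.self s x⟩, fun _ _ => rfl⟩

end H69.T3
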