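import Mathlib
import Cfsg.Agent.Lib.T3F.TL
import Cfsg.Agent.Lib.T3F.S1
import Cfsg.Agent.Lib.T3F.BO1
import Cfsg.Agent.Lib.T3F.BO2
import Cfsg.Agent.Lib.T3F.A1
import Cfsg.Agent.Lib.T3F.A2o
import Cfsg.Agent.Lib.T3F.A2e
import Cfsg.Agent.Lib.T3F.NG

/-! # The essential subgroups are among the two unipotent radicals -/

set_option autoImplicit false
set_option linter.unusedSectionVars false
set_option linter.unusedVariables false

namespace H69.T3

open H89.D4S Subgroup
open H93.SX hiding sh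

universe u

variable {k K : Type*} [Field k] [Field K] [Cub k K] [Finite k] [Finite K] [Fc K]
  {p : ℕ} [Fact p.Prime] [CharP K p] {Γ : Type u} [Group Γ] [Finite Γ] {j : Wd K →* Γ} {E : Subgroup (Wd K)}

theorem es_cases (F : Cf p j) (h : Es p j E) : E = Q1 K ∨ E = Q2 K := by
  obtain ⟨𝒜, g⟩ := es_gd F h
  have h2 := g.z2 (p := p)
  by_cases h1 : E ≤ Q1 K
  · have g1 := g.mono h1 le_top
    have h3 := g1.a1 (p := p) h2
    by_cases h0 : (2 : k) = 0
    · rcases g1.a2e h0 h3 with e | e | ⟨μ, e⟩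
      · exact .inl e
      · exact (g.ne_Z4 e).elim
      · exact (no_rm F h0 μ (e ▸ h)).elim
    · rcases g1.a2o h0 h3 with e | e | e
      · exact .inl e
      · exact (g.ne_Z4 e).elim
      · exact (no_gr F h0 e h).elim
  · by_cases h3 : E ≤ Q2 K
    · exact .inr (g.eq_Q2 h2 h1 h3)
    · refine (h.ne F ?_).elim
      by_cases h0 : (2 : k) = 0
      · exact g.be h0 h2 h1 h3
      · exact g.bo2 h0 (g.bo1 h0 h2 h1 h3) h1 h3

end H69.T3
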