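import Mathlib
import Cfsg.Agent.Lib.T3F.Defs
import Cfsg.Agent.Lib.T3F.VW

set_option autoImplicit false
set_option linter.unusedSectionVars false
set_option linter.unusedVariables false

namespace H69.T3

open H89.D4S Subgroup
open H93.SX hiding sh
open H68 (SylowIn)
open scoped commutatorElement

universe u

variable {k K : Type*} [Field k] [Field K] [Cub k K] [Finite k] [Finite K] [Fc K]
  {p : ℕ} [Fact p.Prime] [CharP K p] {Γ : Type u} [Group Γ] [Finite Γ] {j : Wd K →* Γ} {g : Γ}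
  {E : Subgroup (Wd K)} {Φ : Subgroup (K ≃+* K)}

namespace T7

theorem syl_eq {G : Type*} [Group G] [Finite G] (h49 : ¬ 49 ∣ Nat.card G) {x : G} (hx : orderOf x = 7) :
    ∃ S : Sylow 7 G, (S : Subgroup G) = zpowers x := by
  haveI : Fact (Nat.Prime 7) := ⟨by norm_num⟩
  have hc : Nat.card (zpowers x) = 7 := by rw [Nat.card_zpowers, hx]
  have hp : IsPGroup 7 (zpowers x) := IsPGroup.of_card (n := 1) (by rw [hc, pow_one])
  obtain ⟨S, hS⟩ := hp.exists_le_sylow
  obtain ⟨n, hn⟩ := S.isPGroup'.exists_card_eq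
  refine ⟨S, (eq_of_le_of_card_ge hS ?_).symm⟩
  have h1 : n ≤ 1 := by
    by_contra hlt
    refine h49 (Dvd.dvd.trans ?_ (card_subgroup_dvd_card (S : Subgroup G)))
    rw [hn]
    exact pow_dvd_pow 7 (show 2 ≤ n by omega)
  rw [hn, hc]
  exact (Nat.pow_le_pow_right (by norm_num) h1).trans (by norm_num)

theorem dep (α : Wd K ≃* Wd K) {x y : Wd K} (e : x.a = y.a) : (α x).a = (α y).a := by
  have h1 : x * y⁻¹ ∈ Q2 K := by simp [e]
  have h2 := (aut_Q2 α _).2 h1
  rw [map_mul, map_inv, mem_Q2, Wd.mul_a, Wd.inv_a] at h2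
  exact add_neg_eq_zero.1 h2

theorem dg11 (l l' : K) (x : Wd K) :
    dg l (1 : k) 1 (dg l' (1 : k) 1 x) = dg (l * l') (1 : k) 1 x := by
  rw [dg_dg]; simp

theorem not49 (p : ℕ) [Fact p.Prime] [CharP K p] (hq : Nat.card k = 2) :
    ¬ 49 ∣ Nat.card (MulAut (Wd K)) := by
  have := Fintype.ofFinite K
  have := Fintype.ofFinite k
  have hK : Nat.card K = 8 := by rw [Fc.card (k := k) (K := K), hq]; norm_num
  have p7 : p ≠ 7 := by
    rintro rfl
    obtain ⟨n, -, hn⟩ := FiniteField.card K 7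
    rw [← Nat.card_eq_fintype_card, hK] at hn
    have : 7 ∣ 8 := hn ▸ dvd_pow_self 7 n.ne_zero
    omega
  letI : MulAction (MulAut (Wd K)) K :=
    { smul := fun α a => (α (ga a)).a
      one_smul := fun a => rfl
      mul_smul := fun α β a => dep α rfl }
  let π := MulAction.toPermHom (MulAut (Wd K)) K
  obtain ⟨P, -, hP, mP⟩ := exists_P (k := k) (K := K) p
  have hk : π.ker ≤ P := by
    intro α hα
    have ha : ∀ x : Wd K, (α x).a = 1 * (1 : K ≃+* K) x.a := by
      intro x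
      have e : (α (ga x.a)).a = x.a := DFunLike.congr_fun (MonoidHom.mem_ker.1 hα) x.a
      rw [dep α (show x.a = (ga x.a).a from rfl), e]
      simp
    obtain ⟨m, m0, hm⟩ := aut_b α ha
    have m1 : m = 1 := by
      have := FiniteField.pow_card_sub_one_eq_one m m0
      rwa [← Nat.card_eq_fintype_card, hq, pow_one] at this
    subst m1
    have gg := aut_gg α ha hm
    have e : (dg (1 : K) (1 : k) 1 : Wd K → Wd K) = id := funext dg_one
    rw [e] at gg
    exact (mP α).2 gg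
  obtain ⟨n, hn⟩ := (hP.to_le hk).exists_card_eq
  have h1 := card_mul_index π.ker
  rw [index_ker, hn] at h1
  have h2 := card_subgroup_dvd_card π.range
  rw [Nat.card_perm, hK] at h2
  intro h49
  rw [← h1] at h49
  have cop : Nat.Coprime (7 ^ 2) (p ^ n) :=
    Nat.Coprime.pow 2 n ((Nat.coprime_primes (by norm_num) Fact.out).2 p7.symm)
  have h3 := (cop.dvd_of_dvd_mul_left h49).trans h2
  revert h3
  decide

end T7

theorem t7 (F : Cf p j) (hq : Nat.card k = 2) {h : G8 K} (hh : h ∈ HV F.inj) (h1 : h ∈ sb (G8 K) (Y1 K))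
    (h7 : orderOf h = 7) : ∃ η : Wd K ≃* Wd K, ∀ l : K, l ≠ 0 →
      ∃ g, ∀ x, Cj (j.comp η.toMonoidHom) g x (dg l 1 1 x) := by
  haveI : Fact (Nat.Prime 7) := ⟨by norm_num⟩
  have := Fintype.ofFinite K
  have hK : Nat.card K = 8 := by rw [Fc.card (k := k) (K := K), hq]; norm_num
  obtain ⟨g0, -, a0⟩ := hh
  obtain ⟨b, bN, ab, -⟩ := ofV F a0 h1
  obtain ⟨α0, hα⟩ := exists_aut F.inj bN
  let α : MulAut (Wd K) := α0
  have cjp : ∀ (n : ℕ) (x : Wd K), Cj j (b ^ n) x ((α ^ n) x) := by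
    intro n x
    induction n with
    | zero => rw [pow_zero, pow_zero]; exact Cj.one
    | succ n ih => rw [pow_succ', pow_succ']; exact (hα _).trans ih
  have acp : ∀ (n : ℕ), ∀ x ∈ Q2 K, (h ^ n) • cV x = cV ((α ^ n) x) := by
    intro n x hx
    induction n with
    | zero => rw [pow_zero, pow_zero, one_smul]; rfl
    | succ n ih =>
      rw [pow_succ', pow_succ', mul_smul, ih]
      have q : (α ^ n) x ∈ Q2 K := (aut_Q2 _ _).2 hx
      exact ab.2 _ q _ ((aut_Q2 α0 _).2 q) (hα _)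
  have d7 : 7 ∣ orderOf α := by
    rw [← h7]
    refine orderOf_dvd_of_pow_eq_one (LinearEquiv.ext fun v => ?_)
    obtain ⟨x, hx, rfl⟩ := (coV8 F.inj).surj v
    have := acp (orderOf α) x hx
    rw [pow_orderOf_eq_one α] at this
    exact this
  have o7 : orderOf (α ^ (orderOf α / 7)) = 7 := orderOf_pow_orderOf_div (orderOf_pos α).ne' d7
  obtain ⟨S, hS⟩ := T7.syl_eq (T7.not49 (k := k) (K := K) p hq) o7
  let D : Subgroup (MulAut (Wd K)) :=
    { carrier := {δ | ∃ l : K, l ≠ 0 ∧ ∀ x, δ x = dg l (1 : k) 1 x}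
      one_mem' := ⟨1, one_ne_zero, fun x => (dg_one x).symm⟩
      mul_mem' := by
        rintro δ ε ⟨l, hl, e⟩ ⟨l', hl', e'⟩
        exact ⟨l * l', mul_ne_zero hl hl', fun x => by rw [MulAut.mul_apply, e', e, T7.dg11]⟩
      inv_mem' := by
        rintro δ ⟨l, hl, e⟩
        refine ⟨l⁻¹, inv_ne_zero hl, fun x => δ.injective ?_⟩
        rw [MulAut.apply_inv_self, e, T7.dg11, mul_inv_cancel₀ hl, dg_one] }
  have hD : IsPGroup 7 D := by
    rintro ⟨δ, l, hl, e⟩
    have pw : ∀ (n : ℕ) (x : Wd K), (δ ^ n) x = dg (l ^ n) (1 : k) 1 x := by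
      intro n x
      induction n with
      | zero => rw [pow_zero, pow_zero, dg_one]; rfl
      | succ n ih => rw [pow_succ', pow_succ', MulAut.mul_apply, ih, e, T7.dg11]
    have l7 : l ^ 7 = 1 := by
      have := FiniteField.pow_card_sub_one_eq_one l hl
      rwa [← Nat.card_eq_fintype_card, hK] at this
    refine ⟨1, Subtype.ext (MulEquiv.ext fun x => ?_)⟩
    change (δ ^ 7 ^ 1) x = x
    rw [pow_one, pw, l7, dg_one]
  obtain ⟨T', hT⟩ := hD.exists_le_sylow
  obtain ⟨η, hη⟩ := MulAction.exists_smul_eq (MulAut (Wd K)) T' S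
  refine ⟨η, fun l hl => ?_⟩
  obtain ⟨δ0, hδ⟩ := exists_dgE hl (one_ne_zero (α := k)) 1
  let δ : MulAut (Wd K) := δ0
  have m1 : η * δ * η⁻¹ ∈ zpowers (α ^ (orderOf α / 7)) := by
    rw [← hS, ← hη, Sylow.coe_subgroup_smul]
    exact smul_mem_pointwise_smul δ (MulAut.conj η) _ (hT ⟨l, hl, hδ⟩)
  obtain ⟨n, hn⟩ := mem_powers_iff_mem_zpowers.2 m1
  refine ⟨b ^ (orderOf α / 7 * n), fun x => Cj.comp.2 ?_⟩
  have c := cjp (orderOf α / 7 * n) (η x)
  have hn' : α ^ (orderOf α / 7 * n) = η * δ * η⁻¹ := by rw [pow_mul]; exact hn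
  rw [hn', MulAut.mul_apply, MulAut.mul_apply, MulAut.inv_apply_self] at c
  rw [← hδ]
  exact c

end H69.T3
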