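import Mathlib
import Cfsg.Agent.Lib.T3F.Defs
import Cfsg.Agent.Lib.T3F.EX
import Cfsg.Agent.Lib.T3F.GA
import Cfsg.Agent.Lib.Core.HallSZ

set_option autoImplicit false
set_option linter.unusedSectionVars false
set_option linter.unusedVariables false

namespace H69.T3

open H89.D4S Subgroup
open H93.SX hiding sh
open H68 (SylowIn)
open scoped commutatorElement

universe u

variable {k K : Type*} [Field k] [Field K] [Cub k K] [Finite k] [Finite K] [Fc K]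
  {p : ℕ} [Fact p.Prime] [CharP K p] {Γ : Type u} [Group Γ] [Finite Γ] {j : Wd K →* Γ} {g : Γ}
  {E : Subgroup (Wd K)} {Φ : Subgroup (K ≃+* K)}

namespace TW

theorem gen {G : Type*} [Group G] [Finite G] {P A D T : Subgroup G} [P.Normal]
    (hP : IsPGroup p P) (hT : SylowIn p T A) (hTP : T ≤ P) (hD : P ⊓ D = ⊥)
    (h1 : A ≤ P ⊔ D) (h2 : D ≤ P ⊔ A) :
    ∃ e : G, (∀ d ∈ D, e * d * e⁻¹ ∈ A) ∧ ∀ a ∈ A, ∃ t ∈ T, ∃ d ∈ D, a = t * (e * d * e⁻¹) := by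
  have hI : P ⊓ A = T := hT.eq_of_le (hP.to_le inf_le_left) (le_inf hTP hT.le) inf_le_right
  have hn : A ≤ normalizer (T : Set G) := by
    rw [← hI]
    intro a ha
    rw [mem_normalizer_iff]
    intro x
    constructor
    · intro hx
      exact ⟨‹P.Normal›.conj_mem _ hx.1 a, A.mul_mem (A.mul_mem ha hx.2) (A.inv_mem ha)⟩
    · intro hx
      have e : x = a⁻¹ * (a * x * a⁻¹) * a⁻¹⁻¹ := by group
      rw [e]
      exact ⟨‹P.Normal›.conj_mem _ hx.1 a⁻¹,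
        A.mul_mem (A.mul_mem (A.inv_mem ha) hx.2) (A.inv_mem (A.inv_mem ha))⟩
  have cop : ∀ Q : Subgroup G, IsPGroup p Q → (Nat.card Q).Coprime (T.relIndex A) := by
    intro Q hQ
    obtain ⟨n, hn⟩ := hQ.exists_card_eq
    rw [hn]
    exact Nat.Coprime.pow_left _ ((Nat.Prime.coprime_iff_not_dvd Fact.out).2 hT.not_dvd_relIndex)
  obtain ⟨H, hHA, hTH, -, hH⟩ := H3.exists_complement_in hT.le hn (cop T hT.isPGroup)
  have e1 : P ⊔ D = P ⊔ A := le_antisymm (sup_le le_sup_left h2) (sup_le le_sup_left h1)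
  have e2 : P ⊔ A = P ⊔ H := by rw [← hTH, ← sup_assoc, sup_eq_left.2 hTP]
  have hcard : Nat.card D = Nat.card H := by
    rw [hH, ← hI, inf_relIndex_right, ← relIndex_sup_left A P, ← e1, relIndex_sup_left,
      ← inf_relIndex_right, hD, relIndex_bot_left]
  have hs : Group.IsSolvable P := by
    have := hP.isNilpotent
    infer_instance
  obtain ⟨e, -, he⟩ := H3.exists_conj_eq_of_coprime (N := P) (H := D) (K := H) le_normalizer_of_normal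
    (by rw [← e2, ← e1]; exact le_sup_right) hcard (hH ▸ cop P hP) (Or.inl hs)
  have hm : ∀ d ∈ D, e * d * e⁻¹ ∈ H := fun d hd => by
    rw [← he]
    exact smul_mem_pointwise_smul d (MulAut.conj e) D hd
  refine ⟨e, fun d hd => hHA (hm d hd), fun a ha => ?_⟩
  have ha' : a ∈ P ⊔ H := e2 ▸ mem_sup_right ha
  obtain ⟨y, hy, z, hz, rfl⟩ := mem_sup_of_normal_left.1 ha'
  have hyT : y ∈ T := by
    rw [← hI]
    exact ⟨hy, by simpa using mul_mem ha (inv_mem (hHA hz))⟩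
  rw [← he] at hz
  obtain ⟨d, hd, rfl⟩ := (mem_smul_pointwise_iff_exists z (MulAut.conj e) D).1 hz
  exact ⟨y, hyT, d, hd, rfl⟩

theorem rk_ne (ρ : K ≃+* K) {t : k} (h : t ≠ 0) : rk ρ t ≠ 0 := fun e => h (by
  have := rk_rk ρ⁻¹ ρ t
  rwa [inv_mul_cancel, rk_id, e, rk_zero] at this)

theorem gg_inn (s : Wd K) : Gg (fun x => s * x * s⁻¹) id := by
  have e : ∀ x : Wd K, s * x * s⁻¹ = ⁅s, x⁆ * x := fun x => by
    simp only [commutatorElement_def]; group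
  refine ⟨fun x => by simp, fun x => by simp, fun x hx => ?_, fun x hx => ?_, fun x hx => ?_,
    fun x hx => ?_⟩
  · have h := comm_mem3 s hx
    rw [e]
    simp_all
  · have h := comm_mem2 s hx
    rw [e]
    simp_all
  · have h := comm_mem1 s hx
    rw [e]
    simp_all
  · rw [e, comm_mem0 s hx, one_mul]
    rfl

theorem gg_div {α δ : MulAut (Wd K)} {f : Wd K → Wd K} (h : Gg α f) (e : ∀ x, δ x = f x) :
    Gg (α * δ⁻¹ : MulAut (Wd K)) id := by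
  have e1 : ∀ x, f (δ⁻¹ x) = x := fun x => by rw [← e]; exact MulAut.apply_inv_self _ δ x
  have e2 : ∀ x, δ (δ⁻¹ x) = x := fun x => MulAut.apply_inv_self _ δ x
  refine ⟨fun x => ?_, fun x => ?_, fun x hx => ?_, fun x hx => ?_, fun x hx => ?_, fun x hx => ?_⟩
  · exact (h.a (δ⁻¹ x)).trans (by rw [e1]; rfl)
  · exact (h.b (δ⁻¹ x)).trans (by rw [e1]; rfl)
  · exact (h.c (δ⁻¹ x) ((aut_Z4 δ _).1 (by rwa [e2]))).trans (by rw [e1]; rfl)
  · exact (h.d (δ⁻¹ x) ((aut_Z3 δ _).1 (by rwa [e2]))).trans (by rw [e1]; rfl)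
  · exact (h.e (δ⁻¹ x) ((aut_Z2 δ _).1 (by rwa [e2]))).trans (by rw [e1]; rfl)
  · exact (h.f (δ⁻¹ x) ((aut_Z1 δ _).1 (by rwa [e2]))).trans (by rw [e1]; rfl)

/-- the field automorphisms that occur in `A` -/
def ph (A : Subgroup (MulAut (Wd K))) : Subgroup (K ≃+* K) where
  carrier := {ρ | ∃ α ∈ A, ∃ l : K, l ≠ 0 ∧ ∀ x, (α x).a = l * ρ x.a}
  one_mem' := ⟨1, one_mem _, 1, one_ne_zero, fun x => by simp⟩
  mul_mem' := by
    rintro ρ σ ⟨α, hα, l, hl, e⟩ ⟨β, hβ, l', hl', e'⟩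
    refine ⟨α * β, mul_mem hα hβ, l * ρ l', mul_ne_zero hl (by simpa using hl'), fun x => ?_⟩
    rw [MulAut.mul_apply, e, e', map_mul, mul_assoc]
    rfl
  inv_mem' := by
    rintro ρ ⟨α, hα, l, hl, e⟩
    refine ⟨α⁻¹, inv_mem hα, ρ⁻¹ l⁻¹, by simpa using hl, fun x => ?_⟩
    have h := e (α⁻¹ x)
    rw [MulAut.apply_inv_self] at h
    rw [h, ← map_mul, ← mul_assoc, inv_mul_cancel₀ hl, one_mul]
    exact (ρ.symm_apply_apply _).symm

/-- the diagonal and field automorphisms -/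
def dd (Φ : Subgroup (K ≃+* K)) : Subgroup (MulAut (Wd K)) where
  carrier := {α | ∃ l : K, l ≠ 0 ∧ ∃ m : k, m ≠ 0 ∧ ∃ ρ ∈ Φ, ∀ x, α x = dg l m ρ x}
  one_mem' := ⟨1, one_ne_zero, 1, one_ne_zero, 1, one_mem _, fun x => (dg_one x).symm⟩
  mul_mem' := by
    rintro α β ⟨l, hl, m, hm, ρ, hρ, e⟩ ⟨l', hl', m', hm', σ, hσ, e'⟩
    refine ⟨l * ρ l', mul_ne_zero hl (by simpa using hl'), m * rk ρ m', mul_ne_zero hm (rk_ne ρ hm'),
      ρ * σ, mul_mem hρ hσ, fun x => ?_⟩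
    rw [MulAut.mul_apply, e, e', dg_dg]
  inv_mem' := by
    rintro α ⟨l, hl, m, hm, ρ, hρ, e⟩
    refine ⟨ρ⁻¹ l⁻¹, by simpa using hl, rk ρ⁻¹ m⁻¹, rk_ne _ (inv_ne_zero hm), ρ⁻¹, inv_mem hρ,
      fun x => ?_⟩
    apply α.injective
    have h1 : ρ (ρ⁻¹ l⁻¹) = l⁻¹ := ρ.apply_symm_apply _
    rw [MulAut.apply_inv_self, e, dg_dg, h1, ← rk_rk, mul_inv_cancel, rk_id, mul_inv_cancel₀ hl,
      mul_inv_cancel₀ hm, dg_one]

theorem syl (F : Cf p j) : ∃ A T : Subgroup (MulAut (Wd K)), SylowIn p T A ∧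
    (∀ α, α ∈ A ↔ ∃ g, ∀ x, Cj j g x (α x)) ∧ ∀ α ∈ T, ∃ s, ∀ x, α x = s * x * s⁻¹ := by
  choose f hf using fun g : nr j ⊤ => exists_aut F.inj g.2
  let ρ : nr j ⊤ →* MulAut (Wd K) := MonoidHom.mk' f fun a b => MulEquiv.ext fun x =>
    (hf (a * b) x).uniq F.inj ((hf a (f b x)).trans (hf b x))
  obtain ⟨P, h1, h2, h3⟩ := H93.R3.exists_syl (F.pr.to_le inf_le_left)
    (le_sup_left : j.range ⊓ nr j ⊤ ≤ _ ⊔ centralizer (((⊤ : Subgroup (Wd K)).map j : Subgroup Γ) : Set Γ))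
  refine ⟨_, _, H91.sylowIn_map_sub (h3 _ (sup_le inf_le_right (H93.R3.cent_le_norm _))
    (H93.R3.lg_norm F.pr F.sat (fn_of fun _ _ _ => mem_top _))) ρ, fun α => ⟨?_, ?_⟩, ?_⟩
  · rintro ⟨g, rfl⟩
    exact ⟨g, hf g⟩
  · rintro ⟨g, e⟩
    have hg : g ∈ nr j ⊤ := mem_nr fun x _ => ⟨_, mem_top _, e x⟩
    exact ⟨⟨g, hg⟩, MulEquiv.ext fun x => (hf ⟨g, hg⟩ x).uniq F.inj (e x)⟩
  · rintro _ ⟨g, hg, rfl⟩
    obtain ⟨_, ⟨⟨s, rfl⟩, -⟩, e⟩ := exists_of_sup inf_le_right (h2 hg)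
    exact ⟨s, fun x => (e x (mem_top _) _ (hf g x)).uniq F.inj (Cj.self s x)⟩

end TW

theorem tw (F : Cf p j) (ha : ∀ g ∈ nr j ⊤, ∃ (l : K) (ρ : K ≃+* K), l ≠ 0 ∧ Aa j g fun a => l * ρ a)
    (hb : ∀ (l : K) (m : k), l ≠ 0 → m ≠ 0 → ∃ g, Ab j g l m) :
    ∃ (η : Wd K ≃* Wd K) (Φ : Subgroup (K ≃+* K)), Ex (j.comp η.toMonoidHom) Φ := by
  obtain ⟨A, T, hT, hA, hi⟩ := TW.syl F
  obtain ⟨P, hn, hP, hm⟩ := exists_P (K := K) p
  have nrm : ∀ {g : Γ} {α : MulAut (Wd K)}, (∀ x, Cj j g x (α x)) → g ∈ nr j ⊤ := fun e =>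
    mem_nr fun x _ => ⟨_, mem_top _, e x⟩
  have hTP : T ≤ P := fun α hα => by
    obtain ⟨s, e⟩ := hi α hα
    rw [hm, show (α : Wd K → Wd K) = fun x => s * x * s⁻¹ from funext e]
    exact TW.gg_inn s
  have hD : P ⊓ TW.dd (TW.ph A) = ⊥ := by
    rw [eq_bot_iff]
    rintro α ⟨h1, l, hl, m, hm', ρ, -, e⟩
    have h := (hm α).1 h1
    have a1 : ∀ a : K, l * ρ a = a := fun a => by
      have := h.a (ga a)
      rwa [e] at this
    have l1 : l = 1 := by simpa using a1 1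
    have r1 : ρ = 1 := RingEquiv.ext fun a => by simpa [l1] using a1 a
    have m1 : m = 1 := by
      have := h.b (gb 1)
      rw [e] at this
      simpa [gb] using this
    refine MulEquiv.ext fun x => ?_
    rw [e, l1, r1, m1, dg_one]
    rfl
  have h1 : A ≤ P ⊔ TW.dd (TW.ph A) := fun α hα => by
    obtain ⟨g, e⟩ := (hA α).1 hα
    obtain ⟨l, ρ, hl, -, a⟩ := ha g (nrm e)
    have a1 : ∀ x, (α x).a = l * ρ x.a := fun x => a x _ (e x)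
    obtain ⟨m, hm', b1⟩ := aut_b α a1
    obtain ⟨δ, hδ⟩ := exists_dgE hl hm' ρ
    have hd : δ ∈ TW.dd (TW.ph A) := ⟨l, hl, m, hm', ρ, ⟨α, hα, l, hl, a1⟩, hδ⟩
    have hp := (hm _).2 (TW.gg_div (aut_gg α a1 b1) hδ)
    simpa using mul_mem (mem_sup_left hp) (mem_sup_right hd : δ ∈ P ⊔ TW.dd (TW.ph A))
  have h2 : TW.dd (TW.ph A) ≤ P ⊔ A := by
    rintro δ ⟨l, hl, m, hm', ρ, ⟨α, hα, l', hl', a1⟩, hδ⟩
    obtain ⟨m', hm'', b1⟩ := aut_b α a1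
    obtain ⟨g, hg, e⟩ := hb (l * l'⁻¹) (m * m'⁻¹) (mul_ne_zero hl (inv_ne_zero hl'))
      (mul_ne_zero hm' (inv_ne_zero hm''))
    obtain ⟨β, hβ⟩ := exists_aut F.inj hg
    have hb' : (β : MulAut (Wd K)) ∈ A := (hA β).2 ⟨g, hβ⟩
    have a2 : ∀ x, ((β * α : MulAut (Wd K)) x).a = l * ρ x.a := fun x => by
      rw [MulAut.mul_apply, (e _ _ (hβ _)).1, a1]
      field_simp
    have b2 : ∀ x, ((β * α : MulAut (Wd K)) x).b = m * rk ρ x.b := fun x => by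
      rw [MulAut.mul_apply, (e _ _ (hβ _)).2, b1]
      field_simp
    have hp := (hm _).2 (TW.gg_div (aut_gg (β * α : MulAut (Wd K)) a2 b2) hδ)
    have := mul_mem (inv_mem (mem_sup_left hp)) (mem_sup_right (mul_mem hb' hα) : _ ∈ P ⊔ A)
    convert this using 1
    group
  obtain ⟨η, e1, e2⟩ := TW.gen hP hT hTP hD h1 h2
  refine ⟨η, TW.ph A, fun l hl m hm' ρ hρ => ?_, fun g hg => ?_⟩
  · obtain ⟨δ, hδ⟩ := exists_dgE hl hm' ρ
    obtain ⟨g, e⟩ := (hA _).1 (e1 δ ⟨l, hl, m, hm', ρ, hρ, hδ⟩)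
    refine ⟨g, fun x => Cj.comp.2 ?_⟩
    have := e (η x)
    rwa [MulAut.mul_apply, MulAut.mul_apply, MulAut.inv_apply_self, hδ] at this
  · rw [nr_comp (Y := ⊤) η fun _ => Iff.rfl] at hg
    obtain ⟨α, hα⟩ := exists_aut F.inj hg
    obtain ⟨t, ht, δ, ⟨l, hl, m, hm', ρ, hρ, hδ⟩, e⟩ := e2 α ((hA α).2 ⟨g, hα⟩)
    obtain ⟨s, hs⟩ := hi t ht
    refine ⟨η⁻¹ s, l, hl, m, hm', ρ, hρ, fun x => Cj.comp.2 ?_⟩
    have := hα (η x)
    rw [e, MulAut.mul_apply, MulAut.mul_apply, MulAut.mul_apply, MulAut.inv_apply_self, hδ, hs] at this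
    convert this using 1
    · rfl
    · simp only [MulEquiv.coe_toMonoidHom, map_mul, map_inv, MulAut.apply_inv_self]

end H69.T3
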