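import Mathlib
import Cfsg.Agent.Lib.T3F.Defs
import Cfsg.Agent.Lib.T3F.VS

set_option autoImplicit false
set_option linter.unusedSectionVars false
set_option linter.unusedVariables false

namespace H69.T3

open H89.D4S Subgroup
open H93.SX hiding sh
open H68 (SylowIn)
open scoped commutatorElement

variable {k K : Type*} [Field k] [Field K] [Cub k K] [Finite k] [Finite K] [Fc K]
  {p : ℕ} [Fact p.Prime] [CharP K p] {H : Subgroup (G8 K)} {g h z : G8 K}

namespace VN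

theorem conj_mem (C : Cu p H) (hh : h ∈ H) (a : K) : h⁻¹ * uu a * h ∈ H :=
  mul_mem (mul_mem (inv_mem hh) (C.uu_mem a)) hh

theorem conj_U (C : Cu p H) (hh : h ∈ H) {a : K} (e : h⁻¹ * uu a * h ∈ sb (G8 K) (Y1 K)) :
    ∃ x, h⁻¹ * uu a * h = uu x := by
  refine mem_UU.1 (C.memU (conj_mem C hh a) e (n := 1) ?_)
  have := conj_pow (a := h⁻¹) (b := uu a) (i := p ^ 1)
  rw [inv_inv] at this
  rw [this, pow_one, uu_pow p a, mul_one, inv_mul_cancel]

theorem sub_conj {a x : K} (e : h⁻¹ * uu a * h = uu x) (w : V8 K) :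
    h⁻¹ • (uu a • w - w) = uu x • (h⁻¹ • w) - h⁻¹ • w := by
  rw [← e, mul_smul, mul_smul, smul_inv_smul, smul_sub]

theorem uu_sub (a : K) (v : V8 K) : uu a • v - v = (0, ι v.1 * a, cr a v.2.1 + ι v.1 * sh a,
    T (a * v.2.2.1) + T (sh a * v.2.1) + v.1 * N a) := by
  rw [uu_smul]
  apply ext8 <;> simp only [uF, Prod.fst_sub, Prod.snd_sub] <;> cb

theorem m4 (a : K) (v : V8 K) : uu a • v - v ∈ Y4 K := by rw [uu_sub]; rfl

theorem m3 (a : K) {v : V8 K} (hv : v ∈ Y4 K) : uu a • v - v ∈ Y3 K := by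
  rw [uu_sub, mem_Y4.1 hv]; simp

theorem m1 (a : K) {v : V8 K} (hv : v ∈ Y3 K) : uu a • v - v ∈ Y1 K := by
  rw [uu_sub, hv.1, hv.2]; simp

theorem key (C : Cu p H) (hh : h ∈ H) (h1 : h ∉ sb (G8 K) (Y1 K)) {t : k}
    (e : h⁻¹ • ((0, 0, 0, t) : V8 K) ∈ Y1 K) : t = 0 := by
  obtain ⟨σ, s, -, hs, -⟩ := C.semi (inv_mem hh)
  by_contra ht
  have e0 : ((0, 0, 0, t) : V8 K) = sm t (yv K) := by simp [sm, yv]
  rw [e0, hs] at e
  have h2 : σ t ≠ 0 := (map_ne_zero σ).2 ht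
  refine h1 (inv_mem_iff.1 ((C.sb1 (inv_mem hh)).2 ?_))
  simpa [sm, h2] using e

end VN

open VN

theorem Cu.notY3 (C : Cu p H) (hh : h ∈ H) (h1 : h ∉ sb (G8 K) (Y1 K)) : h • yv K ∉ Y3 K := by
  intro hv
  have hU : ∀ a, T (a * (h • yv K).2.2.1) = 0 → ∃ x, h⁻¹ * uu a * h = uu x := fun a ha => by
    refine conj_U C hh ((C.sb1 (conj_mem C hh a)).2 ?_)
    have e : uu a • h • yv K = h • yv K := by
      rw [← sub_eq_zero, uu_sub, hv.1, hv.2, ha]
      simp
    rw [mul_smul, mul_smul, e, inv_smul_smul]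
    simp [yv]
  by_cases h2 : (2 : k) = 0
  · obtain ⟨a, a', ha, ha', hi⟩ := exists_two (h • yv K).2.2.1
    obtain ⟨x, hx⟩ := hU a ha
    obtain ⟨x', hx'⟩ := hU a' ha'
    have ha0 : a ≠ 0 := fun e => one_ne_zero (hi 1 0 (by simp [e])).1
    have hc : cr a a' = 0 := nd _ fun c => by
      obtain ⟨ρ, -, hρ⟩ := C.sim _ (inv_mem hh)
      have e1 : uu a' • ((0, c, 0, 0) : V8 K) - (0, c, 0, 0) = (0, 0, cr a' c, T (sh a' * c)) := by
        rw [uu_sub]; simp
      have q1 := hρ h2 (uu a' • ((0, c, 0, 0) : V8 K) - (0, c, 0, 0))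
      rw [sub_conj hx', e1, uu_sub] at q1
      have m : h⁻¹ • ((0, 0, cr a' c, T (sh a' * c)) : V8 K) ∈ Y3 K := by
        rw [← e1, sub_conj hx', uu_sub]
        generalize h⁻¹ • ((0, c, 0, 0) : V8 K) = w at q1
        have q2 : T (ι w.1 * x' * (cr x' w.2.1 + ι w.1 * sh x')) =
            2 * (w.1 * T (sh x' * w.2.1) + w.1 ^ 2 * N x') + w.1 ^ 2 * N x' := by cbk K
        simp only [Qf, zero_mul, map_zero, add_zero, zero_add] at q1
        rw [q2, h2, zero_mul, zero_add] at q1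
        refine ⟨rfl, ?_⟩
        rcases mul_eq_zero.1 q1 with q | q
        · simp [pow_eq_zero_iff (two_ne_zero) |>.1 q]
        · by_cases e : x' = 0
          · simp [e]
          · exact absurd q (N_ne e)
      have m' := m1 x m
      rw [← sub_conj hx, uu_sub] at m'
      simp only [map_zero, zero_mul, cr_zero, mul_zero, add_zero] at m'
      rw [T_cr]
      exact key C hh h1 m'
    obtain ⟨t, ht⟩ := (cr_ker2 h2 ha0).1 hc
    exact one_ne_zero (hi (-t) 1 (by simp [ht])).2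
  · obtain ⟨a, a', ha, ha', hi⟩ := plane (h • yv K).2.2.1
    obtain ⟨x, hx⟩ := hU a ha
    obtain ⟨x', hx'⟩ := hU a' ha'
    have m := m1 x (m3 x (m4 x' (h⁻¹ • ((1, 0, 0, 0) : V8 K))))
    rw [← sub_conj hx', ← sub_conj hx, ← sub_conj hx, uu_sub a', uu_sub a (0, _, _, _), uu_sub] at m
    simp only [map_zero, map_one, one_mul, zero_mul, cr_zero, mul_zero, add_zero] at m
    have := key C hh h1 m
    rw [T_cr_self'] at this
    exact mul_ne_zero h2 hi this

theorem Cu.ti (C : Cu p H) (hh : h ∈ H) {a : K} (ha : a ≠ 0) (e : h⁻¹ * uu a * h ∈ sb (G8 K) (Y1 K)) :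
    h ∈ sb (G8 K) (Y1 K) := by
  by_contra h1
  obtain ⟨x, hx⟩ := conj_U C hh e
  have h3 := C.notY3 hh h1
  have hs := fun h2 => C.sing h2 hh
  have e1 := sub_conj hx (h • yv K)
  rw [inv_smul_smul, uu_sub x] at e1
  have e2 : uu a • h • yv K - h • yv K = 0 := by
    rw [← smul_eq_zero_iff_eq h⁻¹, e1]
    simp [yv]
  rw [uu_sub] at e2
  generalize h • yv K = v at h3 hs e2
  simp only [Prod.mk_eq_zero, mul_eq_zero, ι_eq_zero, ha, or_false, true_and] at e2
  obtain ⟨hb, hc, hd⟩ := e2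
  simp only [hb, map_zero, zero_mul, add_zero] at hc hd
  have hc0 : v.2.1 ≠ 0 := fun e => h3 ⟨hb, e⟩
  by_cases h2 : (2 : k) = 0
  · obtain ⟨t, ht⟩ := (cr_ker2 h2 ha).1 hc
    have ht0 : t ≠ 0 := fun e => hc0 (by simp [ht, e])
    have q := hs h2
    simp only [Qf, hb, zero_mul, zero_add, ht, mul_assoc, T_ι_mul, mul_eq_zero, ht0, false_or] at q
    have q2 : T (sh a * (ι t * a)) = 2 * (t * N a) + t * N a := by cbk K
    rw [q, zero_add, ht, q2, h2, zero_mul, zero_add] at hd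
    exact mul_ne_zero ht0 (N_ne ha) hd
  · exact hc0 (cr_eq_zero h2 ha hc)

end H69.T3
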