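import Mathlib
import Cfsg.Agent.Lib.T3F.Defs
import Cfsg.Agent.Lib.T3F.VN

set_option autoImplicit false
set_option linter.unusedSectionVars false
set_option linter.unusedVariables false

namespace H69.T3

open H89.D4S Subgroup
open H93.SX hiding sh
open H68 (SylowIn)
open scoped commutatorElement

namespace VB

/-- two involutions are conjugate by an involution or commute with a common involution -/
theorem dihedral {G : Type*} [Group G] [Finite G] {H : Subgroup G} {u v : G} (hu : u ∈ H) (hv : v ∈ H)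
    (u2 : u * u = 1) (v2 : v * v = 1) :
    (∃ w ∈ H, w * w = 1 ∧ w * u * w⁻¹ = v) ∨ ∃ z ∈ H, z ≠ 1 ∧ z ^ 2 = 1 ∧ z * u = u * z ∧ z * v = v * z := by
  have ui : u⁻¹ = u := inv_eq_of_mul_eq_one_right u2
  have vi : v⁻¹ = v := inv_eq_of_mul_eq_one_right v2
  have e1 : u * (u * v) * u⁻¹ = (u * v)⁻¹ := by rw [← mul_assoc, u2, one_mul, mul_inv_rev, vi]
  have e2 : ∀ n : ℕ, u * (u * v) ^ n * u⁻¹ = ((u * v) ^ n)⁻¹ := fun n => by
    rw [← conj_pow, e1, inv_pow]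
  have e3 : v = u * (u * v) := by rw [← mul_assoc, u2, one_mul]
  have hr : u * v ∈ H := mul_mem hu hv
  have h0 := pow_orderOf_eq_one (u * v)
  have hp := orderOf_pos (u * v)
  have hne := fun m : ℕ => @pow_ne_one_of_lt_orderOf G _ (u * v) m
  generalize u * v = r at e2 e3 hr h0 hp hne
  obtain ⟨m, e | e⟩ := Nat.even_or_odd' (orderOf r)
  · right
    have z2 : (r ^ m) ^ 2 = 1 := by rw [← pow_mul, mul_comm, ← e, h0]
    have zi : (r ^ m)⁻¹ = r ^ m := inv_eq_of_mul_eq_one_right (by rw [← sq, z2])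
    have c1 : r ^ m * u = u * r ^ m := (mul_inv_eq_iff_eq_mul.1 ((e2 m).trans zi)).symm
    refine ⟨r ^ m, pow_mem hr m, hne m (by omega) (by omega), z2, c1, ?_⟩
    rw [e3, ← mul_assoc, c1, mul_assoc, mul_assoc, (Commute.pow_self r m).eq]
  · left
    have c1 : u * r ^ m = (r ^ m)⁻¹ * u := mul_inv_eq_iff_eq_mul.1 (e2 m)
    have c2 : r ^ m * u = u * (r ^ m)⁻¹ := by
      rw [eq_mul_inv_iff_mul_eq, mul_assoc, c1, mul_inv_cancel_left]
    have c3 : (r ^ m)⁻¹ * (r ^ m)⁻¹ = r := by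
      rw [← mul_inv_rev, ← pow_add, inv_eq_iff_mul_eq_one, ← pow_succ, ← two_mul, ← e, h0]
    refine ⟨r ^ m * u, mul_mem (pow_mem hr m) hu, ?_, ?_⟩
    · rw [mul_assoc, ← mul_assoc u, c1, mul_assoc, u2, mul_one, mul_inv_cancel]
    · rw [mul_inv_rev, ui, mul_assoc (r ^ m) u u, u2, mul_one, ← mul_assoc, c2, mul_assoc, c3, e3]

variable {k K : Type*} [Field k] [Field K] [Cub k K]

/-- the line spanned by `yv` and `v` -/
def Ln (v x : V8 K) : Prop := ∃ s t : k, x = sm s (yv K) + sm t v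

theorem sm_add (t : k) (v w : V8 K) : sm t (v + w) = sm t v + sm t w := by
  apply ext8 <;> simp only [sm, Prod.fst_add, Prod.snd_add] <;> cb
theorem sm_sm (s t : k) (v : V8 K) : sm s (sm t v) = sm (s * t) v := by
  apply ext8 <;> simp only [sm] <;> cb
theorem add_sm (s t : k) (v : V8 K) : sm (s + t) v = sm s v + sm t v := by
  apply ext8 <;> simp only [sm, Prod.fst_add, Prod.snd_add] <;> cb
theorem one_sm (v : V8 K) : sm (1 : k) v = v := by simp [sm]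
theorem zero_sm (v : V8 K) : sm (0 : k) v = 0 := by simp [sm]

theorem Ln.add {v x x' : V8 K} (a : Ln v x) (b : Ln v x') : Ln v (x + x') := by
  obtain ⟨s, t, rfl⟩ := a
  obtain ⟨s', t', rfl⟩ := b
  exact ⟨s + s', t + t', by rw [add_sm, add_sm]; abel⟩

theorem Ln.sm {v x : V8 K} (a : Ln v x) (r : k) : Ln v (sm r x) := by
  obtain ⟨s, t, rfl⟩ := a
  exact ⟨r * s, r * t, by rw [sm_add, sm_sm, sm_sm]⟩

theorem Ln.y (v : V8 K) : Ln v (yv K) := ⟨1, 0, by rw [one_sm, zero_sm, add_zero]⟩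
theorem Ln.v (v : V8 K) : Ln v v := ⟨0, 1, by rw [one_sm, zero_sm, zero_add]⟩

theorem uu_y (a : K) : uu a • yv K = yv K := by rw [uu_smul]; simp [uF, yv]

instance fin8 [Finite k] [Finite K] : Finite (G8 K) := Finite.of_injective _ DFunLike.coe_injective

end VB

variable {k K : Type*} [Field k] [Field K] [Cub k K] [Finite k] [Finite K] [Fc K]
  {p : ℕ} [Fact p.Prime] [CharP K p] {H : Subgroup (G8 K)} {g h z : G8 K}

theorem VB.p_two (p : ℕ) [Fact p.Prime] [CharP K p] (h2 : (2 : k) = 0) : p = 2 := by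
  have h : ((2 : ℕ) : K) = 0 := by
    have := congrArg (ι : k →+* K) h2
    rw [map_ofNat, map_zero] at this
    exact_mod_cast this
  exact (Nat.prime_dvd_prime_iff_eq Fact.out Nat.prime_two).1 ((CharP.cast_eq_zero_iff K p 2).1 h)

theorem VB.sb_uu (a : K) : uu a ∈ sb (G8 K) (Y1 K) := (uu_sb a).1.1

theorem VB.map_ln (C : Cu p H) (hg : g ∈ H) {v x : V8 K} (h1 : VB.Ln v (g • yv K)) (h2 : VB.Ln v (g • v))
    (hx : VB.Ln v x) : VB.Ln v (g • x) := by
  obtain ⟨σ, -, -, lin, -⟩ := C.semi hg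
  obtain ⟨s, t, rfl⟩ := hx
  rw [smul_add, lin, lin]
  exact (h1.sm _).add (h2.sm _)

theorem Cu.dih (C : Cu p H) (h2 : (2 : k) = 0) (hh : h ∈ H) (h1 : h ∉ sb (G8 K) (Y1 K)) {a b : K} (ha : a ≠ 0)
    (hb : b ≠ 0) : ∃ w ∈ H, w * w = 1 ∧ w * uu a * w⁻¹ = h * uu b * h⁻¹ := by
  obtain rfl := VB.p_two (K := K) p h2
  have sq2 : ∀ c : K, uu c * uu c = 1 := fun c => by rw [← sq, uu_pow 2 c]
  rcases VB.dihedral (C.uu_mem a) (mul_mem (mul_mem hh (C.uu_mem b)) (inv_mem hh)) (sq2 a)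
    (by rw [conj_mul, sq2, mul_one, mul_inv_cancel]) with hw | ⟨z, zH, z1, z2, c1, c2⟩
  · exact hw
  exfalso
  have s1 : z ∈ sb (G8 K) (Y1 K) := C.ti zH ha (by rw [mul_assoc, ← c1, inv_mul_cancel_left]; exact VB.sb_uu a)
  obtain ⟨c, rfl⟩ := C.memU zH s1 (n := 1) (by rw [pow_one, z2])
  have hc : c ≠ 0 := by rintro rfl; exact z1 uu_zero
  refine h1 (C.ti hh hc (C.ti (mul_mem (mul_mem (inv_mem hh) zH) hh) hb ?_))
  have : (h⁻¹ * uu c * h)⁻¹ * uu b * (h⁻¹ * uu c * h) = h⁻¹ * ((uu c)⁻¹ * (h * uu b * h⁻¹ * uu c)) * h := by group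
  rw [this, ← c2, inv_mul_cancel_left]
  simpa [mul_assoc] using VB.sb_uu b

theorem Cu.pp2 (C : Cu p H) (h2 : (2 : k) = 0) : Pp H := by
  intro h hh h1 h0
  have hi := inv_mem hh
  have h1' : h⁻¹ ∉ sb (G8 K) (Y1 K) := fun e => h1 (by simpa using inv_mem e)
  have hc : (h • yv K).2.1 ≠ 0 := fun e => C.notY3 hh h1 ⟨h0, e⟩
  have h0' : (h⁻¹ • yv K).1 = 0 := by
    have := (C.perp hh (yv K) (h⁻¹ • yv K)).1 (by rw [smul_inv_smul]; simp [Bf, h0, yv]; exact h0)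
    simpa [Bf, yv] using this
  have hc' : (h⁻¹ • yv K).2.1 ≠ 0 := fun e => C.notY3 hi h1' ⟨h0', e⟩
  have hq := C.sing h2 hi
  obtain ⟨a, ha⟩ : ∃ a, cr a (h • yv K).2.1 ≠ 0 := by
    by_contra! e
    exact hc (cr_nd e)
  have a0 : a ≠ 0 := by rintro rfl; exact ha (zero_cr _)
  obtain ⟨w, wH, w2, e⟩ := C.dih h2 hh h1 a0 hc'
  have wi : w⁻¹ = w := inv_eq_of_mul_eq_one_right w2
  have K2 : (2 : K) = 0 := two_iff.2 h2
  have hu : uu (h⁻¹ • yv K).2.1 • h⁻¹ • yv K = h⁻¹ • yv K + sm (N (h⁻¹ • yv K).2.1) (yv K) := by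
    generalize h⁻¹ • yv K = x at h0' hq
    obtain ⟨b, c, d, e⟩ := x
    simp only [Qf] at h0' hq
    subst h0'
    rw [zero_mul, zero_add] at hq
    have q1 : cr c c = 0 := by
      have : cr c c = 2 * sh c := by cb
      rw [this, K2, zero_mul]
    have q2 : T (sh c * c) = N c := by
      have : T (sh c * c) = N c + 2 * N c := by cbk K
      rw [this, h2, zero_mul, add_zero]
    rw [uu_smul]; simp [uF, sm, yv, hq, q1, q2]
  generalize (h⁻¹ • yv K).2.1 = c' at hc' e hu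
  have uH := mul_mem (mul_mem hh (C.uu_mem c')) hi
  have s1 : w⁻¹ * h ∈ sb (G8 K) (Y1 K) := C.ti (mul_mem (inv_mem wH) hh) a0 (by
    have : (w⁻¹ * h)⁻¹ * uu a * (w⁻¹ * h) = h⁻¹ * (w * uu a * w⁻¹) * h := by group
    rw [this, e]
    simpa [mul_assoc] using VB.sb_uu c')
  have s2 : w • h • yv K ∈ Y1 K := by
    rw [← mul_smul, ← wi]; exact sb_mem s1 (by simp [yv])
  obtain ⟨s, hs⟩ : ∃ s : k, w • h • yv K = sm s (yv K) := by
    generalize w • h • yv K = x at s2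
    obtain ⟨b, c, d, e⟩ := x
    obtain ⟨e1, e2, e3⟩ := s2
    simp only at e1 e2 e3
    exact ⟨e, by simp [sm, yv, e1, e2, e3]⟩
  have l1 : VB.Ln (h • yv K) (w • h • yv K) := hs ▸ (VB.Ln.y _).sm s
  have l2 : VB.Ln (h • yv K) (w • yv K) := by
    obtain ⟨σ, -, -, lin, -⟩ := C.semi wH
    have e1 : h • yv K = sm (σ s) (w • yv K) := by rw [← lin, ← hs, ← mul_smul, w2, one_smul]
    have s0 : σ s ≠ 0 := fun e0 => Cu.yne hh (by rw [e1, e0, VB.zero_sm])
    have e2 : w • yv K = sm (σ s)⁻¹ (h • yv K) := by rw [e1, VB.sm_sm, inv_mul_cancel₀ s0, VB.one_sm]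
    rw [e2]; exact (VB.Ln.v _).sm _
  have l3 : VB.Ln (h • yv K) ((h * uu c' * h⁻¹) • yv K) := by
    obtain ⟨σ, -, -, lin, -⟩ := C.semi hh
    rw [mul_smul, mul_smul, hu, smul_add, smul_inv_smul, lin]
    exact (VB.Ln.y _).add ((VB.Ln.v _).sm _)
  have l4 : VB.Ln (h • yv K) ((h * uu c' * h⁻¹) • h • yv K) := by
    rw [mul_smul, mul_smul, inv_smul_smul, VB.uu_y]; exact VB.Ln.v _
  have l5 := VB.map_ln C wH l2 l1 (VB.map_ln C uH l3 l4 l1)
  rw [← e, wi, mul_smul, mul_smul, ← mul_smul w w, w2, one_smul, ← mul_smul w w, w2, one_smul] at l5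
  obtain ⟨x, t, l6⟩ := l5
  generalize h • yv K = v at h0 hc ha l6
  have m1 := congrArg (fun v : V8 K => v.2.1) l6
  have m2 := congrArg (fun v : V8 K => v.2.2.1) l6
  simp only [uu_smul, uF, sm, yv, h0, map_zero, zero_mul, add_zero, mul_zero, Prod.fst_add, Prod.snd_add,
    zero_add] at m1 m2
  have t1 : (ι t : K) = 1 := mul_right_cancel₀ hc (by rw [← m1, one_mul])
  rw [t1, one_mul] at m2
  exact ha (by simpa using m2)

theorem Cu.seven (C : Cu p H) (hq : Nat.card k = 2) (hm : ¬ H ≤ sb (G8 K) (Y1 K)) :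
    ∃ h ∈ H, h ∈ sb (G8 K) (Y1 K) ∧ orderOf h = 7 := by
  classical
  have h2 : (2 : k) = 0 := by
    have := Fintype.ofFinite k
    have e := FiniteField.cast_card_eq_zero k
    rw [← Nat.card_eq_fintype_card, hq] at e
    exact_mod_cast e
  obtain ⟨h, hh, h1⟩ := SetLike.not_le_iff_exists.1 hm
  let B := H ⊓ sb (G8 K) (Y1 K)
  letI : MulAction B (G8 K) := MulAction.compHom _ (MulAut.conj.comp B.subtype)
  have act : ∀ (b : B) (x : G8 K), b • x = b * x * (b : G8 K)⁻¹ := fun _ _ => rfl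
  have orb : MulAction.orbit B (uu (1 : K)) = uu '' ({0}ᶜ : Set K) := by
    ext x
    constructor
    · rintro ⟨b, rfl⟩
      obtain ⟨γ, hγ⟩ := C.normU b.2.1 b.2.2
      exact ⟨γ 1, by simp, ((act b _).trans (hγ 1)).symm⟩
    · rintro ⟨a, ha, rfl⟩
      obtain ⟨w, wH, -, e⟩ := C.dih h2 hh h1 one_ne_zero one_ne_zero
      obtain ⟨w', wH', -, e'⟩ := C.dih h2 hh h1 ha one_ne_zero
      have gH := mul_mem (inv_mem wH') wH
      have e1 : w'⁻¹ * w * uu 1 * (w'⁻¹ * w)⁻¹ = uu a := by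
        have : w'⁻¹ * w * uu 1 * (w'⁻¹ * w)⁻¹ = w'⁻¹ * (w * uu 1 * w⁻¹) * w' := by group
        rw [this, e, ← e']; group
      refine ⟨⟨w'⁻¹ * w, gH, C.ti gH ha ?_⟩, (act _ _).trans e1⟩
      rw [← e1]
      simpa [mul_assoc] using VB.sb_uu (1 : K)
  have hc : (MulAction.orbit B (uu (1 : K))).ncard = 7 := by
    rw [orb, Set.ncard_image_of_injective _ fun _ _ => uu_inj]
    have := Set.ncard_add_ncard_compl ({0} : Set K)
    rw [Set.ncard_singleton, Fc.card (k := k) (K := K), hq] at this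
    omega
  have hd : 7 ∣ Nat.card B := by
    rw [← hc, ← MulAction.index_stabilizer]; exact Subgroup.index_dvd_card _
  haveI : Fact (Nat.Prime 7) := ⟨by norm_num⟩
  obtain ⟨b, hb⟩ := exists_prime_orderOf_dvd_card' 7 hd
  exact ⟨b, b.2.1, b.2.2, by rw [Subgroup.orderOf_coe, hb]⟩

end H69.T3
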