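import Mathlib
import Cfsg.Agent.Lib.T3F.Defs
import Cfsg.Agent.Lib.T3F.VS
import Cfsg.Agent.Lib.T3F.FL2

set_option autoImplicit false
set_option linter.unusedSectionVars false
set_option linter.unusedVariables false

namespace H69.T3

open H89.D4S Subgroup
open H93.SX hiding sh
open H68 (SylowIn)
open scoped commutatorElement

variable {k K : Type*} [Field k] [Field K] [Cub k K] [Finite k] [Finite K] [Fc K]
  {p : ℕ} [Fact p.Prime] [CharP K p] {H : Subgroup (G8 K)} {g h z : G8 K}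

variable {η : G8 K}
theorem mem_cjg : h ∈ cjg η H ↔ η⁻¹ * h * η ∈ H := by
  constructor
  · rintro ⟨x, hx, rfl⟩
    simpa [mul_assoc] using hx
  · intro hx
    exact ⟨_, hx, by simp [mul_assoc]⟩

namespace VD

theorem cjm (hh : h ∈ H) : η * h * η⁻¹ ∈ cjg η H := mem_cjg.2 (by simpa [mul_assoc] using hh)

theorem y13 {v : V8 K} (hv : v ∈ Y1 K) : v ∈ Y3 K := ⟨hv.1, hv.2.1⟩

theorem et_sb (e : Et η) : η ∈ sb (G8 K) (Y1 K) := fun v =>
  ⟨fun hv => by
    have := smul_left_cancel η (e.y _ (y13 hv))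
    rwa [this] at hv, fun hv => by rwa [e.y _ (y13 hv)]⟩

theorem inv_b (e : Et η) (v : V8 K) : (η⁻¹ • v).1 = v.1 := by rw [← e.b, smul_inv_smul]
theorem inv_c (e : Et η) (v : V8 K) : (η⁻¹ • v).2.1 = v.2.1 := by rw [← e.c, smul_inv_smul]
theorem inv_y (e : Et η) {v : V8 K} (hv : v ∈ Y3 K) : η⁻¹ • v = v := by
  rw [inv_smul_eq_iff, e.y v hv]
theorem cj_uu (e : Et η) (a : K) : η * uu a * η⁻¹ = uu a := by rw [e.cm, mul_inv_cancel_right]
theorem cj_uu' (e : Et η) (a : K) : η⁻¹ * uu a * η = uu a := by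
  rw [mul_assoc, ← e.cm, inv_mul_cancel_left]

theorem yv_mem : yv K ∈ Y3 K := ⟨rfl, rfl⟩

theorem uu_pt (a : K) : uu a • pt (0 : K) = pt a := by
  rw [uu_smul]; simp [uF, pt]

theorem bf_sm (s t : k) (v w : V8 K) : Bf (sm s v) (sm t w) = s * t * Bf v w := by
  simp only [Bf, sm]; cbk K

/-- the orbit contains the point `(1, 0, d, e)` -/
def Or (H : Subgroup (G8 K)) (d : K) (e : k) : Prop :=
  ∃ h ∈ H, ∃ t, t ≠ 0 ∧ h • yv K = sm t ((1, 0, d, e) : V8 K)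

theorem same (C : Cu p H) (hp : Pp H) (hg : g ∈ H) (hh : h ∈ H)
    (e : Bf (g • yv K) (h • yv K) = 0) : ∃ t, h • yv K = sm t (g • yv K) := by
  have hm : g⁻¹ * h ∈ H := mul_mem (inv_mem hg) hh
  have e1 : Bf (yv K) ((g⁻¹ * h) • yv K) = 0 := by
    rw [← C.perp hg, mul_smul, smul_inv_smul, e]
  have e2 : ((g⁻¹ * h) • yv K).1 = 0 := by simpa [Bf, yv] using e1
  have e3 : g⁻¹ * h ∈ sb (G8 K) (Y1 K) := by
    by_contra hc
    exact hp _ hm hc e2
  have e4 := (C.sb1 hm).1 e3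
  have e5 : (g⁻¹ * h) • yv K = sm ((g⁻¹ * h) • yv K).2.2.2 (yv K) := by
    refine Prod.ext ?_ (Prod.ext ?_ (Prod.ext ?_ ?_))
    · simpa [sm, yv] using e4.1
    · simpa [sm, yv] using e4.2.1
    · simpa [sm, yv] using e4.2.2
    · simp [sm, yv]
  obtain ⟨σ, s, -, hl, -⟩ := C.semi hg
  refine ⟨σ ((g⁻¹ * h) • yv K).2.2.2, ?_⟩
  rw [← hl, ← e5, mul_smul, smul_inv_smul]

theorem or_of (C : Cu p H) (hp : Pp H) (hh : h ∈ H) (hn : h ∉ sb (G8 K) (Y1 K)) :
    ∃ (a d : K) (e t : k), t ≠ 0 ∧ h • yv K = sm t (uu a • ((1, 0, d, e) : V8 K)) ∧ Or H d e := by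
  have hb := hp h hh hn
  set v := h • yv K with hv
  have hb' : (ι v.1 : K) ≠ 0 := by simpa using hb
  set a : K := v.2.1 / ι v.1 with ha
  have e : uu (-a) • v = sm v.1 ((1, 0, (uu (-a) • v).2.2.1 / ι v.1, (uu (-a) • v).2.2.2 / v.1) : V8 K) := by
    refine Prod.ext ?_ (Prod.ext ?_ (Prod.ext ?_ ?_))
    · rw [uu_smul]; simp [sm, uF]
    · simp only [sm, uu_smul, uF, ha]; field_simp; ring
    · simp only [sm]; field_simp
    · simp only [sm]; field_simp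
  refine ⟨a, _, _, v.1, hb, ?_, uu (-a) * h, mul_mem (C.uu_mem _) hh, v.1, hb, by rw [mul_smul, ← hv, e]⟩
  rw [← (li_uu a).lin, ← e, uu_neg, smul_inv_smul]

theorem key (C : Cu p H) (hp : Pp H) {d d' : K} {e e' : k} (o : Or H d e) (o' : Or H d' e') {a : K}
    (h0 : N a + T (a * (d + d')) + e' - e = 0) : a = 0 := by
  obtain ⟨g, hg, t, ht, eg⟩ := o
  obtain ⟨h, hh, s, hs, eh⟩ := o'
  have e1 : (uu a * h) • yv K = sm s (uu a • ((1, 0, d', e') : V8 K)) := by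
    rw [mul_smul, eh, (li_uu a).lin]
  obtain ⟨r, hr⟩ := same C hp hg (mul_mem (C.uu_mem a) hh) (by
    rw [e1, eg, bf_sm]
    have : Bf ((1, 0, d, e) : V8 K) (uu a • ((1, 0, d', e') : V8 K)) =
        N a + T (a * (d + d')) + e' - e := by
      simp only [Bf, uu_smul, uF]; cbk K
    rw [this, h0, mul_zero])
  rw [e1, eg, uu_smul] at hr
  have := congrArg (fun v : V8 K => v.2.1) hr
  simpa [sm, uF, hs] using this

theorem or_d (C : Cu p H) (hp : Pp H) {d : K} {e : k} (o : Or H d e) (h2 : (2 : k) ≠ 0) : d = 0 := by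
  by_contra hd
  have h2' : (2 : K) ≠ 0 := fun e => h2 (two_iff.1 e)
  obtain ⟨a, ha, e0⟩ := uni' h2 (mul_ne_zero h2' hd)
  exact ha (key C hp o o (by rw [← two_mul, e0]; ring))

theorem or_e (C : Cu p H) {d : K} {e : k} (o : Or H d e) (h2 : (2 : k) = 0) : e = 0 := by
  obtain ⟨g, hg, t, ht, eg⟩ := o
  have := C.sing h2 hg
  rw [eg] at this
  simpa [Qf, sm, ht] using this

theorem or_two (C : Cu p H) (hp : Pp H) {d : K} {e : k} (o : Or H d e) : 2 * d = 0 := by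
  by_cases h2 : (2 : k) = 0
  · rw [two_iff.2 h2, zero_mul]
  · rw [or_d C hp o h2, mul_zero]

theorem exists_sq (h2 : (2 : k) = 0) (x : k) : ∃ s : k, s ^ 2 = x := by
  have : Function.Injective fun s : k => s ^ 2 := fun a b e => by
    have e' : a ^ 2 = b ^ 2 := e
    have : (a - b) ^ 2 = 0 := by linear_combination e' + (b ^ 2 - a * b) * h2
    exact sub_eq_zero.1 (pow_eq_zero_iff two_ne_zero |>.1 this)
  exact Finite.injective_iff_surjective.1 this x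

theorem uniq (C : Cu p H) (hp : Pp H) {d d' : K} {e e' : k} (o : Or H d e) (o' : Or H d' e') :
    d' = d ∧ e' = e := by
  by_cases h2 : (2 : k) = 0
  · have h2' : (2 : K) = 0 := two_iff.2 h2
    rw [or_e C o h2, or_e C o' h2]
    refine ⟨?_, rfl⟩
    by_contra hd
    have hδ : d + d' ≠ 0 := fun e0 => hd (by linear_combination e0 - d * h2')
    obtain ⟨x, hx⟩ := T_surj hδ 1
    have hx0 : x ≠ 0 := by rintro rfl; simp at hx
    obtain ⟨s, hs⟩ := exists_sq h2 (N x)⁻¹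
    have hN := N_ne hx0
    have hs0 : s ≠ 0 := by rintro rfl; exact hN (by simpa using hs.symm)
    have := key C hp o o' (a := ι s * x) (by
      rw [or_e C o h2, or_e C o' h2, map_mul, N_ι, mul_assoc, T_ι_mul, mul_comm x, hx]
      have : s ^ 3 * N x = s := by rw [pow_succ' s 2, hs]; field_simp
      rw [this]; linear_combination s * h2)
    simp [hs0, hx0] at this
  · obtain ⟨a, ha⟩ := N_surj (K := K) (e - e')
    have h1 := or_d C hp o h2
    have h3 := or_d C hp o' h2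
    have := key C hp o o' (a := a) (by rw [h1, h3, ha]; simp)
    rw [this, N_zero] at ha
    exact ⟨h3.trans h1.symm, (sub_eq_zero.1 ha.symm).symm⟩

def etF (d : K) (e : k) (v : V8 K) : V8 K :=
  (v.1, v.2.1, v.2.2.1 - ι v.1 * d, v.2.2.2 - T (v.2.1 * d) - v.1 * e)

def et (d : K) (e : k) : G8 K := AddEquiv.toIntLinearEquiv
  { toFun := etF d e
    invFun := etF (-d) (-e)
    left_inv := fun v => by apply ext8 <;> simp only [etF] <;> cb
    right_inv := fun v => by apply ext8 <;> simp only [etF] <;> cb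
    map_add' := fun v w => by apply ext8 <;> simp only [etF, Prod.fst_add, Prod.snd_add] <;> cb }

theorem et_smul (d : K) (e : k) (v : V8 K) : et d e • v = etF d e v := rfl

theorem et_et {d : K} {e : k} (hd : 2 * d = 0) (he : (2 : k) = 0 → e = 0) : Et (et d e) := by
  have hT : ∀ c : K, 2 * T (c * d) = 0 := fun c => by
    rw [two_mul, ← map_add, ← mul_add, ← two_mul, hd, mul_zero, map_zero]
  refine ⟨⟨fun t v => ?_, fun v w => ?_, fun h2 v => ?_⟩, fun a => LinearEquiv.ext fun v => ?_,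
    fun v => rfl, fun v => rfl, fun v hv => ?_⟩
  · apply ext8 <;> simp only [et_smul, etF, sm] <;> cb
  · have : Bf (et d e • v) (et d e • w) =
        Bf v w + w.1 * (2 * T (v.2.1 * d)) - v.1 * (2 * T (w.2.1 * d)) := by
      simp only [et_smul, etF, Bf]; cbk K
    rw [this, hT, hT]; ring
  · have : Qf (et d e • v) = Qf v - v.1 * (2 * T (v.2.1 * d)) - v.1 ^ 2 * e := by
      simp only [et_smul, etF, Qf]; cbk K
    rw [this, hT, he h2]; ring
  · change etF d e (uF a v) = uF a (etF d e v)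
    apply ext8 <;> simp only [etF, uF] <;> cb
  · obtain ⟨b, c, d', e'⟩ := v
    obtain ⟨rfl, rfl⟩ : b = 0 ∧ c = 0 := hv
    rw [et_smul]; simp [etF]

theorem et_one : Et (1 : G8 K) :=
  ⟨Li.one, fun a => by simp, fun v => rfl, fun v => rfl, fun v _ => rfl⟩

end VD

open VD

theorem Et.sb1 (e : Et η) : η⁻¹ * h * η ∈ sb (G8 K) (Y1 K) ↔ h ∈ sb (G8 K) (Y1 K) := by
  rw [mul_mem_cancel_right (et_sb e), mul_mem_cancel_left (inv_mem (et_sb e))]
theorem Cu.conj (C : Cu p H) (e : Et η) : Cu p (cjg η H) := by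
  refine ⟨⟨?_, C.syl.isPGroup, fun Q hQ h1 h2 => ?_⟩, fun h hh => ?_⟩
  · rintro _ ⟨a, rfl⟩
    rw [mem_cjg, cj_uu' e]; exact C.uu_mem a
  · have e1 : cjg η⁻¹ Q = UU K := C.syl.eq_of_le (hQ.map _) (by
      rintro _ ⟨a, rfl⟩
      rw [mem_cjg, inv_inv, cj_uu e]; exact h1 ⟨a, rfl⟩) (fun x hx => by
      have := mem_cjg.1 (h2 (mem_cjg.1 hx))
      simpa [mul_assoc] using this)
    refine le_antisymm (fun x hx => ?_) h1
    have := cjm (η := η⁻¹) hx
    rw [e1] at this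
    obtain ⟨a, ha⟩ := this
    exact ⟨a, by rw [← cj_uu e, ← ha]; group⟩
  · obtain ⟨ρ, h1, h2⟩ := C.sim _ (mem_cjg.1 hh)
    have e0 : ∀ v : V8 K, h • v = η • (η⁻¹ * h * η) • η⁻¹ • v := fun v => by simp [mul_smul]
    refine ⟨ρ, fun v w => ?_, fun h3 v => ?_⟩
    · rw [e0 v, e0 w, e.li.bf, h1, e.li.inv.bf]; simp
    · rw [e0 v, e.li.qf h3, h2 h3, e.li.inv.qf h3]; simp
theorem HT.conj (C : HT H) (e : Et η) : HT (cjg η H) := by
  intro t ht
  obtain ⟨h, hh, a⟩ := C t ht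
  have h3 : ∀ v ∈ Y3 K, (η * h * η⁻¹) • v = h • v := fun v hv => by
    rw [mul_smul, mul_smul, inv_y e hv, e.y]
    exact ⟨by rw [a.b, hv.1, mul_zero], by rw [a.c v hv.1, hv.2, mul_zero]⟩
  refine ⟨_, cjm hh, fun v => ?_, fun v hv => ?_, fun v hv => ?_, fun v hv => ?_⟩
  · rw [mul_smul, mul_smul, e.b, a.b, inv_b e]
  · rw [mul_smul, mul_smul, e.c, a.c _ ((inv_b e v).trans hv), inv_c e]
  · rw [h3 v hv, a.d v hv]
  · rw [h3 v (y13 hv), a.e v hv]
theorem mv_cjg (e : Et η) (hm : ¬ H ≤ sb (G8 K) (Y1 K)) : ¬ cjg η H ≤ sb (G8 K) (Y1 K) :=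
  fun hc => hm fun h hh => by simpa [mul_assoc] using e.sb1.2 (hc (cjm hh))
theorem Sl.of_cjg (e : Et η) (C : Sl (cjg η H)) : Sl H := by
  intro h hh h1
  obtain ⟨l, ρ, hl, hc⟩ := C _ (cjm hh) (e.sb1.1 (by simpa [mul_assoc] using h1))
  refine ⟨l, ρ, hl, fun a => ?_⟩
  rw [← cj_uu' e (l * ρ a), ← hc]
  conv_lhs => rw [← cj_uu' e a]
  group
theorem To.of_cjg (e : Et η) (C : To (cjg η H)) : To H := by
  intro l hl
  obtain ⟨h, hh, h1, h2, h3⟩ := C l hl
  refine ⟨_, mem_cjg.1 hh, e.sb1.2 h1, fun a => ?_, fun v => ?_⟩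
  · rw [← cj_uu' e (l ^ 2 * a), ← h2]
    conv_rhs => rw [← cj_uu e a]
    group
  · rw [mul_smul, mul_smul, inv_b e, h3, e.b]
theorem Cu.et (C : Cu p H) (hp : Pp H) : ∃ η, Et η ∧ Std (cjg η H) := by
  by_cases hm : H ≤ sb (G8 K) (Y1 K)
  · exact ⟨1, et_one, fun h hh hn => absurd (hm (by simpa using mem_cjg.1 hh)) hn⟩
  obtain ⟨h0, hh0, hn0⟩ := SetLike.not_le_iff_exists.1 hm
  obtain ⟨-, d, e, -, -, -, o⟩ := or_of C hp hh0 hn0
  have E := et_et (or_two C hp o) (or_e C o)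
  refine ⟨VD.et d e, E, fun h hh hn => ?_⟩
  obtain ⟨a, d', e', t, ht, e1, o'⟩ := or_of C hp (mem_cjg.1 hh) fun c => hn (E.sb1.1 c)
  obtain ⟨rfl, rfl⟩ := uniq C hp o o'
  refine ⟨t, a, ht, ?_⟩
  rw [mul_smul, mul_smul, E.y _ yv_mem, inv_smul_eq_iff, E.li.lin, ← mul_smul, E.cm, mul_smul] at e1
  rw [e1, ← uu_pt, et_smul]
  simp [etF, pt]
theorem Cu.std (C : Cu p H) (hp : Pp H) (ht : ∀ l : K, l ≠ 0 → Has H (tauF l 1)) : Std H := by
  intro h hh hn
  obtain ⟨a, d, e, t, ht0, e1, o⟩ := or_of C hp hh hn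
  have key : ∀ l : K, l ≠ 0 → sh l * d = d ∧ N l * e = e := fun l hl => by
    obtain ⟨τ, hτ, eτ⟩ := ht l hl
    obtain ⟨g, hg, s, hs, eg⟩ := id o
    refine uniq C hp o ⟨τ * g, mul_mem hτ hg, s, hs, ?_⟩
    rw [mul_smul, eg, eτ]
    apply ext8 <;> simp only [tauF, sm] <;> cb
  have hd : d = 0 := by
    obtain ⟨l, h1, -, h2⟩ := exists_norm_one (K := K)
    have hl : l ≠ 0 := by rintro rfl; simp at h1
    by_contra hd
    exact h2 (mul_right_cancel₀ hd ((key l hl).1.trans (one_mul d).symm))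
  have he : e = 0 := by
    by_cases h2 : (2 : k) = 0
    · exact or_e C o h2
    obtain ⟨l, h1⟩ := N_surj (K := K) (-1)
    have hl : l ≠ 0 := by rintro rfl; simp at h1
    have := (key l hl).2
    rw [h1] at this
    exact (mul_eq_zero.1 (by linear_combination -this : 2 * e = 0)).resolve_left h2
  refine ⟨t, a, ht0, ?_⟩
  rw [e1, hd, he, ← uu_pt]
  simp [pt]
theorem Std.x0 (S : Std H) (C : Cu p H) (hm : ¬ H ≤ sb (G8 K) (Y1 K)) :
    ∃ g ∈ H, ∃ t, t ≠ 0 ∧ g • yv K = sm t (pt 0) := by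
  obtain ⟨h, hh, hn⟩ := SetLike.not_le_iff_exists.1 hm
  obtain ⟨t, a, ht, e⟩ := S h hh hn
  refine ⟨uu (-a) * h, mul_mem (C.uu_mem _) hh, t, ht, ?_⟩
  rw [mul_smul, e, (li_uu _).lin, ← uu_pt a, uu_neg, inv_smul_smul]

end H69.T3
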