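import Mathlib
import Cfsg.Agent.Lib.T3F.Defs
import Cfsg.Agent.Lib.T3F.VS

set_option autoImplicit false
set_option linter.unusedSectionVars false
set_option linter.unusedVariables false

namespace H69.T3

open H89.D4S Subgroup
open H93.SX hiding sh
open H68 (SylowIn)
open scoped commutatorElement

variable {k K : Type*} [Field k] [Field K] [Cub k K] [Finite k] [Finite K] [Fc K]
  {p : ℕ} [Fact p.Prime] [CharP K p] {H : Subgroup (G8 K)} {g h z : G8 K}

namespace VZ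

theorem half (h2 : (2 : k) ≠ 0) {t : k} (h : t = -t) : t = 0 :=
  (mul_eq_zero.1 (show 2 * t = 0 by linear_combination h)).resolve_left h2

theorem halfK (h2 : (2 : k) ≠ 0) {t : K} (h : t = -t) : t = 0 :=
  (mul_eq_zero.1 (show 2 * t = 0 by linear_combination h)).resolve_left fun e => h2 (two_iff.1 e)

theorem gam (h2 : (2 : k) ≠ 0) (γ : K ≃+ K) (gg : ∀ a, γ (γ a) = a)
    (lin : ∀ (t : k) (a : K), γ (ι t * a) = ι t * γ a)
    (tri : ∀ a b c, T (γ a * cr (γ b) (γ c)) = -T (a * cr b c)) (a0 : K) : γ a0 = -a0 := by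
  by_contra hne
  obtain ⟨a, ha⟩ : ∃ a, a = γ a0 + a0 := ⟨_, rfl⟩
  have a1 : a ≠ 0 := fun e => hne (eq_neg_of_add_eq_zero_left (ha ▸ e))
  have ga : γ a = a := by rw [ha, map_add, gg, add_comm]
  have plus : ∀ x y w, γ x = x → γ y = y → γ w = w → T (x * cr y w) = 0 := fun x y w hx hy hw =>
    half h2 (by have := tri x y w; rwa [hx, hy, hw] at this)
  have mix : ∀ x y, γ x = -x → γ y = -y → T (a * cr x y) = 0 := fun x y hx hy =>
    half h2 (by have := tri a x y; rwa [ga, hx, hy, cr_neg, neg_cr, neg_neg] at this)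
  have sq : ∀ x y, γ x = x → γ y = y → T (sh x * y) = 0 := fun x y hx hy =>
    (mul_eq_zero.1 ((T_cr_self' x y).symm.trans (plus x x y hx hx hy))).resolve_left h2
  have line : ∀ c, γ c = c → ∃ t : k, c = ι t * a := fun c hc => by
    by_contra h
    exact a1 (perp3 (indep_of a1 fun t e => h ⟨t, e⟩) (sq a a ga ga)
      ((T_cr a c a).trans (plus a c a ga hc ga)) (sq c a hc ga))
  have hK : (ι (2⁻¹ : k) : K) * 2 = 1 := by
    rw [← map_ofNat (ι : k →+* K) 2, ← map_mul, inv_mul_cancel₀ h2, map_one]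
  have dec : ∀ w, ∃ (t : k) (x : K), γ x = -x ∧ w = ι t * a + x := fun w => by
    obtain ⟨t, ht⟩ := line (ι (2⁻¹ : k) * (w + γ w)) (by rw [lin, map_add, gg, add_comm])
    exact ⟨t, ι (2⁻¹ : k) * (w - γ w), by rw [lin, map_sub, gg]; ring, by
      rw [← ht]; linear_combination (-w) * hK⟩
  obtain ⟨w, hw, nw⟩ := exists_perp_not (sh a) a
  obtain ⟨t, x, hx, rfl⟩ := dec w
  have h1 : T (sh a * x) = 0 := by
    have : T ((ι t * a + x) * sh a) = t * T (sh a * a) + T (sh a * x) := by cbk K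
    rwa [hw, sq a a ga ga, mul_zero, zero_add, eq_comm] at this
  have h3 : cr a x = 0 := nd _ fun w => by
    obtain ⟨t', y, hy, rfl⟩ := dec w
    have : T (cr a x * (ι t' * a + y)) = t' * 2 * T (sh a * x) + T (a * cr x y) := by cbk K
    rw [this, h1, mix x y hx hy, mul_zero, add_zero]
  exact nw t (by rw [cr_eq_zero h2 a1 h3, add_zero])

theorem cj {g : G8 K} {a b : K} (e : g * uu a * g⁻¹ = uu b) (v : V8 K) :
    g • (uF a v - v) = uF b (g • v) - g • v := by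
  rw [smul_sub, ← uu_smul, ← uu_smul, ← e, mul_smul, mul_smul, inv_smul_smul]

theorem three (a b c : K) (v : V8 K) :
    uF a (uF b (uF c v - v) - (uF c v - v)) - (uF b (uF c v - v) - (uF c v - v)) =
      sm (v.1 * T (a * cr b c)) (yv K) := by
  apply ext8 <;> simp only [uF, sm, yv, Prod.fst_sub, Prod.snd_sub] <;> cb

theorem Bf_y (v : V8 K) (t : k) : Bf v (sm t (yv K)) = t * v.1 := by
  simp [Bf, sm, yv, mul_comm]

theorem sm_one (v : V8 K) : sm 1 v = v := by simp [sm]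

theorem li_z (h2 : (2 : k) ≠ 0) {s : k} (e : ∀ v : V8 K, z • v = zF s v) : Li z (-1) :=
  ⟨fun t v => by rw [e, e]; apply ext8 <;> simp only [zF, sm] <;> cb,
    fun v w => by rw [e, e]; simp only [Bf, zF]; cbk K, fun h => absurd h h2⟩

end VZ

theorem Cu.zz (C : Cu p H) (h2 : (2 : k) ≠ 0) (ht : HT H) : ∃ s, Has H (zF s) := by
  obtain ⟨z0, h0, t0⟩ := ht (-1) (by simp)
  obtain ⟨l0, s0, c0⟩ := t0.li C h0 (by simp)
  obtain ⟨z, hz⟩ : ∃ z, z = uu (-(z0 • ((1, 0, 0, 0) : V8 K)).2.1) * z0 := ⟨_, rfl⟩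
  have zH : z ∈ H := hz ▸ mul_mem (C.uu_mem _) h0
  have li : Li z (-1) := by have := (li_uu (-(z0 • ((1, 0, 0, 0) : V8 K)).2.1)).mul l0; rwa [one_mul, ← hz] at this
  have cz : ∀ x, z * uu x * z⁻¹ = uu (-x) := fun x => by
    have := c0 x
    rw [inv_neg, inv_one, map_neg, map_one, neg_one_mul] at this
    calc z * uu x * z⁻¹ = uu (-(z0 • ((1, 0, 0, 0) : V8 K)).2.1) * (z0 * uu x * z0⁻¹) *
        (uu (-(z0 • ((1, 0, 0, 0) : V8 K)).2.1))⁻¹ := by rw [hz]; group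
      _ = _ := by rw [this, ← uu_neg, ← uu_add, ← uu_add]; congr 1; ring
  have zy : z • yv K = sm (-1) (yv K) := by
    have y1 : yv K ∈ Y1 K := ⟨rfl, rfl, rfl⟩
    obtain ⟨h1, h3, h4⟩ := sb_mem s0 y1
    have h5 := t0.e _ y1
    rw [hz, mul_smul, uu_smul]
    apply ext8 <;> simp only [uF, sm, h1, h3, h4, h5] <;> simp [yv]
  obtain ⟨d0, s, hx⟩ : ∃ d0 s, z • ((1, 0, 0, 0) : V8 K) = (1, 0, d0, s) := by
    have h1 := t0.b (1, 0, 0, 0)
    refine ⟨_, _, Prod.ext ?_ (Prod.ext ?_ rfl)⟩ <;> rw [hz, mul_smul, uu_smul] <;> simp only [uF, h1] <;> simp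
  have ze : ∀ e : k, z • ((0, 0, 0, e) : V8 K) = (0, 0, 0, -e) := fun e => by
    have : ((0, 0, 0, e) : V8 K) = sm e (yv K) := by simp [sm, yv]
    rw [this, li.lin, zy]; simp [sm, yv]
  have k1 : ∀ a : K, z • ((0, a, 0, 0) : V8 K) + z • ((0, 0, sh a, 0) : V8 K) = (0, -a, sh a, -T (a * d0)) :=
    fun a => by
      have h1 := VZ.cj (cz a) (1, 0, 0, 0)
      have h3 : uF a ((1, 0, 0, 0) : V8 K) - (1, 0, 0, 0) = (0, a, 0, 0) + (0, 0, sh a, 0) + (0, 0, 0, N a) := by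
        simp [uF]
      rw [h3, smul_add, smul_add, ze, hx] at h1
      rw [eq_sub_of_add_eq h1]
      apply ext8 <;> simp only [uF, Prod.fst_sub, Prod.snd_sub] <;> cb
  have dbl : ∀ v w : V8 K, v + v = w + w → v = w := fun v w e => by
    have e' : v - w = -(v - w) := by rw [eq_neg_iff_add_eq_zero, sub_add_sub_comm, e, sub_self]
    refine sub_eq_zero.1 (Prod.ext (VZ.half h2 (congrArg (·.1) e')) (Prod.ext (VZ.halfK h2 (congrArg (·.2.1) e'))
      (Prod.ext (VZ.halfK h2 (congrArg (·.2.2.1) e')) (VZ.half h2 (congrArg (·.2.2.2) e')))))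
  have k2 : ∀ a : K, z • ((0, 0, sh a, 0) : V8 K) = (0, 0, sh a, 0) := fun a => by
    have h1 := k1 a
    have h3 := k1 (-a)
    have h4 : ((0, -a, 0, 0) : V8 K) = -(0, a, 0, 0) := by simp
    rw [h4, smul_neg, sh_neg] at h3
    refine dbl _ _ ?_
    calc _ = (z • ((0, a, 0, 0) : V8 K) + z • ((0, 0, sh a, 0) : V8 K)) +
        (-(z • ((0, a, 0, 0) : V8 K)) + z • ((0, 0, sh a, 0) : V8 K)) := by abel
      _ = _ := by rw [h1, h3]; simp
  have zc : ∀ a : K, z • ((0, a, 0, 0) : V8 K) = (0, -a, 0, -T (a * d0)) := fun a => by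
    have h1 := k1 a
    rw [k2] at h1
    rw [eq_sub_of_add_eq h1]; simp
  have zd : ∀ d : K, z • ((0, 0, d, 0) : V8 K) = (0, 0, d, 0) := fun d => by
    have hd : d ∈ AddSubgroup.closure (Set.range (sh : K → K)) := by
      rw [closure_sh]; exact AddSubgroup.mem_top d
    induction hd using AddSubgroup.closure_induction with
    | mem x hx => obtain ⟨a, rfl⟩ := hx; exact k2 a
    | zero => exact smul_zero z
    | add x y _ _ hx hy =>
      rw [show ((0, 0, x + y, 0) : V8 K) = (0, 0, x, 0) + (0, 0, y, 0) by simp, smul_add, hx, hy]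
    | neg x _ hx => rw [show ((0, 0, -x, 0) : V8 K) = -(0, 0, x, 0) by simp, smul_neg, hx]
  have hd0 : d0 = 0 := nd _ fun a => by
    have h1 := li.bf (1, 0, 0, 0) (0, a, 0, 0)
    rw [hx, zc] at h1
    simp only [Bf, mul_zero, map_zero, zero_mul, mul_neg, map_neg, mul_comm a d0] at h1
    exact VZ.half h2 (by linear_combination -h1)
  subst hd0
  refine ⟨s, z, zH, fun ⟨b, c, d, e⟩ => ?_⟩
  have : ((b, c, d, e) : V8 K) = sm b (1, 0, 0, 0) + (0, c, 0, 0) + (0, 0, d, 0) + (0, 0, 0, e) := by simp [sm]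
  rw [this, smul_add, smul_add, smul_add, li.lin, hx, zc, zd, ze]
  simp [sm, zF, add_comm]

theorem Cu.vp1 (C : Cu p H) (h2 : (2 : k) ≠ 0) (hz : z ∈ H) {s : k} (e : ∀ v : V8 K, z • v = zF s v) (hh : h ∈ H) {ε : k}
    (hε : ε = 1 ∨ ε = -1) (e' : z • h • yv K = sm ε (h • yv K)) :
    (∀ a, z * (h * uu a * h⁻¹) * z⁻¹ = h * uu (-a) * h⁻¹) ∧
      ∀ w : V8 K, z • w = sm (-ε) w → Bf w (h • yv K) = 0 → h⁻¹ • w ∈ Y3 K := by
  obtain ⟨σ, li, tr⟩ := C.li_conj hh (VZ.li_z h2 e)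
  have σe : σ ε = ε := by rcases hε with rfl | rfl <;> simp
  have ee : ε * ε = 1 := by rcases hε with rfl | rfl <;> simp
  rw [map_neg, map_one] at li
  have zz : z * z = 1 := LinearEquiv.ext fun v => by
    change z • z • v = v
    rw [e, e]; simp [zF]
  obtain ⟨z', hz'⟩ : ∃ z', z' = h⁻¹ * z * h := ⟨_, rfl⟩
  rw [← hz'] at li tr
  have zH : z' ∈ H := hz' ▸ mul_mem (mul_mem (inv_mem hh) hz) hh
  have z2 : z' * z' = 1 := by
    rw [hz']
    calc _ = h⁻¹ * (z * z) * h := by group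
      _ = 1 := by rw [zz]; group
  have zy : z' • yv K = sm ε (yv K) := by rw [tr _ _ e', σe]
  have s1 : z' ∈ sb (G8 K) (Y1 K) := (C.sb1 zH).2 (by rw [zy]; simp [sm, yv])
  have s3 := C.sb3 zH s1
  obtain ⟨γ, hγ⟩ := C.normU zH s1
  have gg : ∀ a, γ (γ a) = a := fun a => uu_inj (by
    rw [← hγ, ← hγ]
    calc _ = z' * z' * uu a * (z' * z')⁻¹ := by group
      _ = _ := by rw [z2]; group)
  have zb : ∀ v : V8 K, (z' • v).1 = -ε * v.1 := fun v => by
    have h1 := li.bf v (yv K)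
    rw [zy, VZ.Bf_y, ← VZ.sm_one (yv K), VZ.Bf_y] at h1
    linear_combination ε * h1 - (z' • v).1 * ee
  have zc : ∀ v ∈ Y4 K, (z' • v).2.1 = -ι ε * γ v.2.1 := fun v hv => by
    have h1 := congrArg (·.2.1) (VZ.cj (hγ v.2.1) (1, 0, 0, 0))
    have h3 : v - (uF v.2.1 (1, 0, 0, 0) - (1, 0, 0, 0)) ∈ Y3 K := by simpa [uF] using hv
    have h4 := (sb_mem s3 h3).2
    rw [smul_sub, Prod.snd_sub, Prod.fst_sub, sub_eq_zero] at h4
    simp only [uF, Prod.fst_sub, Prod.snd_sub, zb] at h1 h4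
    rw [h4, h1]; simp
  have e0 : (ι ε : K) ≠ 0 := fun h0 => by rw [ι_eq_zero.1 h0, mul_zero] at ee; exact zero_ne_one ee
  have lin : ∀ (t : k) (a : K), γ (ι t * a) = ι t * γ a := fun t a => by
    have h1 := zc (sm t (0, a, 0, 0)) (by simp [sm])
    rw [li.lin] at h1
    simp only [sm, zc (0, a, 0, 0) rfl] at h1
    exact mul_left_cancel₀ e0 (by linear_combination h1)
  have tri : ∀ a b c, T (γ a * cr (γ b) (γ c)) = -T (a * cr b c) := fun a b c => by
    have h1 := congrArg (z' • ·) (VZ.three a b c (1, 0, 0, 0))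
    beta_reduce at h1
    rw [VZ.cj (hγ a), VZ.cj (hγ b), VZ.cj (hγ c), VZ.three, li.lin, zy, zb] at h1
    have h3 := congrArg (·.2.2.2) h1
    simp only [sm, yv] at h3
    linear_combination (-ε) * h3 - (T (γ a * cr (γ b) (γ c)) + T (a * cr b c)) * ee
  have hg := VZ.gam h2 γ gg lin tri
  refine ⟨fun a => ?_, fun w hw hb => ?_⟩
  · rw [← hg, ← hγ, hz']; group
  · have h1 : Bf (h⁻¹ • w) (yv K) = 0 := (C.perp hh _ _).1 (by rwa [smul_inv_smul])
    rw [← VZ.sm_one (yv K), VZ.Bf_y, one_mul] at h1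
    have h3 := tr (-ε) (h⁻¹ • w) (by rw [smul_inv_smul, hw])
    have h4 := zc _ h1
    rw [h3, hg, map_neg, σe] at h4
    simp only [sm, map_neg] at h4
    exact ⟨h1, VZ.halfK h2 (mul_left_cancel₀ e0 (by linear_combination -h4))⟩

end H69.T3
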