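import Mathlib
import Cfsg.Agent.Lib.T3F.Defs
import Cfsg.Agent.Lib.T3F.VZ
import Cfsg.Agent.Lib.T3F.VD

set_option autoImplicit false
set_option linter.unusedSectionVars false
set_option linter.unusedVariables false

namespace H69.T3

open H89.D4S Subgroup
open H93.SX hiding sh
open H68 (SylowIn)
open scoped commutatorElement

variable {k K : Type*} [Field k] [Field K] [Cub k K] [Finite k] [Finite K] [Fc K]
  {p : ℕ} [Fact p.Prime] [CharP K p] {H : Subgroup (G8 K)} {g h z : G8 K}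

namespace VE

theorem aff {A : Type*} [AddCommGroup A] [Finite A] (hA : Nat.card A = 8) (γ : A ≃+ A) (x1 n : A)
    (hn : γ n + x1 ≠ n) (h3 : {x | γ x + x1 = x}ᶜ.ncard ≤ 3) : False := by
  have hs := Set.ncard_add_ncard_compl {x | γ x + x1 = x}
  obtain ⟨f0, hf0⟩ : {x | γ x + x1 = x}.Nonempty := by
    rw [← Set.ncard_pos]; omega
  have : {x | γ x + x1 = x}.ncard ≤ {x | γ x + x1 = x}ᶜ.ncard := by
    refine Set.ncard_le_ncard_of_injOn (fun f => n + f - f0) (fun f hf e => hn ?_) (fun a _ b _ e => ?_)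
    · simp only [Set.mem_ofPred_eq, map_add, map_sub] at e hf hf0
      have e1 : γ f = f - x1 := eq_sub_of_add_eq hf
      have e2 : γ f0 = f0 - x1 := eq_sub_of_add_eq hf0
      rw [e1, e2] at e
      have : γ n + x1 - n = (γ n + (f - x1) - (f0 - x1) + x1) - (n + f - f0) := by abel
      rw [e, sub_self] at this
      exact sub_eq_zero.1 this
    · simpa using e
  omega

theorem one_of (hq : Nat.card k = 2) {t : k} (ht : t ≠ 0) : t = 1 := by
  obtain ⟨y, -, hy⟩ := (Nat.card_eq_two_iff' (0 : k)).1 hq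
  rw [hy t ht, hy 1 one_ne_zero]

theorem two_k (hq : Nat.card k = 2) : (2 : k) = 0 := by
  by_contra e
  have := one_of hq e
  exact one_ne_zero (α := k) (by linear_combination this)

theorem sm_one (v : V8 K) : sm 1 v = v := by simp [sm]

theorem pt_zero : (pt 0 : V8 K) = (1, 0, 0, 0) := by simp [pt]

theorem uu_pt (a b : K) : uu a • (pt b : V8 K) = pt (a + b) := by
  rw [uu_smul]; apply ext8 <;> simp only [uF, pt] <;> cb

theorem pt_inj {a b : K} (e : (pt a : V8 K) = pt b) : a = b := congrArg (fun v : V8 K => v.2.1) e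

theorem pt_nm (a : K) : (pt a : V8 K) ∉ Y1 K := fun e => one_ne_zero (α := k) e.1

theorem orb (C : Cu p H) (hq : Nat.card k = 2) (S : Std H) (hh : h ∈ H) :
    h • yv K = yv K ∨ ∃ a, h • yv K = pt a := by
  by_cases e : h ∈ sb (G8 K) (Y1 K)
  · left
    obtain ⟨e1, e2, e3⟩ := (C.sb1 hh).1 e
    have h0 : (h • yv K).2.2.2 ≠ 0 := fun e4 =>
      Cu.yne hh (Prod.ext e1 (Prod.ext e2 (Prod.ext e3 e4)))
    exact Prod.ext e1 (Prod.ext e2 (Prod.ext e3 (one_of hq h0)))
  · obtain ⟨t, a, ht, e'⟩ := S h hh e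
    exact Or.inr ⟨a, by rw [e', one_of hq ht, sm_one]⟩

theorem exists_l (hq : Nat.card k = 2) : ∃ l : K, l ≠ 0 ∧ l ≠ 1 ∧ ((2 : K) = 0 → l ^ 2 + l + 1 ≠ 0) := by
  obtain ⟨x, hx⟩ := exists_not_fix (K := K)
  refine ⟨x, fun e => hx (by simp [e]), fun e => hx (by simp [e]), fun h2 e => ?_⟩
  have e1 : θ x ^ 2 + θ x + 1 = 0 := by simpa using congrArg θ e
  have e2 : (θ x - x) * (θ x + x + 1) = 0 := by linear_combination e1 - e
  have e3 : θ x = x + 1 := by
    have := (mul_eq_zero.1 e2).resolve_left (sub_ne_zero.2 hx)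
    linear_combination this - (x + 1) * h2
  have e4 : θ (θ x) = x := by rw [e3, map_add, e3, map_one]; linear_combination h2
  have e5 := θ3 x
  rw [e4] at e5
  exact hx e5

end VE

open VE

theorem Cu.cc1 (C : Cu p H) (h2 : (2 : k) ≠ 0) (ht : HT H) (S : Std H) : CC H := by
  rintro g hg ⟨t, e⟩ c
  obtain ⟨s, z, hz, ez⟩ := C.zz h2 ht
  have e0 : g • yv K = (t, 0, 0, 0) := by rw [e]; simp [sm, pt]
  have t0 : t ≠ 0 := fun e1 => Cu.yne hg (by rw [e0, e1]; rfl)
  have e1 : (z * g) • yv K = (t, 0, 0, t * s) := by rw [mul_smul, e0, ez]; simp [zF]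
  have hn : z * g ∉ sb (G8 K) (Y1 K) := fun e2 => t0 (by
    have := ((C.sb1 (mul_mem hz hg)).1 e2).1
    rwa [e1] at this)
  obtain ⟨t', a, ht', e2⟩ := S _ (mul_mem hz hg) hn
  rw [e1] at e2
  have a0 : a = 0 := by
    have := congrArg (fun v : V8 K => v.2.1) e2
    simp only [sm, pt] at this
    exact (mul_eq_zero.1 this.symm).resolve_left (by simpa using ht')
  have s0 : t * s = 0 := by
    have := congrArg (fun v : V8 K => v.2.2.2) e2
    simpa [sm, pt, a0] using this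
  refine (C.vp1 h2 hz ez hg (ε := 1) (Or.inl rfl) ?_).2 _ ?_ ?_
  · rw [← mul_smul, e1, s0, sm_one, e0]
  · rw [ez]; simp [zF, sm]
  · rw [e0]; simp [Bf]

theorem Cu.cc3 (C : Cu p H) (hq : Nat.card k = 2) (ht : ∀ l : K, l ≠ 0 → Has H (tauF l 1)) (S : Std H) :
    CC H := by
  rintro g hg ⟨t, e⟩ c
  have k2 := two_k hq
  have K2 : (2 : K) = 0 := two_iff.2 k2
  have e0 : g • yv K = pt 0 := by
    have t0 : t ≠ 0 := fun e1 => Cu.yne hg (by rw [e, e1]; simp [sm])
    rw [e, one_of hq t0, sm_one]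
  have hN : ∀ l : K, l ≠ 0 → N l = 1 := fun l hl => one_of hq (N_ne hl)
  have hsh : ∀ l : K, l ≠ 0 → l * sh l = 1 := fun l hl => by rw [mul_sh, hN l hl, map_one]
  -- `g Y4 = {e = 0}`
  have y4 : ∀ v : V8 K, g⁻¹ • v ∈ Y4 K ↔ v.2.2.2 = 0 := fun v => by
    have := C.perp hg (g⁻¹ • v) (yv K)
    rw [smul_inv_smul, e0, pt_zero] at this
    simpa [Bf, yv] using this.symm
  have x0 : g⁻¹ • (pt 0 : V8 K) = yv K := by rw [← e0, inv_smul_smul]
  -- invariance of `g Y3` under the torus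
  have tau : ∀ l : K, l ≠ 0 → ∀ v : V8 K, g⁻¹ • v ∈ Y3 K → g⁻¹ • tauF l 1 v ∈ Y3 K := fun l hl v hv => by
    obtain ⟨τ, hτ, eτ⟩ := ht l hl
    have hm : g⁻¹ * τ * g ∈ H := mul_mem (mul_mem (inv_mem hg) hτ) hg
    have h1 : g⁻¹ * τ * g ∈ sb (G8 K) (Y1 K) := (C.sb1 hm).2 (by
      rw [mul_smul, mul_smul, e0, eτ, show tauF l 1 (pt 0) = pt 0 by simp [tauF, pt], x0]
      simp [yv])
    have := sb_mem (C.sb3 hm h1) hv
    rwa [mul_smul, mul_smul, smul_inv_smul, eτ] at this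
  obtain ⟨l, l0, l1, l2⟩ := exists_l (K := K) hq
  have l3 : l + 1 ≠ 0 := fun e => l1 (by linear_combination e - K2)
  by_cases hc : ∃ v : V8 K, g⁻¹ • v ∈ Y3 K ∧ v.2.1 ≠ 0
  · obtain ⟨⟨b, c0, d, e'⟩, hv, c00⟩ := hc
    have e4 : e' = 0 := (y4 _).1 hv.1
    subst e4
    have hv1 : g⁻¹ • ((0, c0, d, 0) : V8 K) ∈ Y3 K := by
      by_cases hb : b = 0
      · rwa [hb] at hv
      · rw [one_of hq hb] at hv
        have := sub_mem hv (show g⁻¹ • (pt 0 : V8 K) ∈ Y3 K by rw [x0]; simp [yv])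
        rwa [← smul_sub, pt_zero, show ((1, c0, d, 0) : V8 K) - (1, 0, 0, 0) = (0, c0, d, 0) by simp] at this
    have hμ : sh l + 1 - sh (l + 1) ≠ 0 := fun e => l2 K2 (by
      linear_combination l * (l + 1) * e - (l + 1) * hsh l l0 + l * hsh _ l3)
    have hv2 : g⁻¹ • ((0, 0, (sh l + 1 - sh (l + 1)) * d, 0) : V8 K) ∈ Y3 K := by
      have := sub_mem (add_mem (tau l l0 _ hv1) hv1) (tau _ l3 _ hv1)
      rw [← smul_add, ← smul_sub] at this
      convert this using 2
      simp only [tauF, Prod.mk_add_mk, Prod.mk_sub_mk, map_one]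
      refine Prod.ext ?_ (Prod.ext ?_ (Prod.ext ?_ ?_)) <;> simp only <;> ring
    have hv3 : g⁻¹ • ((0, 0, d, 0) : V8 K) ∈ Y3 K := by
      have := tau _ hμ _ hv2
      convert this using 2
      simp only [tauF, map_one]
      refine Prod.ext ?_ (Prod.ext ?_ (Prod.ext ?_ ?_)) <;> simp only
      · ring
      · ring
      · linear_combination (-d) * hsh _ hμ
      · ring
    have hv4 : g⁻¹ • ((0, c0, 0, 0) : V8 K) ∈ Y3 K := by
      have := sub_mem hv1 hv3
      rwa [← smul_sub, show ((0, c0, d, 0) : V8 K) - (0, 0, d, 0) = (0, c0, 0, 0) by ext <;> simp] at this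
    by_cases c0' : c = 0
    · rw [c0', show ((0, 0, 0, 0) : V8 K) = 0 from rfl, smul_zero]; exact zero_mem _
    · have := tau (c / c0) (div_ne_zero c0' c00) _ hv4
      convert this using 2
      have c01 : c0 ≠ 0 := c00
      simp [tauF, c01]
  exfalso
  push Not at hc
  have gn : g⁻¹ • yv K ≠ yv K := fun e => pt_nm (0 : K) (by
    rw [← e0, ← e, smul_inv_smul]; simp [yv])
  obtain ⟨a', ea'⟩ := (orb C hq S (inv_mem hg)).resolve_left gn
  -- the element `u'`
  set u : G8 K := g * uu 1 * g⁻¹ with hu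
  have hu' : u ∈ H := mul_mem (mul_mem hg (C.uu_mem 1)) (inv_mem hg)
  have ud : ∀ v : V8 K, g⁻¹ • (u • v - v) = uu (1 : K) • g⁻¹ • v - g⁻¹ • v := fun v => by
    rw [smul_sub, hu, mul_smul, mul_smul, inv_smul_smul]
  have u4 : ∀ v : V8 K, (u • v).2.2.2 = v.2.2.2 := fun v => by
    have := (y4 (u • v - v)).1 (by rw [ud, uu_smul]; simp [uF])
    exact sub_eq_zero.1 this
  have u3 : ∀ v : V8 K, v.2.2.2 = 0 → (u • v).2.1 = v.2.1 := fun v hv => by
    have h4 : (g⁻¹ • v).1 = 0 := (y4 v).2 hv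
    have := hc (u • v - v) (by
      rw [ud, uu_smul]; generalize g⁻¹ • v = w at h4; simp [uF, h4])
    exact sub_eq_zero.1 this
  have uy : u • yv K ≠ yv K := fun e => by
    have := ud (yv K)
    rw [e, sub_self, smul_zero, ea', uu_pt] at this
    have := pt_inj (sub_eq_zero.1 this.symm)
    exact one_ne_zero (α := K) (by linear_combination this)
  obtain ⟨a0, ea0⟩ := (orb C hq S hu').resolve_left uy
  have a00 : a0 ≠ 0 := fun e => by
    have := u4 (yv K)
    rw [ea0, e] at this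
    simp [pt, yv] at this
  have po : ∀ a : K, (uu a * g) • yv K = pt a := fun a => by rw [mul_smul, e0, uu_pt, add_zero]
  have pH : ∀ a : K, uu a * g ∈ H := fun a => mul_mem (C.uu_mem a) hg
  have up : ∀ a : K, a ≠ 0 → a ≠ a0 → u • (pt a : V8 K) = pt (a0 + a) := fun a h0 h1 => by
    have e1 : (u • (pt a : V8 K)).2.1 = a0 + a := by
      have : (pt a : V8 K) = yv K + (1, a, sh a, 0) := by simp [pt, yv, hN a h0]
      rw [this, smul_add, ea0, Prod.snd_add, Prod.fst_add, u3 _ rfl]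
      rfl
    rcases orb C hq S (mul_mem hu' (pH a)) with e2 | ⟨x, e2⟩
    · rw [mul_smul, po] at e2
      rw [e2] at e1
      exact absurd (by simp only [yv] at e1; linear_combination e1 + a * K2) h1
    · rw [mul_smul, po] at e2
      rw [e2] at e1 ⊢
      exact congrArg pt e1
  set m : G8 K := uu a0 * u with hm
  have hm' : m ∈ H := mul_mem (C.uu_mem a0) hu'
  have mp : ∀ a : K, a ≠ 0 → a ≠ a0 → m • (pt a : V8 K) = pt a := fun a h0 h1 => by
    rw [hm, mul_smul, up a h0 h1, uu_pt]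
    exact congrArg pt (by linear_combination a0 * K2)
  have my : m • yv K ≠ yv K := fun e => pt_nm (a0 + a0) (by
    rw [← uu_pt, ← ea0, ← mul_smul, ← hm, e]; simp [yv])
  have a1 : l * a0 ≠ 0 := mul_ne_zero l0 a00
  have a2 : l * a0 ≠ a0 := fun e => l1 (mul_right_cancel₀ a00 (by rw [e, one_mul]))
  set h : G8 K := uu (l * a0) * g with hh
  have hh' : h ∈ H := pH _
  have hy : h • yv K = pt (l * a0) := po _
  have hb : h⁻¹ * m * h ∈ H := mul_mem (mul_mem (inv_mem hh') hm') hh'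
  have hb1 : h⁻¹ * m * h ∈ sb (G8 K) (Y1 K) := (C.sb1 hb).2 (by
    rw [mul_smul, mul_smul, hy, mp _ a1 a2, ← hy, inv_smul_smul]; simp [yv])
  obtain ⟨γ, hγ⟩ := C.normU hb hb1
  obtain ⟨x1, ex1⟩ : ∃ x1, (h⁻¹ * m * h) • (pt 0 : V8 K) = pt x1 := by
    rcases orb C hq S (mul_mem hb hg) with e2 | e2
    · rw [mul_smul, e0] at e2
      exact absurd ((sb_iff hb1).1 (by rw [e2]; simp [yv])) (pt_nm (0 : K))
    · rwa [mul_smul, e0] at e2
  have act : ∀ x : K, (h⁻¹ * m * h) • (pt x : V8 K) = pt (γ x + x1) := fun x => by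
    have e1 : (pt x : V8 K) = uu x • pt 0 := by rw [uu_pt, add_zero]
    rw [e1, ← uu_pt, ← ex1, ← hγ, ← mul_smul, ← mul_smul, inv_mul_cancel_right]
  have fx : ∀ x : K, γ x + x1 = x ↔ m • h • (pt x : V8 K) = h • pt x := fun x => by
    rw [← inv_smul_eq_iff, ← mul_smul, ← mul_smul, act]
    exact ⟨fun e => congrArg pt e, pt_inj⟩
  obtain ⟨n, en⟩ := (orb C hq S (inv_mem hh')).resolve_left fun e => pt_nm (l * a0) (by
    rw [← hy, ← e, smul_inv_smul]; simp [yv])
  refine aff (by have := Fc.card (k := k) (K := K); rw [this, hq]; norm_num) γ x1 n (fun e => my ?_) ?_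
  · have := (fx n).1 e
    rwa [← en, smul_inv_smul] at this
  · have h3 : ({yv K, pt 0, pt a0} : Set (V8 K)).ncard ≤ 3 :=
      (Set.ncard_insert_le _ _).trans (by
        have := Set.ncard_insert_le (pt 0 : V8 K) {pt a0}
        rw [Set.ncard_singleton] at this
        omega)
    refine le_trans (Set.ncard_le_ncard_of_injOn (fun x => h • (pt x : V8 K)) (fun x hx => ?_)
      (fun a _ b _ e => pt_inj (smul_left_cancel h e))) h3
    rcases orb C hq S (mul_mem hh' (pH x)) with e2 | ⟨a, e2⟩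
    · rw [mul_smul, po] at e2
      exact Or.inl e2
    · rw [mul_smul, po] at e2
      by_cases h0 : a = 0
      · exact Or.inr (Or.inl (by rw [e2, h0]))
      by_cases h1 : a = a0
      · exact Or.inr (Or.inr (by rw [e2, h1]; rfl))
      exact absurd ((fx x).2 (by rw [e2, mp a h0 h1])) hx

end H69.T3
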