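import Mathlib
import Cfsg.Agent.Lib.T3F.Defs
import Cfsg.Agent.Lib.T3F.VD

set_option autoImplicit false
set_option linter.unusedSectionVars false
set_option linter.unusedVariables false
set_option linter.unusedSimpArgs false

namespace H69.T3

open H89.D4S Subgroup
open H93.SX hiding sh
open H68 (SylowIn)
open scoped commutatorElement

variable {k K : Type*} [Field k] [Field K] [Cub k K] [Finite k] [Finite K] [Fc K]
  {p : ℕ} [Fact p.Prime] [CharP K p] {H : Subgroup (G8 K)} {g h z : G8 K}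

namespace VE2

theorem poly (h2 : (2 : k) = 0) {t : k} (t0 : t ≠ 0) (t1 : t ≠ 1) {n A B : k}
    (e : ∀ s : k, s ≠ 0 → s ^ 3 * n + s ^ 2 * A + s * B = n + A + B) : A = 0 ∧ B = 0 := by
  have st : ∀ s : k, s ≠ 0 → s ≠ 1 → A = 0 ∧ B = n * (s ^ 2 + s + 1) := by
    intro s s0 s1
    have s2 : s + 1 ≠ 0 := fun q => s1 (by linear_combination q - h2)
    have e1 := e s s0
    have e2 := e (s + 1) s2
    have e3 : n * (s ^ 2 + s + 1) = A + B := by
      linear_combination e1 + e2 - (s ^ 3 * n + s ^ 2 * n + s * n + s ^ 2 * A + s * A + s * B - n - A - B + A + B) * h2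
    have e4 : (s + 1) * (s * A) = 0 := by
      linear_combination e1 - (s + 1) * e3 + (s ^ 2 * n + s * n + n - s * B) * h2
    have a0 : A = 0 := (mul_eq_zero.1 ((mul_eq_zero.1 e4).resolve_left s2)).resolve_left s0
    exact ⟨a0, by rw [e3, a0, zero_add]⟩
  obtain ⟨a0, b1⟩ := st t t0 t1
  have s2 : t + 1 ≠ 0 := fun q => t1 (by linear_combination q - h2)
  have t2 : t ^ 2 ≠ 1 := fun q => s2 (pow_eq_zero_iff (two_ne_zero) |>.1 (by
    linear_combination q + (t + 1) * h2))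
  obtain ⟨-, b2⟩ := st (t ^ 2) (pow_ne_zero _ t0) t2
  refine ⟨a0, ?_⟩
  have : t * (t + 1) * B = 0 := by
    linear_combination (t * (t + 1) + 1) * b1 - b2 + (n * (t ^ 3 + t ^ 2 + t)) * h2
  exact (mul_eq_zero.1 this).resolve_left (mul_ne_zero t0 s2)

theorem two_dim {A B : Set K} (hA : ∀ x ∈ A, ∀ y ∈ A, x + y ∈ A) (h : ∀ x ∈ A, ∀ y ∈ B, T (sh x * y) = 0)
    {x y : K} (hx : x ∈ A) (x0 : x ≠ 0) (hy : y ∈ B) (y0 : y ≠ 0) {z : K} (hz : z ∈ A) : ∃ s : k, z = ι s * x := by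
  by_contra hc
  push Not at hc
  refine y0 (perp3 (indep_of x0 hc) (h x hx y hy) ?_ (h z hz y hy))
  have := h _ (hA x hx z hz) y hy
  rw [sh_add, add_mul, add_mul, map_add, map_add, h x hx y hy, h z hz y hy] at this
  simpa using this

theorem alg (h2 : (2 : k) = 0) {t : k} (t0 : t ≠ 0) (t1 : t ≠ 1) (σ : k ≃+* k) {κ : k} (hκ : κ ≠ 0)
    (f g : K →+ K) (hf : ∀ (s : k) x, f (ι s * x) = ι (σ s) * f x) (hg : ∀ (s : k) x, g (ι s * x) = ι (σ s) * g x)
    (dec : ∀ c d, f c + g d = 0 → f c = 0)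
    (key : ∀ r r', N (f (sh r + sh r') + g (r + r')) = κ * σ (N (r + r'))) (c : K) : f c = 0 := by
  have hK : (2 : K) = 0 := two_iff.2 h2
  have key0 : ∀ r, N (f (sh r) + g r) = κ * σ (N r) := fun r => by simpa using key r 0
  have inj : Function.Injective fun r => f (sh r) + g r := by
    intro r r' e
    have e1 : f (sh r + sh r') + g (r + r') = 0 := by
      simp only at e
      rw [map_add, map_add]; linear_combination e + (f (sh r') + g r') * hK
    have e2 := key r r'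
    rw [e1, N_zero] at e2
    have e3 : N (r + r') = 0 := by simpa [hκ] using e2.symm
    have e4 : r + r' = 0 := by by_contra q; exact N_ne q e3
    linear_combination e4 - r' * hK
  have sur := Finite.injective_iff_surjective.1 inj
  have o1 : ∀ r, T (sh (f (sh r)) * g r) = 0 ∧ T (f (sh r) * sh (g r)) = 0 := by
    intro r
    refine poly (n := N (f (sh r))) h2 t0 t1 fun s s0 => ?_
    obtain ⟨l, rfl⟩ := σ.surjective s
    have e1 := key0 (ι l * r)
    rw [sh_mul, sh_ι, hf, hg, map_mul N, N_ι, map_mul σ, map_pow σ, map_pow σ] at e1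
    have e2 := key0 r
    have e3 : N (ι (σ l ^ 2) * f (sh r) + ι (σ l) * g r) = σ l ^ 3 * (σ l ^ 3 * N (f (sh r)) +
      σ l ^ 2 * T (sh (f (sh r)) * g r) + σ l * T (f (sh r) * sh (g r)) + N (g r)) := by cbk K
    rw [N_add] at e2
    apply mul_left_cancel₀ (pow_ne_zero 3 s0)
    linear_combination e1 - e3 - σ l ^ 3 * e2
  have o2 : ∀ c d, T (sh (f c) * g d) = 0 ∧ T (sh (g d) * f c) = 0 := by
    intro c d
    obtain ⟨r, e⟩ := sur (f c + g d)
    simp only at e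
    have e1 : f (sh r - c) = 0 := dec _ (r - d) (by rw [map_sub, map_sub]; linear_combination e)
    rw [map_sub, sub_eq_zero] at e1
    have e2 : g r = g d := by rw [e1] at e; exact add_left_cancel e
    have := o1 r
    rw [e1, e2] at this
    exact ⟨this.1, by rw [mul_comm]; exact this.2⟩
  by_contra hc
  by_cases hg0 : ∀ d, g d = 0
  · have shs : Function.Surjective (sh : K → K) := Finite.injective_iff_surjective.1 fun x y => sh_inj2 h2
    have n1 : ∀ s : K, N (1 + sh s) = N (1 + s) ^ 2 := by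
      intro s
      obtain ⟨u, e⟩ := shs (1 + sh s)
      have e1 := key 1 s
      have e2 := key0 u
      rw [hg0, sh_one] at e1
      rw [hg0, e, e1] at e2
      rw [← e, N_sh, σ.injective (mul_left_cancel₀ hκ e2)]
    have n2 : ∀ s : K, T (sh s) + T s ^ 2 = N s * T s + T (sh s) ^ 2 := by
      intro s
      have := n1 s
      rw [N_add, N_add, sh_sh, N_sh] at this
      simp only [sh_one, one_mul, map_one, T_ι_mul] at this
      linear_combination this + (T s ^ 2 + T s + T (sh s) + N s + T s * T (sh s) + T (sh s) * N s) * h2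
    have n3 : ∀ s : K, T (sh s) + T s ^ 2 = 0 := by
      intro s
      have e1 := n2 s
      have e2 := n2 (ι t * s)
      rw [sh_mul, sh_ι, map_mul N, N_ι, T_ι_mul, T_ι_mul] at e2
      have s2 : t + 1 ≠ 0 := fun q => t1 (by linear_combination q - h2)
      apply mul_left_cancel₀ (pow_ne_zero 2 (mul_ne_zero t0 s2))
      linear_combination t ^ 4 * e1 - e2 + ((t ^ 3 + t ^ 2) * (T (sh s) + T s ^ 2)) * h2
    refine one_ne_zero (cr_span (d := (1 : K)) fun a b => ?_)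
    have e1 := n3 (a + b)
    rw [sh_add, map_add, map_add, map_add] at e1
    rw [mul_one]
    linear_combination e1 - n3 a - n3 b - (T a * T b) * h2
  · push Not at hg0
    obtain ⟨d, hd⟩ := hg0
    obtain ⟨a, a0, a1, a2⟩ := exists_perp (f c) (g d)
    refine a0 (nd a fun y => ?_)
    obtain ⟨r, rfl⟩ := sur y
    obtain ⟨s, e1⟩ := two_dim (A := Set.range f) (B := Set.range g)
      (by rintro _ ⟨x, rfl⟩ _ ⟨y, rfl⟩; exact ⟨x + y, map_add _ _ _⟩)
      (by rintro _ ⟨x, rfl⟩ _ ⟨y, rfl⟩; exact (o2 x y).1) ⟨c, rfl⟩ hc ⟨d, rfl⟩ hd ⟨sh r, rfl⟩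
    obtain ⟨s', e2⟩ := two_dim (A := Set.range g) (B := Set.range f)
      (by rintro _ ⟨x, rfl⟩ _ ⟨y, rfl⟩; exact ⟨x + y, map_add _ _ _⟩)
      (by rintro _ ⟨x, rfl⟩ _ ⟨y, rfl⟩; exact (o2 y x).2) ⟨d, rfl⟩ hd ⟨c, rfl⟩ hc ⟨r, rfl⟩
    simp only
    rw [e1, e2, mul_add, mul_left_comm, mul_left_comm a, map_add, T_ι_mul, T_ι_mul, a1, a2]
    simp

theorem sm_sm (s t : k) (v : V8 K) : sm s (sm t v) = sm (s * t) v := by
  apply ext8 <;> simp only [sm] <;> cb

/-- multiples of the vectors in the orbit of `y` -/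
def Ob (H : Subgroup (G8 K)) (v : V8 K) : Prop := ∃ w ∈ H, ∃ μ, v = sm μ (w • yv K)

theorem Ob.smul (C : Cu p H) (hz : z ∈ H) {v : V8 K} (o : Ob H v) : Ob H (z • v) := by
  obtain ⟨w, hw, μ, rfl⟩ := o
  obtain ⟨σ, s, -, l, -⟩ := C.semi hz
  exact ⟨z * w, mul_mem hz hw, σ μ, by rw [l, mul_smul]⟩

theorem Ob.sm {v : V8 K} (o : Ob H v) (s : k) : Ob H (sm s v) := by
  obtain ⟨w, hw, μ, rfl⟩ := o
  exact ⟨w, hw, s * μ, sm_sm _ _ _⟩

theorem Ob.pt (S : Std H) {v : V8 K} (o : Ob H v) (h0 : v.1 ≠ 0) : ∃ a, v = T3.sm v.1 (pt a) := by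
  obtain ⟨w, hw, μ, rfl⟩ := o
  obtain ⟨t, a, -, e⟩ := S w hw fun hs => h0 (by
    have : w • yv K ∈ Y1 K := (sb_iff hs).2 ⟨rfl, rfl, rfl⟩
    simp only [T3.sm, this.1, mul_zero])
  refine ⟨a, ?_⟩
  rw [e, sm_sm]
  simp [T3.sm, T3.pt]

theorem ob_y : Ob H (yv K) := ⟨1, one_mem H, 1, by simp [sm]⟩

theorem split (v : V8 K) : v = (v.1, 0, 0, 0) + (0, v.2.1, 0, 0) + (0, 0, v.2.2.1, 0) + (0, 0, 0, v.2.2.2) := by
  simp

/-- a torus element that fixes the point `x0` -/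
theorem tor (C : Cu p H) (ht : HT H) (S : Std H) (o : Ob H (pt 0)) {t : k} (t0 : t ≠ 0) :
    ∃ h ∈ H, (∀ b : k, h • ((b, 0, 0, 0) : V8 K) = (t ^ 2 * b, 0, 0, 0)) ∧
      ∀ c d : K, h • ((0, c, d, 0) : V8 K) = (0, ι t * c, d, 0) := by
  obtain ⟨h, hh, a⟩ := ht t t0
  have b1 : (h • pt (0 : K)).1 = t ^ 2 := by rw [a.b]; simp [pt]
  obtain ⟨a1, e1⟩ := (o.smul C hh).pt S (by rw [b1]; exact pow_ne_zero _ t0)
  rw [b1] at e1
  have hm : uu (-a1) * h ∈ H := mul_mem (C.uu_mem _) hh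
  obtain ⟨-, s1, -⟩ := a.li C hh t0
  have a' : T1 (uu (-a1) * h) t := by
    refine ⟨fun v => ?_, fun v hv => ?_, fun v hv => ?_, fun v hv => ?_⟩
    · rw [mul_smul, uu_smul, ← a.b]; rfl
    · have : h • v ∈ Y4 K := (sb_iff (C.sb4 hh s1)).2 hv
      rw [mul_smul, uu_smul, ← a.c v hv]; generalize h • v = w at this; simp [uF, mem_Y4.1 this]
    · have : h • v ∈ Y3 K := (sb_iff (C.sb3 hh s1)).2 hv
      rw [mul_smul, uu_smul, ← a.d v hv]; generalize h • v = w at this; simp [uF, this.1, this.2]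
    · have : h • v ∈ Y1 K := (sb_iff s1).2 hv
      rw [mul_smul, uu_smul, ← a.e v hv]; generalize h • v = w at this; simp [uF, this.1, this.2.1, this.2.2]
  have e0 : (uu (-a1) * h) • pt (0 : K) = sm (t ^ 2) (pt 0) := by
    rw [mul_smul, e1, uu_smul]
    apply ext8 <;> simp only [uF, sm, pt] <;> cb
  generalize uu (-a1) * h = h' at hm a' e0
  obtain ⟨li, s1', cj⟩ := a'.li C hm t0
  have hb : ∀ b : k, h' • ((b, 0, 0, 0) : V8 K) = (t ^ 2 * b, 0, 0, 0) := by
    intro b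
    have : ((b, 0, 0, 0) : V8 K) = sm b (pt 0) := by simp [sm, pt]
    rw [this, li.lin, e0]; simp [sm, pt, mul_comm]
  have he : ∀ v : V8 K, v.2.2.2 = 0 → (h' • v).2.2.2 = 0 := by
    intro v hv
    have := li.bf (1, 0, 0, 0) v
    rw [hb] at this
    simpa [Bf, hv, t0] using this
  have hd : ∀ c : K, (h' • ((0, c, 0, 0) : V8 K)).2.2.1 = 0 := by
    intro c
    have e2 : h' • pt c = uu (ι t⁻¹ * c) • sm (t ^ 2) (pt 0) := by
      rw [← cj, ← e0, ← mul_smul, inv_mul_cancel_right, mul_smul, uu_smul]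
      congr 1; simp [uF, pt]
    have e3 : pt c = (1, 0, 0, 0) + (0, c, 0, 0) + ((0, 0, sh c, N c) : V8 K) := by simp [pt]
    rw [e3, smul_add, smul_add, hb, uu_smul] at e2
    have e4 := congrArg (fun v : V8 K => v.2.2.1) e2
    simp only [Prod.snd_add, Prod.fst_add] at e4
    rw [a'.d (0, 0, sh c, N c) ⟨rfl, rfl⟩] at e4
    simp only [uF, sm, pt, sh_mul, sh_ι, mul_zero, sh_zero, cr_zero, mul_one, zero_add, ← mul_assoc, ← map_mul,
      ← mul_pow, mul_inv_cancel₀ t0, one_pow, map_one, one_mul] at e4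
    simpa using e4
  refine ⟨h', hm, hb, fun c d => ?_⟩
  refine Prod.ext ?_ (Prod.ext ?_ (Prod.ext ?_ (he _ rfl)))
  · rw [a'.b]; simp
  · exact a'.c _ rfl
  · have : ((0, c, d, 0) : V8 K) = (0, c, 0, 0) + (0, 0, d, 0) := by simp
    rw [this, smul_add, Prod.snd_add, Prod.snd_add, Prod.fst_add, hd, a'.d (0, 0, d, 0) ⟨rfl, rfl⟩]
    simp

theorem exists_t (hq : Nat.card k ≠ 2) : ∃ t : k, t ≠ 0 ∧ t ≠ 1 := by
  by_contra hc
  push Not at hc
  exact hq (Nat.card_eq_two_iff.2 ⟨0, 1, zero_ne_one, Set.eq_univ_of_forall fun x => by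
    by_cases hx : x = 0
    · simp [hx]
    · simp [hc x hx]⟩)

end VE2

open VE2 in
theorem Cu.cc2 (C : Cu p H) (h2 : (2 : k) = 0) (hq : Nat.card k ≠ 2) (ht : HT H) (S : Std H) : CC H := by
  rintro g hg ⟨t0, e0⟩ c
  have hK : (2 : K) = 0 := two_iff.2 h2
  obtain ⟨t, t0', t1⟩ := exists_t hq
  have h0 : t0 ≠ 0 := by
    rintro rfl
    exact Cu.yne hg (by rw [e0]; simp [sm])
  have hi := inv_mem hg
  obtain ⟨σ, s, s0, hl, hb, hq⟩ := C.semi hi
  have gy : g⁻¹ • sm t0 (pt 0) = yv K := by rw [← e0, inv_smul_smul]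
  have b1 : ∀ v : V8 K, (g⁻¹ • v).1 = s * σ (-(v.2.2.2 * t0)) := by
    intro v
    have := hb v (sm t0 (pt 0))
    rw [gy] at this
    simpa [Bf, yv, sm, pt] using this
  have gx : ∀ b : k, g⁻¹ • ((b, 0, 0, 0) : V8 K) = sm (σ (b * t0⁻¹)) (yv K) := by
    intro b
    rw [← gy, ← hl, sm_sm]; simp [sm, pt, h0]
  have ox : Ob H (pt 0) := ⟨g, hg, t0⁻¹, by rw [e0, sm_sm]; simp [sm, h0]⟩
  let f : K →+ K := AddMonoidHom.mk' (fun c => (g⁻¹ • ((0, c, 0, 0) : V8 K)).2.1) fun x y => by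
    rw [← Prod.fst_add, ← Prod.snd_add, ← smul_add]; simp
  let f' : K →+ K := AddMonoidHom.mk' (fun d => (g⁻¹ • ((0, 0, d, 0) : V8 K)).2.1) fun x y => by
    rw [← Prod.fst_add, ← Prod.snd_add, ← smul_add]; simp
  have hf : ∀ (r : k) x, f (ι r * x) = ι (σ r) * f x := fun r x => by
    have := congrArg (fun v : V8 K => v.2.1) (hl r (0, x, 0, 0))
    simp only [sm, mul_zero] at this
    exact this
  have hf' : ∀ (r : k) x, f' (ι r * x) = ι (σ r) * f' x := fun r x => by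
    have := congrArg (fun v : V8 K => v.2.1) (hl r (0, 0, x, 0))
    simp only [sm, mul_zero] at this
    exact this
  have ff : ∀ (b : k) (c d : K), (g⁻¹ • ((b, c, d, 0) : V8 K)).2.1 = f c + f' d := by
    intro b c d
    have : ((b, c, d, 0) : V8 K) = (b, 0, 0, 0) + (0, c, 0, 0) + (0, 0, d, 0) := by simp
    rw [this, smul_add, smul_add, gx]
    simp [sm, yv, f, f']
  have β0 : s * σ (-t0) ≠ 0 := mul_ne_zero s0 (by simpa using h0)
  have pts : ∀ r : K, ∃ a, g⁻¹ • ((N r, sh r, r, 1) : V8 K) = sm (s * σ (-t0)) (pt a) := by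
    intro r
    have o : Ob H ((N r, sh r, r, 1) : V8 K) := by
      by_cases r0 : r = 0
      · rw [r0, N_zero, sh_zero]; exact ob_y
      · have := (ox.smul C (C.uu_mem r⁻¹)).sm (N r)
        convert this using 1
        rw [uu_smul]
        have e1 : sh r * sh r⁻¹ = 1 := by rw [← sh_mul, mul_inv_cancel₀ r0, sh_one]
        have e2 : N r * N r⁻¹ = 1 := by rw [← map_mul, mul_inv_cancel₀ r0, map_one]
        simp only [sm, uF, pt, ← mul_sh, mul_one, zero_add, map_one, one_mul, sh_zero, cr_zero, N_zero, mul_zero,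
          map_zero, e2, mul_assoc, e1, mul_comm (sh r), mul_inv_cancel_left₀ r0]
    have := (o.smul C hi).pt S (by rw [b1, one_mul]; exact β0)
    rwa [b1, one_mul] at this
  refine ⟨by rw [b1]; simp, alg h2 t0' t1 σ (mul_ne_zero β0 s0) f f' hf hf' (fun c d e => ?_) (fun r r' => ?_) c⟩
  · obtain ⟨h, hh, k1, k2⟩ := tor C ht S ox t0'
    have hm : g⁻¹ * h * g ∈ H := mul_mem (mul_mem hi hh) hg
    have s1 : g⁻¹ * h * g ∈ sb (G8 K) (Y1 K) := (C.sb1 hm).2 (by
      have : sm t0 (pt 0) = ((t0, 0, 0, 0) : V8 K) := by simp [sm, pt]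
      rw [mul_smul, mul_smul, e0, this, k1, gx]; simp [sm, yv])
    have m1 : g⁻¹ • ((0, c, d, 0) : V8 K) ∈ Y3 K := ⟨by rw [b1]; simp, by rw [ff, e]⟩
    have m2 := ((sb_iff (C.sb3 hm s1)).2 m1).2
    rw [mul_smul, mul_smul, smul_inv_smul, k2, ff, hf] at m2
    have : (ι (σ t) - 1) * f c = 0 := by linear_combination m2 - e
    refine (mul_eq_zero.1 this).resolve_left fun q => t1 ?_
    rw [sub_eq_zero, ← map_one (ι : k →+* K), ι_eq_iff] at q
    simpa using q
  · obtain ⟨a, ea⟩ := pts r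
    obtain ⟨a', ea'⟩ := pts r'
    have e1 : ((N r, sh r, r, 1) : V8 K) + (N r', sh r', r', 1) = (N r + N r', sh r + sh r', r + r', 0) := by
      simp only [Prod.mk_add_mk, one_add_one_eq_two, h2]
    have e2 : g⁻¹ • ((N r + N r', sh r + sh r', r + r', 0) : V8 K) =
        sm (s * σ (-t0)) (pt a) + sm (s * σ (-t0)) (pt a') := by rw [← e1, smul_add, ea, ea']
    have e3 := hq h2 (N r + N r', sh r + sh r', r + r', 0)
    have e4 : ∀ x y : K, T ((sh x + sh y) * (x + y)) = N (x + y) := fun x y => by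
      have : T ((sh x + sh y) * (x + y)) = N (x + y) + 2 * (N x + N y) := by cbk K
      rw [this, h2, zero_mul, add_zero]
    rw [← ff (N r + N r'), e2]
    rw [e2] at e3
    generalize s * σ (-t0) = β at e3 ⊢
    simp only [Qf, sm, pt, Prod.mk_add_mk, mul_zero, zero_add, e4, mul_one] at e3 ⊢
    have e5 : T ((ι β * a + ι β * a') * (ι β * sh a + ι β * sh a')) = β ^ 2 * N (a + a') := by
      rw [← e4]; cbk K
    rw [e5] at e3
    rw [← mul_add, map_mul N, N_ι]
    linear_combination β * e3 - (β ^ 2 * (β * N a + β * N a')) * h2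

end H69.T3
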