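import Mathlib
import Cfsg.Agent.Lib.T3F.Defs
import Cfsg.Agent.Lib.T3F.VD

set_option autoImplicit false
set_option linter.unusedSectionVars false
set_option linter.unusedVariables false
set_option linter.unusedSimpArgs false
set_option linter.unnecessarySeqFocus false

namespace H69.T3

open H89.D4S Subgroup
open H93.SX hiding sh
open H68 (SylowIn)
open scoped commutatorElement

variable {k K : Type*} [Field k] [Field K] [Cub k K] [Finite k] [Finite K] [Fc K]
  {p : ℕ} [Fact p.Prime] [CharP K p] {H : Subgroup (G8 K)} {g h z : G8 K}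

namespace VF

theorem sm_sm (s t : k) (v : V8 K) : sm s (sm t v) = sm (s * t) v := by
  apply ext8 <;> simp only [sm] <;> cb

theorem sm_one (v : V8 K) : sm 1 v = v := by
  apply ext8 <;> simp only [sm] <;> cb

theorem sm_inj {t : k} (ht : t ≠ 0) {v w : V8 K} (e : sm t v = sm t w) : v = w := by
  rw [← sm_one v, ← sm_one w, ← inv_mul_cancel₀ ht, ← sm_sm, ← sm_sm, e]

theorem uu_pt (a b : K) (t : k) : uu a • sm t (pt b) = sm t (pt (a + b)) := by
  apply ext8 <;> simp only [uu_smul, uF, sm, pt] <;> cb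

theorem uu_yv (a : K) : uu a • yv K = yv K := by
  apply ext8 <;> simp only [uu_smul, uF, yv] <;> cb

theorem uu_Y3 (a : K) {w : V8 K} (hw : w ∈ Y3 K) : uu a • w = w + sm (T (a * w.2.2.1)) (yv K) := by
  apply ext8 <;> simp only [uu_smul, uF, sm, yv, Prod.fst_add, Prod.snd_add, hw.1, hw.2] <;> cb

theorem T_nd {x y : K} (h : ∀ c, T (x * c) = T (y * c)) : x = y := by
  by_contra hn
  obtain ⟨c, hc⟩ := T_surj (sub_ne_zero.2 hn) (1 : k)
  rw [sub_mul, map_sub, h, sub_self] at hc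
  exact zero_ne_one hc

theorem orb (C : Cu p H) (S : Std H) (hh : h ∈ H) (e : (h • yv K).2.2.2 = 1) :
    (h • yv K).2.1 = sh (h • yv K).2.2.1 := by
  by_cases h1 : h ∈ sb (G8 K) (Y1 K)
  · obtain ⟨-, h2, h3⟩ := (C.sb1 hh).1 h1
    rw [h2, h3, sh_zero]
  · obtain ⟨t, a, -, ea⟩ := S h hh h1
    rw [ea] at e ⊢
    simp only [sm, pt] at e ⊢
    rw [sh_mul, sh_sh, sh_ι, ← mul_assoc, ← map_mul, sq, mul_assoc t, e, mul_one]

end VF

open VF

theorem Cu.ul (C : Cu p H) (hm : ¬ H ≤ sb (G8 K) (Y1 K)) (S : Std H) (c : CC H) (r : K) : Has H (ulF r) := by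
  obtain ⟨g, hg, t0, ht0, gy⟩ := S.x0 C hm
  obtain ⟨σ, s0, -, sl, -, -⟩ := C.semi hg
  have mem : ∀ a, g * uu a * g⁻¹ ∈ H := fun a => mul_mem (mul_mem hg (C.uu_mem a)) (inv_mem hg)
  have li : ∀ a, Li (g * uu a * g⁻¹) 1 := fun a => by
    obtain ⟨τ, h, -⟩ := C.li_conj (inv_mem hg) (li_uu a)
    rwa [inv_inv, map_one] at h
  have fx : ∀ a, (g * uu a * g⁻¹) • (pt 0 : V8 K) = pt 0 := fun a => by
    have : (g * uu a * g⁻¹) • g • yv K = g • yv K := by
      rw [mul_smul, inv_smul_smul, mul_smul, uu_yv]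
    rw [gy, (li a).lin] at this
    exact sm_inj ht0 this
  have fe : ∀ a (v : V8 K), ((g * uu a * g⁻¹) • v).2.2.2 = v.2.2.2 := fun a v => by
    have := (li a).bf v (pt 0)
    rw [fx] at this
    simpa [Bf, pt] using this
  have fc : ∀ a x, ∃ β : k, (g * uu a * g⁻¹) • ((0, x, 0, 0) : V8 K) = (β, x, 0, 0) := fun a x => by
    rw [mul_smul, mul_smul, uu_Y3 a (c g hg ⟨t0, gy⟩ x), smul_add, smul_inv_smul, sl, gy]
    exact ⟨_, by simp [sm, pt]; rfl⟩
  have g1 : g⁻¹ ∉ sb (G8 K) (Y1 K) := fun h => by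
    have := ((C.sb1 hg).1 (inv_inv g ▸ inv_mem h)).1
    rw [gy] at this
    simp [sm, pt, ht0] at this
  obtain ⟨t1, a1, ht1, e1⟩ := S _ (inv_mem hg) g1
  have ex : ∀ r : K, ∃ a, (g * uu a * g⁻¹) • yv K = (N r, sh r, r, 1) := fun r => by
    by_cases r0 : r = 0
    · exact ⟨0, by simp [uu_zero, r0, yv]⟩
    have hh : g⁻¹ * uu r⁻¹ * g ∈ H := mul_mem (mul_mem (inv_mem hg) (C.uu_mem _)) hg
    have ey : g • (g⁻¹ * uu r⁻¹ * g) • yv K = sm t0 (pt r⁻¹) := by
      rw [mul_smul, mul_smul, smul_inv_smul, gy, uu_pt, add_zero]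
    obtain ⟨t2, a2, ht2, e2⟩ := S _ hh fun h => by
      obtain ⟨h1, h2, h3⟩ := (C.sb1 hh).1 h
      generalize (g⁻¹ * uu r⁻¹ * g) • yv K = w at ey h1 h2 h3
      rw [show w = sm w.2.2.2 (yv K) by apply ext8 <;> simp [sm, yv, h1, h2, h3], sl, gy] at ey
      have := congrArg (fun v => v.2.1) ey
      simp [sm, pt, ht0, r0] at this
    refine ⟨a2 - a1, ?_⟩
    have e3 : (g * uu (a2 - a1) * g⁻¹) • yv K = sm (σ (t1 / t2) * t0) (pt r⁻¹) := by
      rw [← sm_sm, ← ey, ← sl, e2, sm_sm, div_mul_cancel₀ _ ht2, mul_smul, mul_smul, e1, uu_pt, sub_add_cancel]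
    have e4 := fe (a2 - a1) (yv K)
    rw [e3] at e4 ⊢
    generalize σ (t1 / t2) * t0 = l at e4 ⊢
    simp only [sm, pt, yv] at e4 ⊢
    have n1 : N r⁻¹ * N r = 1 := by rw [← map_mul, inv_mul_cancel₀ r0, map_one]
    have e5 : l = N r := by rw [← mul_one l, ← n1, ← mul_assoc, e4, one_mul]
    have s1 : sh r * sh r⁻¹ = 1 := by rw [← sh_mul, mul_inv_cancel₀ r0, sh_one]
    rw [e4, e5, mul_one, ← mul_sh, mul_assoc r _ (sh r⁻¹), s1, mul_one, mul_comm r, mul_inv_cancel_right₀ r0]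
  obtain ⟨a, ea⟩ := ex r
  refine ⟨_, mem a, ?_⟩
  have hu := mem a
  have L := li a
  replace fx := fx a
  replace fe := fe a
  replace fc := fc a
  generalize g * uu a * g⁻¹ = u at ea hu L fx fe fc ⊢
  have uc : ∀ x, u • ((0, x, 0, 0) : V8 K) = (T (r * x), x, 0, 0) := fun x => by
    obtain ⟨β, hβ⟩ := fc x
    have := L.bf (0, x, 0, 0) (yv K)
    rw [hβ, ea] at this
    simp [Bf, yv, sub_eq_zero] at this
    rw [hβ, this, mul_comm]
  have dec : ∀ v : V8 K, u • v = sm v.1 (pt 0) + (T (r * v.2.1), v.2.1, 0, 0) + u • (0, 0, v.2.2.1, 0) +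
      sm v.2.2.2 (N r, sh r, r, 1) := fun v => by
    rw [← uc, ← ea, ← fx, ← L.lin, ← L.lin, ← smul_add, ← smul_add, ← smul_add]
    congr 1
    apply ext8 <;> simp [sm, pt, yv]
  have ud : ∀ s, u • ((0, 0, s, 0) : V8 K) = (T (sh r * s), cr r s, s, 0) := fun s => by
    have d : (u • ((0, 0, s, 0) : V8 K)).2.2.1 = s := T_nd fun x => by
      have := L.bf (0, 0, s, 0) (0, x, 0, 0)
      rw [uc, Bf, fe] at this
      simpa [Bf] using this
    obtain ⟨a', ea'⟩ := ex s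
    have o := orb C S (mul_mem hu (mem a')) (by rw [mul_smul, fe, ea'])
    rw [mul_smul, ea', dec] at o
    have b := L.bf (0, 0, s, 0) (yv K)
    have e := fe (0, 0, s, 0)
    rw [ea] at b
    generalize u • ((0, 0, s, 0) : V8 K) = w at d o b e
    obtain ⟨w1, w2, w3, w4⟩ := w
    simp only at d e
    subst d e
    simp [sm, pt, sh_add] at o
    simp [Bf, yv] at b
    have c2 : w2 = cr r w3 := by rw [o, cr_comm]
    subst c2
    have b' : w1 = T (sh r * w3) := by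
      rw [mul_comm (cr _ _), T_cr_self', mul_comm w3] at b
      linear_combination b
    rw [b']
  intro v
  rw [dec, ud]
  apply ext8 <;> simp only [ulF, sm, pt, Prod.fst_add, Prod.snd_add] <;> cb

end H69.T3
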