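import Mathlib
import Cfsg.Agent.Lib.T3F.Defs
import Cfsg.Agent.Lib.T3F.VD

set_option autoImplicit false
set_option linter.unusedSectionVars false
set_option linter.unusedVariables false
set_option linter.unusedSimpArgs false
set_option linter.unnecessarySeqFocus false

namespace H69.T3

open H89.D4S Subgroup
open H93.SX hiding sh
open H68 (SylowIn)
open scoped commutatorElement

variable {k K : Type*} [Field k] [Field K] [Cub k K] [Finite k] [Finite K] [Fc K]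
  {p : ℕ} [Fact p.Prime] [CharP K p] {H : Subgroup (G8 K)} {g h z : G8 K}

namespace VG

theorem n0_eq (v : V8 K) : uF (-1) (ulF 1 (uF (-1) v)) = n0F v := by
  apply ext8 <;> simp only [uF, ulF, n0F] <;> cb

theorem exists_n (C : Cu p H) (hu : ∀ r, Has H (ulF r)) : ∃ n ∈ H, ∀ v : V8 K, n • v = n0F v := by
  obtain ⟨u, hu1, hu2⟩ := hu 1
  refine ⟨uu (-1) * u * uu (-1), mul_mem (mul_mem (C.uu_mem _) hu1) (C.uu_mem _), fun v => ?_⟩
  rw [mul_smul, mul_smul, uu_smul, uu_smul, hu2, n0_eq]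

theorem tau_eq {l : K} (hl : l ≠ 0) (v : V8 K) :
    uF l (ulF (-l⁻¹) (uF l (n0F v))) = tauF (l ^ 2) (N l)⁻¹ v := by
  have h1 : θ l ≠ 0 := (map_ne_zero _).2 hl
  have h2 : θ (θ l) ≠ 0 := (map_ne_zero _).2 h1
  apply ext8 <;> simp only [uF, ulF, n0F, tauF, map_add, map_sub, map_neg, map_mul, map_pow, map_one,
    map_zero, map_inv₀, ιT, ιN, θι, θ3, sh, cr] <;> field_simp <;> ring1

theorem tau_uF (l a : K) (m : k) (v : V8 K) : tauF l m (uF a v) = uF (l * a) (tauF l m v) := by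
  apply ext8 <;> simp only [uF, tauF] <;> cb

theorem n_uF (r : K) (v : V8 K) : n0F (uF r v) = ulF (-r) (n0F v) := by
  apply ext8 <;> simp only [uF, ulF, n0F] <;> cb

theorem uF_pt (a b : K) (t : k) : uF a (sm t (pt b)) = sm t (pt (a + b)) := by
  apply ext8 <;> simp only [uF, sm, pt] <;> cb

theorem n_y (t : k) : n0F ((0, 0, 0, t) : V8 K) = sm t (pt 0) := by
  simp [n0F, sm, pt]

theorem ul_y {a : K} (ha : a ≠ 0) : ulF a⁻¹ (yv K) = sm (N a)⁻¹ (pt a) := by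
  have h1 : θ a ≠ 0 := (map_ne_zero _).2 ha
  have h2 : θ (θ a) ≠ 0 := (map_ne_zero _).2 h1
  apply ext8 <;> simp only [ulF, yv, sm, pt, map_add, map_sub, map_neg, map_mul, map_pow, map_one,
    map_zero, map_inv₀, ιT, ιN, θι, θ3, sh, cr] <;> field_simp <;> ring1

theorem back {n : G8 K} (hn : ∀ v : V8 K, n • v = n0F v) (t : k) :
    n⁻¹ • sm t (pt (0 : K)) ∈ Y1 K := by
  rw [← n_y, ← hn, inv_smul_smul]
  exact ⟨rfl, rfl, rfl⟩

end VG

theorem Cu.br (C : Cu p H) (S : Std H) (hu : ∀ r, Has H (ulF r)) : Br H := by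
  obtain ⟨n, hn, e⟩ := VG.exists_n C hu
  refine ⟨n, hn, e, fun h hh => ?_⟩
  by_cases h1 : h ∈ sb (G8 K) (Y1 K)
  · exact Or.inl h1
  obtain ⟨t, a, -, e1⟩ := S h hh h1
  refine Or.inr ⟨-a, (C.sb1 (mul_mem (mul_mem (inv_mem hn) (C.uu_mem _)) hh)).2 ?_⟩
  rw [mul_smul, mul_smul, e1, uu_smul, VG.uF_pt, neg_add_cancel]
  exact VG.back e t

theorem Cu.to (C : Cu p H) (hu : ∀ r, Has H (ulF r)) : To H := by
  intro l hl
  obtain ⟨n, hn, e⟩ := VG.exists_n C hu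
  obtain ⟨u, hu1, hu2⟩ := hu (-l⁻¹)
  have hm : uu l * u * uu l * n ∈ H :=
    mul_mem (mul_mem (mul_mem (C.uu_mem _) hu1) (C.uu_mem _)) hn
  have e1 : ∀ v : V8 K, (uu l * u * uu l * n) • v = tauF (l ^ 2) (N l)⁻¹ v := fun v => by
    rw [mul_smul, mul_smul, mul_smul, e, uu_smul, uu_smul, hu2, VG.tau_eq hl]
  refine ⟨_, hm, (C.sb1 hm).2 ?_, fun a => ?_, fun v => by rw [e1]; rfl⟩
  · rw [e1]; simp [tauF, yv]
  · rw [mul_inv_eq_iff_eq_mul]
    refine LinearEquiv.ext fun v => ?_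
    change (uu l * u * uu l * n) • uu a • v = uu (l ^ 2 * a) • (uu l * u * uu l * n) • v
    rw [e1, e1, uu_smul, uu_smul, VG.tau_uF]

theorem Cu.sl (C : Cu p H) (S : Std H) (hu : ∀ r, Has H (ulF r)) : Sl H := by
  intro h hh h1
  obtain ⟨n, hn, e⟩ := VG.exists_n C hu
  obtain ⟨γ, hγ⟩ := C.normU hh h1
  have ny : n • yv K = pt 0 := by rw [e]; simp [n0F, yv, pt]
  have hn1 : h * n ∉ sb (G8 K) (Y1 K) := fun h2 => by
    have h3 := (mul_mem_cancel_left h1).1 h2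
    have h4 := ((C.sb1 hn).1 h3).1
    rw [ny] at h4
    exact one_ne_zero h4
  obtain ⟨t, a₁, ht, e1⟩ := S _ (mul_mem hh hn) hn1
  rw [mul_smul, ny] at e1
  set h' := uu (-a₁) * h with hh'
  have m' : h' ∈ H := mul_mem (C.uu_mem _) hh
  have s' : h' ∈ sb (G8 K) (Y1 K) := mul_mem (uu_sb _).1.1 h1
  have e2 : h' • pt (0 : K) = sm t (pt 0) := by
    rw [hh', mul_smul, e1, uu_smul, VG.uF_pt, neg_add_cancel]
  have c' : ∀ a, h' * uu a = uu (γ a) * h' := fun a => by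
    rw [hh', mul_assoc, mul_inv_eq_iff_eq_mul.1 (hγ a), ← mul_assoc, ← mul_assoc, ← uu_add, ← uu_add,
      add_comm]
  have m'' : n⁻¹ * h' * n ∈ H := mul_mem (mul_mem (inv_mem hn) m') hn
  have s'' : n⁻¹ * h' * n ∈ sb (G8 K) (Y1 K) := (C.sb1 m'').2 (by
    rw [mul_smul, mul_smul, ny, e2]; exact VG.back e t)
  obtain ⟨γ', hγ'⟩ := C.normU m'' s''
  have hL : ∀ (r : K) (v : V8 K), (n * uu r * n⁻¹) • v = ulF (-r) v := fun r v => by
    rw [mul_smul, mul_smul, uu_smul, e, VG.n_uF, ← e, smul_inv_smul]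
  have c'' : ∀ (r : K) (v : V8 K), h' • ulF r v = ulF (γ' r) (h' • v) := fun r v => by
    have e3 : h' * (n * uu (-r) * n⁻¹) = n * uu (γ' (-r)) * n⁻¹ * h' := by
      rw [← hγ']; group
    rw [← neg_neg r, ← hL, ← mul_smul, e3, mul_smul, hL, map_neg, neg_neg, neg_neg]
  obtain ⟨σ, s, -, hσ, -⟩ := C.semi m'
  obtain ⟨l, ρ, hl, e4⟩ := hua (γ : K →+ K) (γ' : K →+ K) γ.injective fun a => by
    change γ' a⁻¹ = (γ a)⁻¹
    by_cases ha : a = 0
    · simp [ha]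
    have hg : γ a ≠ 0 := fun h0 => ha (γ.map_eq_zero_iff.1 h0)
    have y1 := (C.sb1 m').1 s'
    have y0 := Cu.yne (H := H) m'
    have e5 := c'' a⁻¹ (yv K)
    have e6 : h' • pt a = sm t (pt (γ a)) := by
      have : pt a = uu a • pt (0 : K) := by rw [uu_smul]; simp [uF, pt]
      rw [this, ← mul_smul, c', mul_smul, e2, uu_smul, VG.uF_pt, add_zero]
    rw [VG.ul_y ha, hσ, e6] at e5
    generalize h' • yv K = w at y1 y0 e5
    obtain ⟨w1, w2, w3, w4⟩ := w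
    obtain ⟨rfl, rfl, rfl⟩ : w1 = 0 ∧ w2 = 0 ∧ w3 = 0 := y1
    have w0 : (ι w4 : K) ≠ 0 := fun h0 => y0 (by rw [ι_eq_zero.1 h0]; rfl)
    have d1 := congrArg (fun v : V8 K => v.2.2.1) e5
    have d2 := congrArg (fun v : V8 K => (ι v.2.2.2 : K)) e5
    simp only [sm, pt, ulF, zero_add, map_mul, ← mul_sh] at d1 d2
    refine eq_inv_of_mul_eq_one_right (mul_left_cancel₀ w0 ?_)
    linear_combination -(γ a) * d1 + d2
  exact ⟨l, ρ, hl, fun a => by rw [hγ, ← e4]; rfl⟩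

end H69.T3
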