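import Mathlib
import Cfsg.Agent.Lib.T3F.Defs
import Cfsg.Agent.Lib.T3F.VZ
import Cfsg.Agent.Lib.T3F.VN
import Cfsg.Agent.Lib.T3F.FL2

set_option autoImplicit false
set_option linter.unusedSectionVars false
set_option linter.unusedVariables false
set_option linter.unusedSimpArgs false

namespace H69.T3

open H89.D4S Subgroup
open H93.SX hiding sh
open H68 (SylowIn)
open scoped commutatorElement

variable {k K : Type*} [Field k] [Field K] [Cub k K] [Finite k] [Finite K] [Fc K]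
  {p : ℕ} [Fact p.Prime] [CharP K p] {H : Subgroup (G8 K)} {g h z : G8 K}

namespace VP

variable {c a d : K} {e s ν μ : k}

theorem sm_sm (s t : k) (v : V8 K) : sm s (sm t v) = sm (s * t) v := by
  apply ext8 <;> simp only [sm] <;> cb

theorem sm_one (v : V8 K) : sm 1 v = v := by simp [sm]

theorem sm_add (s : k) (v w : V8 K) : sm s (v + w) = sm s v + sm s w := by simp [sm, mul_add]

theorem Bf_sm (s t : k) (v w : V8 K) : Bf (sm s v) (sm t w) = s * t * Bf v w := by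
  simp only [Bf, sm]; cbk K

theorem y1_eq {v : V8 K} (h : v ∈ Y1 K) : v = sm v.2.2.2 (yv K) := by
  obtain ⟨b, c, d, e⟩ := v
  obtain ⟨rfl, rfl, rfl⟩ : b = 0 ∧ c = 0 ∧ d = 0 := h
  simp [sm, yv]

theorem uu_y (a : K) : uu a • yv K = yv K := by simp [-LinearEquiv.smul_def, uu_smul, uF, yv]

theorem uu_v (a c : K) (e : k) : uu a • ((0, c, 0, e) : V8 K) = (0, c, cr a c, e + T (sh a * c)) := by
  simp [-LinearEquiv.smul_def, uu_smul, uF]

theorem T_cc (a c : K) : T (cr a c * c) = 2 * T (a * sh c) := by cbk K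

theorem orb (C : Cu p H) (hh : h ∈ H) (hg : g ∈ H) (e : h⁻¹ • g • yv K ∈ Y3 K) :
    ∃ t, g • yv K = sm t (h • yv K) := by
  have hm := mul_mem (inv_mem hh) hg
  have h1 : h⁻¹ * g ∈ sb (G8 K) (Y1 K) := by_contra fun c => C.notY3 hm c (by rwa [mul_smul])
  obtain ⟨σ, s, -, e1, -⟩ := C.semi hh
  have := y1_eq ((C.sb1 hm).1 h1)
  rw [mul_smul, inv_smul_eq_iff, e1] at this
  exact ⟨_, this⟩

/-- the standing hypotheses -/
structure St (p : ℕ) (H : Subgroup (G8 K)) (z : G8 K) (s : k) : Prop where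
  C : Cu p H
  h2 : (2 : k) ≠ 0
  hz : z ∈ H
  ez : ∀ v : V8 K, z • v = zF s v

namespace St

variable (S : St p H z s) (hh : h ∈ H) (hv : h • yv K = (0, c, 0, e))
include S hh hv

theorem vp : (∀ a, z * (h * uu a * h⁻¹) * z⁻¹ = h * uu (-a) * h⁻¹) ∧
    ∀ w : V8 K, z • w = sm (-(-1)) w → Bf w (h • yv K) = 0 → h⁻¹ • w ∈ Y3 K :=
  S.C.vp1 S.h2 S.hz S.ez hh (Or.inr rfl) (by rw [hv, S.ez]; simp [zF, sm])

theorem w0 (hd : T (d * c) = 0) : h⁻¹ • ((0, 0, d, 0) : V8 K) ∈ Y3 K :=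
  (S.vp hh hv).2 _ (by rw [S.ez]; simp [zF, sm]) (by rw [hv]; simp [Bf, hd])

theorem nin (hg : g ∈ H) {t : k} (hd : T (d * c) = 0)
    (eg : g • yv K = sm t (0, c, 0, e) + (0, 0, d, 0)) : d = 0 := by
  obtain ⟨σ, s, -, e1, -⟩ := S.C.semi (inv_mem hh)
  obtain ⟨t', e2⟩ := orb S.C hh hg (by
    rw [eg, smul_add, e1, ← hv, inv_smul_smul]
    exact add_mem (by simp [sm, yv]) (S.w0 hh hv hd))
  rw [eg, hv] at e2
  simpa [sm] using congrArg (fun v : V8 K => v.2.2.1) e2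

theorem surj (hc : c ≠ 0) (t : k) : ∃ a, T (a * sh c) = 0 ∧ T (sh a * c) = t :=
  nu_surj S.h2 (fun a h1 h2 => cr_eq_zero S.h2 hc (by
    rw [cr_comm]
    refine S.nin hh hv (mul_mem (S.C.uu_mem a) hh) (t := 1) (by rw [T_cc, h1, mul_zero]) ?_
    rw [mul_smul, hv, uu_v, h2]
    simp [sm])) t

theorem ex_u (h1 : h ∉ sb (G8 K) (Y1 K)) (hd : T (d * c) = 0) : ∃ a x,
    (h * uu a * h⁻¹) • yv K = yv K + (0, 0, d, 0) + sm x (0, c, 0, e) := by
  obtain ⟨σ, s, -, e1, -⟩ := S.C.semi hh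
  have y4 : (h⁻¹ • yv K).1 = 0 := by
    have := (S.C.perp hh (h⁻¹ • yv K) (yv K)).1 (by rw [smul_inv_smul, hv]; simp [Bf, yv])
    simpa [Bf, yv] using this
  have y3 : (h⁻¹ • yv K).2.1 ≠ 0 := fun c =>
    S.C.notY3 (inv_mem hh) (fun c => h1 (inv_mem_iff.1 c)) ⟨y4, c⟩
  have w3 := S.w0 hh hv hd
  obtain ⟨a, ha⟩ := cr_surj S.h2 y3 (h⁻¹ • ((0, 0, d, 0) : V8 K)).2.2.1
  have := y1_eq (v := uu a • h⁻¹ • yv K - (h⁻¹ • yv K + h⁻¹ • ((0, 0, d, 0) : V8 K))) (by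
    simp [-LinearEquiv.smul_def, uu_smul, uF, y4, w3.1, w3.2, cr_comm a, ha])
  rw [sub_eq_iff_eq_add'] at this
  refine ⟨a, ?_⟩
  rw [mul_smul, mul_smul, this, smul_add, smul_add, smul_inv_smul, smul_inv_smul, e1, hv]
  exact ⟨_, rfl⟩

theorem u_w (a : K) (hd : T (d * c) = 0) : ∃ x,
    (h * uu a * h⁻¹) • ((0, 0, d, 0) : V8 K) = (0, 0, d, 0) + sm x (0, c, 0, e) := by
  obtain ⟨σ, s, -, e1, -⟩ := S.C.semi hh
  have w3 := S.w0 hh hv hd
  have := y1_eq (v := uu a • h⁻¹ • ((0, 0, d, 0) : V8 K) - h⁻¹ • ((0, 0, d, 0) : V8 K)) (by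
    simp [-LinearEquiv.smul_def, uu_smul, uF, w3.1, w3.2])
  rw [sub_eq_iff_eq_add'] at this
  rw [mul_smul, mul_smul, this, smul_add, smul_inv_smul, e1, hv]
  exact ⟨_, rfl⟩

theorem mm (h1 : h ∉ sb (G8 K) (Y1 K)) (hc : c ≠ 0) (ha : T (a * sh c) = 0) (hν : T (sh a * c) = ν)
    (hμ : ν * μ = 1) : ∃ m ∈ H, Li m 1 ∧ m • ((0, c, 0, e) : V8 K) = sm ν (yv K) ∧
      m • yv K = sm μ (0, c, 0, e) ∧
      ∀ d, T (d * c) = 0 → T (a * d) = 0 → (m • ((0, 0, d, 0) : V8 K)).2.2.1 = d := by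
  have hμ' : (ι ν : K) * ι μ = 1 := by rw [← map_mul, hμ, map_one]
  obtain ⟨b, x, eu⟩ := S.ex_u hh hv h1 (d := ι μ * cr a c) (by
    rw [mul_assoc, T_ι_mul, T_cc, ha, mul_zero, mul_zero])
  have ez := (S.vp hh hv).1 b
  have uw := fun d => S.u_w hh hv (d := d) (-b)
  have um : h * uu (-b) * h⁻¹ ∈ H := mul_mem (mul_mem hh (S.C.uu_mem _)) (inv_mem hh)
  have ul : Li (h * uu (-b) * h⁻¹) 1 := by
    obtain ⟨σ, l, -⟩ := S.C.li_conj (inv_mem hh) (li_uu (-b))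
    rwa [inv_inv, map_one] at l
  have uv : (h * uu (-b) * h⁻¹) • ((0, c, 0, e) : V8 K) = (0, c, 0, e) := by
    rw [← hv, mul_smul, mul_smul, inv_smul_smul, uu_y]
  have ui : h * uu (-b) * h⁻¹ * (h * uu b * h⁻¹) = 1 := by rw [uu_neg]; group
  generalize h * uu (-b) * h⁻¹ = u' at *
  generalize h * uu b * h⁻¹ = u at *
  have e1 : uu a • ((0, c, 0, e) : V8 K) = sm ν (u • yv K) + sm (1 - ν * x) (0, c, 0, e) := by
    rw [eu, uu_v, hν]
    refine Prod.ext ?_ (Prod.ext ?_ (Prod.ext ?_ ?_)) <;> simp [sm, yv]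
    · ring
    · rw [← mul_assoc, hμ', one_mul]
    · ring
  have e2 : u' • uu a • ((0, c, 0, e) : V8 K) = sm ν (yv K) + sm (1 - ν * x) (0, c, 0, e) := by
    rw [e1, smul_add, ul.lin, ul.lin, uv, smul_smul, ui, one_smul]
  have κ0 : 1 - ν * x = 0 := by
    by_contra hκ
    generalize 1 - ν * x = κ at *
    obtain ⟨a', h3, h4⟩ := S.surj hh hv hc (ν / κ)
    have h5 : cr a' c = 0 := S.nin (h := u' * uu a * h) (c := ι κ * c) (e := ν + κ * e)
      (mul_mem (mul_mem um (S.C.uu_mem _)) hh) (by rw [mul_smul, mul_smul, hv, e2]; simp [sm, yv])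
      (mul_mem (S.C.uu_mem a') hh) (t := κ⁻¹)
      (by rw [mul_left_comm, T_ι_mul, T_cc, h3, mul_zero, mul_zero]) (by
        have : (ι κ : K) ≠ 0 := by simpa using hκ
        rw [mul_smul, hv, uu_v, h4]
        refine Prod.ext ?_ (Prod.ext ?_ (Prod.ext ?_ ?_)) <;> simp [sm]
        · field_simp
        · field_simp; ring)
    rw [cr_comm] at h5
    rw [cr_eq_zero S.h2 hc h5] at h4
    have : ν = 0 := by simpa [hκ] using h4.symm
    simp [this] at hμ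
  obtain rfl : μ = x := by linear_combination μ * κ0 + x * hμ
  have e3 : u' • uu a • ((0, c, 0, e) : V8 K) = sm ν (yv K) := by rw [e2, κ0]; simp [sm]
  have e4 : u' • yv K = sm μ (uu (-a) • (0, c, 0, e)) := by
    have k1 : u' • z • yv K = z • u • yv K := by rw [← ez, smul_smul, smul_smul, inv_mul_cancel_right]
    have k2 : z • yv K = sm (-1) (yv K) := by rw [S.ez]; simp [zF, sm, yv]
    rw [k2, ul.lin, eu, S.ez] at k1
    rw [← sm_one (u' • yv K), ← show (-1 : k) * -1 = 1 by ring, ← sm_sm, k1, uu_v, sh_neg, hν]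
    refine Prod.ext ?_ (Prod.ext ?_ (Prod.ext ?_ ?_)) <;> simp [sm, yv, zF]
    linear_combination -hμ
  refine ⟨u' * uu a * u', mul_mem (mul_mem um (S.C.uu_mem _)) um, by
    simpa using (ul.mul (li_uu a)).mul ul, by rw [mul_smul, mul_smul, uv, e3], ?_, fun d h3 h4 => ?_⟩
  · rw [mul_smul, mul_smul, e4, (li_uu a).lin, ul.lin, smul_smul (uu a), ← uu_add, add_neg_cancel, uu_zero,
      one_smul, uv]
  · obtain ⟨x, e5⟩ := uw d h3
    have e6 : uu a • ((0, 0, d, 0) : V8 K) = (0, 0, d, 0) := by simp [-LinearEquiv.smul_def, uu_smul, uF, h4]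
    rw [mul_smul, mul_smul, e5, smul_add, e6, (li_uu a).lin, smul_add, e5, ul.lin, e3]
    simp [sm, yv]

theorem false (h1 : h ∉ sb (G8 K) (Y1 K)) (hc : c ≠ 0) : False := by
  obtain ⟨a, ha, hν⟩ := S.surj hh hv hc 1
  obtain ⟨a', ha', hν'⟩ := S.surj hh hv hc 2
  obtain ⟨m, hm, l, mv, my, md⟩ := S.mm hh hv h1 hc ha hν (mul_one 1)
  obtain ⟨m', hm', l', mv', my', md'⟩ := S.mm hh hv h1 hc ha' hν' (mul_inv_cancel₀ S.h2)
  have h2 := S.h2
  have h2' : (2 : K) ≠ 0 := fun c => h2 (two_iff.1 c)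
  rw [sm_one] at mv my
  have τm : m⁻¹ * m' ∈ H := mul_mem (inv_mem hm) hm'
  have τl : Li (m⁻¹ * m') 1 := by simpa using l.inv.mul l'
  have τy : (m⁻¹ * m') • yv K = sm 2⁻¹ (yv K) := by rw [mul_smul, my', l.inv.lin, ← my, inv_smul_smul]
  have τv : (m⁻¹ * m') • ((0, c, 0, e) : V8 K) = sm 2 (0, c, 0, e) := by
    rw [mul_smul, mv', l.inv.lin, ← mv, inv_smul_smul]
  have τG : ∀ G : V8 K, (m⁻¹ * m') • G = sm 2 G → m' • G = sm 2 (m • G) := fun G e => by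
    rw [← l.lin, ← e, mul_smul, smul_inv_smul]
  generalize m⁻¹ * m' = τ at *
  have τ1 : τ ∈ sb (G8 K) (Y1 K) := (S.C.sb1 τm).2 (by rw [τy]; simp [sm, yv])
  obtain ⟨γ, hγ⟩ := S.C.normU τm τ1
  have k0 : ∀ w : V8 K, τ • uu c • w = uu (γ c) • τ • w := fun w => by
    rw [← hγ, smul_smul, smul_smul, inv_mul_cancel_right]
  have β : (τ • ((1, 0, 0, 0) : V8 K)).1 = 2 := by
    have := τl.bf (1, 0, 0, 0) (yv K)
    rw [τy] at this
    simp [Bf, sm, yv] at this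
    field_simp at this
    exact this
  have γc : γ c = c := by
    have k1 : uu c • ((1, 0, 0, 0) : V8 K) = (1, 0, 0, 0) + (0, c, 0, e) + (0, 0, sh c, N c - e) := by
      simp [-LinearEquiv.smul_def, uu_smul, uF]
    have k2 := congrArg (fun v : V8 K => v.2.1) (k0 (1, 0, 0, 0))
    have k3 : τ • ((0, 0, sh c, N c - e) : V8 K) ∈ Y3 K := (S.C.sb3 τm τ1 _).2 ⟨rfl, rfl⟩
    rw [k1, smul_add, smul_add, τv] at k2
    simp only [uu_smul, uF, β, sm, Prod.fst_add, Prod.snd_add, k3.2, map_ofNat, add_zero] at k2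
    exact (mul_left_cancel₀ h2' (add_left_cancel k2)).symm
  have k4 : uu c • ((0, c, 0, e) : V8 K) = (0, c, 0, e) + (0, 0, 2 * sh c, 3 * N c) := by
    rw [uu_v, cr_self', mul_comm (sh c), T_mul_sh']; simp
  have k5 := k0 (0, c, 0, e)
  rw [γc, τv, (li_uu c).lin, k4, smul_add, τv, sm_add] at k5
  have k6 := τG _ (add_left_cancel k5)
  have k7 : T (2 * sh c * c) = 2 * (3 * N c) := by cbk K
  by_cases h3 : (3 : k) = 0
  · have k8 : ∀ a : K, T (a * sh c) = 0 → T (a * (2 * sh c)) = 0 := fun a ha => by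
      rw [two_mul, mul_add, map_add, ha, add_zero]
    rw [h3, zero_mul] at k6 k7
    have k9 := congrArg (fun v : V8 K => v.2.2.1) k6
    simp only [sm, md _ (k7.trans (mul_zero _)) (k8 a ha), md' _ (k7.trans (mul_zero _)) (k8 a' ha'),
      map_ofNat] at k9
    exact mul_ne_zero h2' (sh_ne hc) (by linear_combination -k9)
  · have b1 := l.bf (0, 0, 2 * sh c, 3 * N c) (0, c, 0, e)
    have b2 := l'.bf (0, 0, 2 * sh c, 3 * N c) (0, c, 0, e)
    rw [k6, mv', Bf_sm, ← mv, b1] at b2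
    simp only [Bf, zero_mul, mul_zero, map_zero, k7] at b2
    exact mul_ne_zero h2 (mul_ne_zero h3 (mul_ne_zero h3 (N_ne hc))) (by linear_combination b2)

end St

end VP

theorem Cu.ppo (C : Cu p H) (h2 : (2 : k) ≠ 0) (ht : HT H) : Pp H := by
  intro h hh h1 hb
  obtain ⟨s, z, hz, ez⟩ := C.zz h2 ht
  have hc : (h • yv K).2.1 ≠ 0 := fun c => C.notY3 hh h1 ⟨hb, c⟩
  obtain ⟨a, ha⟩ := cr_surj h2 hc (-(h • yv K).2.2.1)
  refine VP.St.false ⟨C, h2, hz, ez⟩ (mul_mem (C.uu_mem a) hh) (e := ((uu a * h) • yv K).2.2.2) ?_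
    (fun c => h1 ((mul_mem_cancel_left (mem_inf.1 (mem_inf.1 (uu_sb a)).1).1).1 c)) hc
  rw [mul_smul]
  simp [-LinearEquiv.smul_def, uu_smul, uF, hb, cr_comm a, ha]

end H69.T3
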