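import Mathlib
import Cfsg.Agent.Lib.T3F.VB
import Cfsg.Agent.Lib.T3F.VP
import Cfsg.Agent.Lib.T3F.VE
import Cfsg.Agent.Lib.T3F.VE2
import Cfsg.Agent.Lib.T3F.VF
import Cfsg.Agent.Lib.T3F.VG
import Cfsg.Agent.Lib.T3F.T7
import Cfsg.Agent.Lib.T3F.TW
import Cfsg.Agent.Lib.T3F.K1
import Cfsg.Agent.Lib.T3F.K2
import Cfsg.Agent.Lib.T3F.CT

/-! # The standard form of a fusion system with two essential subgroups -/

set_option autoImplicit false
set_option linter.unusedSectionVars false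
set_option linter.unusedVariables false

namespace H69.T3

open H89.D4S Subgroup
open H93.SX hiding sh

universe u

variable {k K : Type*} [Field k] [Field K] [Cub k K] [Finite k] [Finite K] [Fc K]
  {p : ℕ} [Fact p.Prime] [CharP K p] {H : Subgroup (G8 K)}

theorem Cu.pp (C : Cu p H) (ht : HT H) : Pp H := by
  by_cases h2 : (2 : k) = 0
  · exact C.pp2 h2
  · exact C.ppo h2 ht

theorem Cu.cc (C : Cu p H) (hq : Nat.card k ≠ 2) (ht : HT H) (S : Std H) : CC H := by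
  by_cases h2 : (2 : k) = 0
  · exact C.cc2 h2 hq ht S
  · exact C.cc1 h2 ht S

theorem Cu.first (C : Cu p H) (hm : ¬ H ≤ sb (G8 K) (Y1 K)) (hq : Nat.card k ≠ 2) (ht : HT H) :
    Sl H ∧ To H := by
  obtain ⟨η, e, S⟩ := C.et (C.pp ht)
  have C' := C.conj e
  have hu := C'.ul (mv_cjg e hm) S (C'.cc hq (ht.conj e) S)
  exact ⟨(C'.sl S hu).of_cjg e, (C'.to hu).of_cjg e⟩

theorem Cu.second (C : Cu p H) (hm : ¬ H ≤ sb (G8 K) (Y1 K)) (ht : HT H)
    (h1 : ∀ l : K, l ≠ 0 → Has H (tauF l 1)) : Sl H ∧ Br H := by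
  have S := C.std (C.pp ht) h1
  have c : CC H := by
    by_cases hq : Nat.card k = 2
    · exact C.cc3 hq h1 S
    · exact C.cc hq ht S
  have hu := C.ul hm S c
  exact ⟨C.sl S hu, C.br S hu⟩

variable {Γ : Type u} [Group Γ] [Finite Γ] {j : Wd K →* Γ}

theorem ht_of (F : Cf p j) (h1 : Mv1 j) : HT (HV F.inj) := fun t ht =>
  let ⟨_, a⟩ := l1_h F h1 ht
  a.t1 F.inj ht

theorem exists_ex (F : Cf p j) (h1 : Mv1 j) (h2 : Mv2 j) :
    ∃ (η : Wd K ≃* Wd K) (Φ : Subgroup (K ≃+* K)), Ex (j.comp η.toMonoidHom) Φ := by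
  by_cases hq : Nat.card k = 2
  · obtain ⟨h, hh, s1, h7⟩ := (cuV F).seven hq (mvV F h2)
    obtain ⟨η, hη⟩ := t7 F hq hh s1 h7
    have F' := F.comp η
    have a := ((cuV F').second (mvV F' (h2.comp η)) (ht_of F' (h1.comp η)) fun l hl =>
      let ⟨_, e⟩ := hη l hl
      has_tau F'.inj e).1
    obtain ⟨η', Φ, e⟩ := tw F' (a.aa F') fun l m hl hm => by
      obtain ⟨g, e⟩ := hη l hl
      obtain ⟨x, -, hx⟩ := (Nat.card_eq_two_iff' (0 : k)).1 hq
      obtain rfl : m = 1 := (hx m hm).trans (hx 1 one_ne_zero).symm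
      refine ⟨g, mem_nr fun x _ => ⟨_, mem_top _, e x⟩, fun x y c => ?_⟩
      rw [c.uniq F'.inj (e x)]
      simp
    exact ⟨η'.trans η, Φ, e⟩
  · obtain ⟨a, b⟩ := (cuV F).first (mvV F h2) hq (ht_of F h1)
    refine tw F (a.aa F) fun l m hl hm => ?_
    obtain ⟨μ, e1, e2⟩ := exists_sqrt hl
    have hN := N_ne hl
    have hμ : ι m * μ ≠ 0 := mul_ne_zero (by simpa using hm) fun e => by
      rw [e] at e2
      simp [hN] at e2
      exact hN (pow_eq_zero_iff (two_ne_zero) |>.1 e2.symm)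
    obtain ⟨g, c⟩ := b.ab F hμ
    obtain ⟨g', c'⟩ := l1_h F h1 (t := m ^ 2 * N l) (mul_ne_zero (pow_ne_zero _ hm) hN)
    refine ⟨g * g', ?_⟩
    have h3 : (ι m : K) ≠ 0 := by simpa using hm
    have h4 : (ι (N l) : K) ≠ 0 := by simpa using hN
    convert c.mul c' using 1
    · rw [mul_pow, e1, map_inv₀, map_mul, map_pow]
      field_simp
    · rw [map_mul, e2, N_ι]
      field_simp

theorem exists_sd (F : Cf p j) (h1 : Mv1 j) (h2 : Mv2 j) :
    ∃ (η : Wd K ≃* Wd K) (Φ : Subgroup (K ≃+* K)), Sd (j.comp η.toMonoidHom) Φ := by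
  obtain ⟨η, Φ, e⟩ := exists_ex F h1 h2
  have F' := F.comp η
  refine ⟨η, Φ, e, bq1 F' e (h1.comp η), bq2 F' e ((cuV F').second (mvV F' (h2.comp η))
    (ht_of F' (h1.comp η)) fun l hl => ?_).2⟩
  obtain ⟨g, c⟩ := e.ex l hl 1 one_ne_zero 1 (one_mem _)
  exact has_tau F'.inj c

end H69.T3
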