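import Mathlib
import Cfsg.Agent.Lib.T3F.PE
import Cfsg.Agent.Lib.T3F.SD
import Cfsg.Agent.Lib.T3F.MK
import Cfsg.Agent.Lib.T3F.MC
import Cfsg.Agent.Lib.T3F.MD
import Cfsg.Agent.Lib.T3F.ME
import Cfsg.Agent.Lib.T3F.MX

/-! # Saturated fusion systems on a Sylow subgroup of `³D₄(q)` are realizable -/

set_option autoImplicit false
set_option linter.unusedSectionVars false
set_option linter.unusedVariables false

namespace H69.T3

open H89.D4S Subgroup Cfsg
open H93.SX hiding sh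

universe u

theorem exists_md0 (K : Type*) [Field K] [Fintype K] (p : ℕ) [Fact p.Prime] [CharP K p] {q : ℕ}
    (hq : IsPrimePow q) (hK : Fintype.card K = q ^ 3) :
    ∃ (k : Subfield K) (_ : Cub k K) (_ : Fc K) (φ : Wd K →* Lie.twistedD4 K q), Md0 p φ := by
  obtain ⟨k, _, _, hk, hθ⟩ := exists_cub3 K hq hK
  obtain ⟨R, El, hE, Tw, h, hA⟩ := H39.exists_D4 hq hK
  obtain ⟨r, ε, φ, m⟩ := exists_mo h hk hθ
  have hD : Tw.HasDF := H39.hasDF (by simp) fun i => ⟨q, h.hφ i⟩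
  have M : Md0 p φ := ⟨m.md h hk hθ p, m.tor h hk hθ, m.nrm h hk hθ, m.fld h hk hθ hD⟩
  exact ⟨k, _, ‹_›, _, M.congr ((Tw.Γ.equivMapOfInjective _ (Subgroup.subtype_injective _)).trans
    (MulEquiv.subgroupCongr hA.symm))⟩

variable {k K : Type*} [Field k] [Field K] [Cub k K] [Finite k] [Finite K] [Fc K]
  {p : ℕ} [Fact p.Prime] [CharP K p] {Γ : Type u} [Group Γ] [Finite Γ] {j : Wd K →* Γ}

theorem real {G : Type*} [Group G] [Finite G] {φ : Wd K →* G} (M : Md0 p φ) (F : Cf p j) :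
    (groupFusionSystem j.range).IsRealizable p := by
  by_cases h : Es p j (Q1 K) ∧ Es p j (Q2 K)
  · obtain ⟨η, Φ, S⟩ := exists_sd F (es_mv1 F h.1) (es_mv2 F h.2)
    have F1 := F.comp η
    obtain ⟨ρ, rfl⟩ := exists_gen Φ
    obtain ⟨A, ψ, m, t⟩ := M.ext ρ (by simpa using S.ex.cop F1)
    have : Finite (G ⋊[A.subtype] A) := Finite.of_equiv _ SemidirectProduct.equivProd.symm
    have F' := m.cf
    obtain ⟨η', Φ', S'⟩ := exists_sd F' m.mv1 m.mv2
    have F2 := F'.comp η'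
    obtain rfl : Φ' = zpowers ρ := by
      have e := (S'.ex.ta F2.inj).ia_eq F2.inj
      rw [ia_comp, t.ia_eq F'.inj] at e
      exact sub_eq (Nat.eq_of_mul_eq_mul_left (Nat.sub_pos_of_lt Finite.one_lt_card) e).symm
    obtain ⟨P, hP⟩ := m.syl
    have a := S.eqv F1.inj F2.inj S'
    have b := S'.eqv F2.inj F1.inj S
    rw [← range_comp (ι := j) η]
    refine real_of_eqv F1 F2 P (hP.trans (range_comp η').symm) fun E hE => ?_
    rcases hE.imp_right fun e => e.elim (es_cases F1) (es_cases F2) with rfl | rfl | rfl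
    exacts [⟨a.1, b.1⟩, ⟨a.2.1, b.2.1⟩, ⟨a.2.2, b.2.2⟩]
  · refine F.real_of_uniq fun E E' e e' => ?_
    rcases es_cases F e with rfl | rfl <;> rcases es_cases F e' with rfl | rfl
    exacts [rfl, (h ⟨e, e'⟩).elim, (h ⟨e', e⟩).elim, rfl]

end H69.T3
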